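/-
Project ND4 (S4780, helper17): solvable groups without divisibility among the nonlinear character degrees.  Named steps.
-/
import Cfsg.Agent.Char.NDiv3
import Cfsg.Agent.Grp.RegOrbit
import Cfsg.Agent.Grp.SylowIn
import Cfsg.Agent.Grp.Comm1
import Cfsg.Agent.Loc.Chief

set_option autoImplicit false

namespace CL.ND4

open Cfsg Subgroup CL.Grp CL.Char CL.Char.NDiv CL.Char.RelDeg CL.Char.Palfy CL.Grp.Homog
open scoped commutatorElement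

universe u

section defs

variable {G : Type u} [Group G]

/-- `X ⊓ R` lies in the kernel of `θ` -/
def Kr {R : Subgroup G} (θ : R → ℂ) (X : Subgroup G) : Prop := X.subgroupOf R ≤ charKer θ
/-- the linear character `l` is trivial on `X` -/
def Tr {D : Subgroup G} (l : Lin D) (X : Subgroup G) : Prop := ∀ w ∈ X, ev l w = 1

abbrev g2 (R : Subgroup G) : Subgroup G := ⁅R, R⁆
abbrev g3 (R : Subgroup G) : Subgroup G := ⁅g2 R, R⁆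
abbrev g4 (R : Subgroup G) : Subgroup G := ⁅g3 R, R⁆
abbrev g5 (R : Subgroup G) : Subgroup G := ⁅g4 R, R⁆
abbrev sS (R : Subgroup G) : Subgroup G := ⁅R, ⊤⁆
abbrev tT (R H : Subgroup G) : Subgroup G := R ⊓ centralizer (H : Set G)
abbrev r0 (R H : Subgroup G) : Subgroup G := tT R H ⊔ g2 R
abbrev nN (R : Subgroup G) : Subgroup G := R ⊔ centralizer (R : Set G)

/-- the centraliser of the section `A / B` -/
def cen (A B : Subgroup G) [hB : B.Normal] : Subgroup G where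
  carrier := {g | ∀ w ∈ A, ⁅w, g⁆ ∈ B}
  one_mem' := fun w _ => by simp
  mul_mem' := fun {a b} ha hb w hw => by
    rw [show ⁅w, a * b⁆ = ⁅w, a⁆ * (a * ⁅w, b⁆ * a⁻¹) by simp only [commutatorElement_def]; group]
    exact mul_mem (ha w hw) (hB.conj_mem _ (hb w hw) a)
  inv_mem' := fun {a} ha w hw => by
    rw [show ⁅w, a⁻¹⁆ = a⁻¹ * ⁅w, a⁆⁻¹ * a⁻¹⁻¹ by simp only [commutatorElement_def]; group]
    exact hB.conj_mem _ (inv_mem (ha w hw)) _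

theorem mem_cen {A B : Subgroup G} [B.Normal] {g : G} : g ∈ cen A B ↔ ∀ w ∈ A, ⁅w, g⁆ ∈ B := Iff.rfl

abbrev dD (R : Subgroup G) [R.Normal] : Subgroup G := cen (g2 R) (g3 R)
abbrev eE (R : Subgroup G) [R.Normal] : Subgroup G := cen (g3 R) (g4 R)

/-- the linear characters of `X` which are trivial on `K` -/
def trv (X K : Subgroup G) : Subgroup (Lin X) where
  carrier := {l | Tr l K}
  one_mem' := fun w _ => ev_lone w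
  mul_mem' := fun {a b} ha hb w hw => by rw [ev_lmul, ha w hw, hb w hw, mul_one]
  inv_mem' := fun {a} ha w hw => by
    have := ev_ldiv 1 a w
    rwa [one_div, ev_lone, ha w hw, div_one] at this

theorem mem_trv {X K : Subgroup G} {l : Lin X} : l ∈ trv X K ↔ Tr l K := Iff.rfl

theorem inv_trv {X K : Subgroup G} [X.Normal] [hK : K.Normal] : RelDeg.Inv (trv X K) := fun g l hl w hw => by
  rw [ev_smul]; exact hl _ (hK.conj_mem' w hw g)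

/-- a normal Sylow subgroup with an abelian complement -/
structure N0 (R H : Subgroup G) (r : ℕ) : Prop where
  hr : r.Prime
  pR : IsPGroup r R
  cop : (Nat.card H).Coprime r
  fac : ∀ g : G, ∃ h ∈ H, ∃ x ∈ R, g = h * x
  ab : ∀ a ∈ H, ∀ b ∈ H, a * b = b * a

theorem N0.comm {R H : Subgroup G} [hR : R.Normal] {r : ℕ} (h : N0 R H r) : commutator G ≤ R := by
  refine (commutator_le (H₃ := R)).2 fun a _ b _ => ?_
  obtain ⟨a, ha, x, hx, rfl⟩ := h.fac a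
  obtain ⟨b, hb, y, hy, rfl⟩ := h.fac b
  rw [← QuotientGroup.eq_one_iff, ← QuotientGroup.mk'_apply, map_commutatorElement, map_mul, map_mul,
    QuotientGroup.mk'_apply R x, QuotientGroup.mk'_apply R y, (QuotientGroup.eq_one_iff x).2 hx,
    (QuotientGroup.eq_one_iff y).2 hy, mul_one, mul_one, commutatorElement_eq_one_iff_mul_comm, ← map_mul, ← map_mul,
    h.ab a ha b hb]

theorem N0.normal {R H : Subgroup G} [R.Normal] {r : ℕ} (h : N0 R H r) {Y : Subgroup G} (hY : R ≤ Y) : Y.Normal :=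
  Normal.of_commutator_le _ (h.comm.trans hY)

/-- separation by linear characters -/
theorem exists_trv [Finite G] {X K : Subgroup G} (hc : ⁅X, X⁆ ≤ K) {x : G} (hx : x ∈ X) (hK : x ∉ K) :
    ∃ l ∈ trv X K, ev l x ≠ 1 := by
  obtain ⟨l, l1, l2⟩ := exists_monoidHom_of_not_mem (N := K.subgroupOf X)
    (fun y hy => mem_subgroupOf.2 (hc (mem_comm.1 hy))) (g := ⟨x, hx⟩) fun e => hK (mem_subgroupOf.1 e)
  refine ⟨(l : Lin X), fun w hw => ?_, fun e => l2 ((ev_of (D := X) l hx).symm.trans e)⟩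
  by_cases h : w ∈ X
  · exact (ev_of (D := X) l h).trans (l1 (mem_subgroupOf.2 hw))
  · exact dif_neg h

theorem cen_smul {X K : Subgroup G} [hX : X.Normal] [K.Normal] (hK : K ≤ X) {l : Lin X} (hl : l ∈ trv X K) {g : G}
    (hg : g ∈ cen X K) : g • l = l := by
  have : g • l / l = 1 := lin_one fun w hw => by
    have h0 : ⁅w, g⁻¹⁆⁻¹ ∈ K := inv_mem ((inv_mem hg) w hw)
    rw [ev_ldiv, ev_smul, show g⁻¹ * w * g = ⁅w, g⁻¹⁆⁻¹ * w by simp only [commutatorElement_def]; group,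
      ev_mul l (hK h0) hw, hl _ h0, one_mul, div_self']
  exact div_eq_one.1 this

variable (R H : Subgroup G) [R.Normal] (r : ℕ)

/-- the monotone form of the hypothesis on the degrees -/
structure NS : Prop extends N0 R H r where
  nd : ∀ θ θ' : R → ℂ, IsIrrCharacter R θ → IsIrrCharacter R θ' → (charDegree θ ≠ 1 ∨ inertia R θ ≠ ⊤) →
    charDegree θ ∣ charDegree θ' → inertia R θ' ≤ inertia R θ →
      charDegree θ' = charDegree θ ∧ inertia R θ ≤ inertia R θ'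
  nt : nN R ≠ ⊤

/-- the first layer, linear part -/
structure N1 : Prop extends NS R H r where
  reg : ∀ l : Lin R, ∀ g ∉ nN R, g • l = l → ∀ k : G, k • l = l
  lin : ∀ θ : R → ℂ, IsIrrCharacter R θ → charDegree θ ≠ 1 → ¬ inertia R θ ≤ nN R
  ts : ∀ x ∈ R, ∃ t ∈ tT R H, ∃ s ∈ sS R, x = t * s
  ne0 : ∃ s ∈ sS R, s ∉ r0 R H
  nr0 : (r0 R H).Normal
  inv1 : ∀ φ : G → ℂˣ, (∀ a ∈ sS R, ∀ b ∈ sS R, φ (a * b) = φ a * φ b) → (∀ w ∈ g2 R, φ w = 1) →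
    ∀ g ∉ nN R, (∀ s ∈ sS R, φ (g * s * g⁻¹) = φ s) → ∀ s ∈ sS R, φ s = 1
  inv2 : ∀ U ≤ R, r0 R H ≤ U → ∀ φ : G → ℂˣ, (∀ a ∈ U, ∀ b ∈ U, φ (a * b) = φ a * φ b) → (∀ w ∈ r0 R H, φ w = 1) →
    ∀ g ∉ nN R, (∀ s ∈ U, g * s * g⁻¹ ∈ U ∧ φ (g * s * g⁻¹) = φ s) → ∀ s ∈ U, φ s = 1

/-- the first layer -/
structure N1' : Prop extends N1 R H r where
  pl1 : ∀ (X : Subgroup G) [X.Normal], X ≤ R → ∀ θ : X → ℂ, IsIrrCharacter X θ → ¬ Kr θ (g2 R) → ¬ inertia X θ ≤ nN R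
  van : ∀ θ : R → ℂ, IsIrrCharacter R θ → charDegree θ ≠ 1 → ∀ x : R, (x : G) ∉ r0 R H → θ x = 0
  cam : ∀ x ∈ R, x ∉ r0 R H → ∀ w ∈ g2 R, ∃ y ∈ R, ⁅x, y⁆ = w

/-- the second layer, first part -/
structure N2 : Prop extends N1' R H r where
  dN : ∃ d ∈ H, d ∈ dD R ∧ d ∉ nN R
  ts3 : ∀ t ∈ tT R H, ∀ s ∈ sS R, ⁅t, s⁆ ∈ g3 R
  gen2 : ∃ ψ : R → ℂ, IsIrrCharacter R ψ ∧ charDegree ψ ≠ 1 ∧ inertia R ψ ≤ dD R
  il : ∀ ψ : R → ℂ, IsIrrCharacter R ψ → charDegree ψ ≠ 1 → Kr ψ (g3 R) → ∃ l : Lin (g2 R), l ≠ 1 ∧ Tr l (g3 R) ∧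
    inertia R ψ = MulAction.stabilizer G l
  li : ∀ l : Lin (g2 R), l ≠ 1 → Tr l (g3 R) → ∃ ψ : R → ℂ, IsIrrCharacter R ψ ∧ charDegree ψ ≠ 1 ∧ Kr ψ (g3 R) ∧
    inertia R ψ = MulAction.stabilizer G l ∧ (Tr l (tT R H) → Kr ψ ⁅r0 R H, R⁆)

/-- the second layer -/
structure N2' : Prop extends N2 R H r where
  w1 : ∀ l : Lin (g2 R), Tr l (g3 R) → Tr l (tT R H) → ∀ g ∉ dD R, g • l = l → l = 1
  q2 : ∀ ψ : R → ℂ, IsIrrCharacter R ψ → charDegree ψ ≠ 1 → Kr ψ (g3 R) → inertia R ψ = ⊤ ∨ inertia R ψ = dD R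
  ex2 : dD R ≠ ⊤ → ∃ ψ : R → ℂ, IsIrrCharacter R ψ ∧ charDegree ψ ≠ 1 ∧ inertia R ψ = dD R ∧
    charDegree ψ ^ 2 = (r0 R H).relIndex R
  p2 : dD R ≠ ⊤ → ∀ ψ : R → ℂ, IsIrrCharacter R ψ → charDegree ψ ≠ 1 → inertia R ψ ≤ dD R → Kr ψ (g3 R)

/-- the third layer, commutators -/
structure N3 : Prop extends N2' R H r where
  c1 : ∀ w ∈ g2 R, ∀ t ∈ tT R H, ⁅w, t⁆ ∈ g4 R
  c2 : ∀ l : Lin (g3 R), Tr l (g4 R) → ∀ d ∈ dD R, d ∉ nN R → d • l = l → l = 1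
  c3 : dD R ≠ ⊤
  c3' : ∀ l : Lin (g3 R), Tr l (g4 R) → l ≠ 1 → ∃ h ∈ H, h ∉ nN R ∧ h • l = l
  ne3 : ∃ l : Lin (g3 R), Tr l (g4 R) ∧ l ≠ 1
  c4 : tT R H ⊓ g3 R ≤ g4 R
  c5 : ∀ t ∈ tT R H, ∀ s ∈ sS R, ⁅t, s⁆ ∈ g4 R

/-- the third layer, zeros -/
structure N3' : Prop extends N3 R H r where
  c6 : ∀ ψ : R → ℂ, IsIrrCharacter R ψ → ¬ Kr ψ (g3 R) → ∀ x : R, (x : G) ∈ g2 R →
    (x : G) ∉ (tT R H ⊓ g2 R) ⊔ g3 R → ψ x = 0
  nt1 : (tT R H ⊔ g3 R).Normal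
  c7 : ∀ ψ : R → ℂ, IsIrrCharacter R ψ → ¬ Kr ψ (g3 R) → Kr ψ (g4 R) → ∀ x : R, (x : G) ∉ tT R H ⊔ g3 R → ψ x = 0

/-- the third layer, the fully ramified characters -/
structure N4 : Prop extends N3' R H r where
  ext : ∀ l : Lin (g3 R), Tr l (g4 R) → ∃ m : Lin (tT R H ⊔ g3 R), Tr m (tT R H) ∧ ∀ z ∈ g3 R, ev m z = ev l z
  c8 : ∀ l : Lin (g3 R), Tr l (g4 R) → l ≠ 1 → ∃ ψ : R → ℂ, IsIrrCharacter R ψ ∧ charDegree ψ ≠ 1 ∧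
    charDegree ψ ^ 2 = (tT R H ⊔ g3 R).relIndex R ∧ inertia R ψ = MulAction.stabilizer G l
  c9 : ∀ ψ : R → ℂ, IsIrrCharacter R ψ → ¬ Kr ψ (g3 R) → Kr ψ (g4 R) →
    charDegree ψ ^ 2 = (tT R H ⊔ g3 R).relIndex R ∧ inertia R ψ = eE R
  e3 : ∀ l : Lin (g3 R), Tr l (g4 R) → ∀ g ∉ eE R, g • l = l → l = 1

/-- the third layer -/
structure N4' : Prop extends N4 R H r where
  c10 : ∀ t ∈ tT R H, ∀ y ∈ R, ⁅t, y⁆ ∈ g4 R
  c11 : tT R H ⊓ g2 R ≤ g3 R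
  d2 : ∀ ψ : R → ℂ, IsIrrCharacter R ψ → charDegree ψ ≠ 1 → Kr ψ (g3 R) → inertia R ψ = dD R
  cam2 : ∀ w ∈ g2 R, w ∉ g3 R → ∀ z ∈ g3 R, ∃ y ∈ R, ⁅w, y⁆ = z

/-- the fourth layer -/
structure N5 : Prop extends N4' R H r where
  f1 : ∀ x ∈ r0 R H, ∀ z ∈ g3 R, ⁅x, z⁆ ∈ g5 R
  nc : ∀ κ : Lin (g4 R), Tr κ (g5 R) → κ ≠ 1 → ∀ z ∈ g3 R, (∀ y ∈ R, ev κ ⁅z, y⁆ = 1) → z ∈ g4 R

end defs

/-- a group of Camina type of class four modulo `L` -/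
structure C4 {P : Type u} [Group P] (R0 A2 A3 A4 L : Subgroup P) (κ : A4 →* ℂˣ) : Prop where
  kL : ∀ a : A4, κ a = 1 ↔ (a : P) ∈ L
  l4 : L ≤ A4
  l3 : A4 ≤ A3
  l2 : A3 ≤ A2
  l0 : A2 ≤ R0
  c2 : ∀ x y : P, ⁅x, y⁆ ∈ A2
  c3 : ∀ x ∈ R0, ∀ y : P, ⁅x, y⁆ ∈ A3
  c4 : ∀ x ∈ A3, ∀ y : P, ⁅x, y⁆ ∈ A4
  c5 : ∀ x ∈ A4, ∀ y : P, ⁅x, y⁆ ∈ L
  c4' : ∀ x ∈ R0, ∀ w ∈ A2, ⁅x, w⁆ ∈ A4
  c5' : ∀ x ∈ R0, ∀ z ∈ A3, ⁅x, z⁆ ∈ L
  c22 : ∀ w ∈ A2, ∀ w' ∈ A2, ⁅w, w'⁆ ∈ A4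
  cT : ∀ x ∈ R0, ∃ w ∈ A2, ∀ y : P, ⁅x * w, y⁆ ∈ A4
  cam : ∀ x ∉ R0, ∀ w ∈ A2, ∃ y, ⁅x, y⁆ = w
  cam2 : ∀ w ∈ A2, w ∉ A3 → ∀ z ∈ A3, ∃ y, ⁅w, y⁆ = z
  nc : ∀ z ∈ A3, (∀ y : P, ⁅z, y⁆ ∈ L) → z ∈ A4
  ne0 : ∃ x, x ∉ R0
  ne2 : ∃ w ∈ A2, w ∉ A3
  ne3 : ∃ z ∈ A3, z ∉ A4
  ne4 : ∃ a ∈ A4, a ∉ L
  dd : (∀ w ∈ A2, ∀ w' ∈ A2, ⁅w, w'⁆ ∈ L) ∨ ∀ w ∈ A2, (∀ w' ∈ A2, ⁅w, w'⁆ ∈ L) →
    (∀ h : P, (∀ z ∈ A3, ⁅z, h⁆ ∈ L) → ⁅w, h⁆ ∈ A4) → ∀ h : P, (∀ z ∈ A3, ⁅z, h⁆ ∈ L) → ⁅w, h⁆ ∈ L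

/-- index facts in such a group; `b = |P : R0|`, `w = |A2 : A3|`, `g = |A3 : A4|` -/
structure C4' {P : Type u} [Group P] (R0 A2 A3 A4 L : Subgroup P) [A3.Normal] [A4.Normal] [L.Normal] (κ : A4 →* ℂˣ) :
    Prop extends C4 R0 A2 A3 A4 L κ where
  /-- `K_x` -/
  iK : ∀ x ∉ R0, (cen (zpowers x) A3).index = A3.relIndex A2
  /-- `Y_w` -/
  iY : ∀ w ∈ A2, w ∉ A3 → (cen (zpowers w) A4).index = A4.relIndex A3
  /-- `H_κ` -/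
  iH : (cen A3 L).index = A4.relIndex A3
  /-- `H_λ`, where `J` is the kernel of `λ` -/
  iU : ∀ (J : Subgroup P) [J.Normal], A4 ≤ J → J < A3 → (∃ l : A3 →* ℂˣ, ∀ a : A3, l a = 1 ↔ (a : P) ∈ J) →
    (cen A2 J).index = A3.relIndex A2 ∧ R0 ≤ cen A2 J ∧ ∀ z ∈ cen A2 J, z ∉ R0 → cen (zpowers z) A3 = cen A2 J
  /-- the order of a centraliser -/
  bd : ∀ x ∉ R0, 2 * (A3.relIndex (A2 ⊓ cen (zpowers x) A4)) * A4.relIndex A3 ≤ R0.index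
  /-- the annihilator of a subgroup of `A3 / A4` -/
  an : ∀ I : Subgroup P, A4 ≤ I → I ≤ A3 → (cen I L).index = A4.relIndex I
  sq : R0.index = A3.relIndex A2 ^ 2

section modules

variable {Y : Type u} [Group Y] [Finite Y] (W : Type u) [CommGroup W] [MulDistribMulAction Y W]

/-- the module situation -/
structure MH (H R M : Subgroup Y) (r q n : ℕ) : Prop where
  md : Md Y W q n
  nd : ND Y
  hr : r.Prime
  nH : H.Normal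
  nR : R.Normal
  nM : M.Normal
  pR : IsPGroup r R
  cM : (Nat.card M).Coprime r
  aM : ∀ a ∈ M, ∀ b ∈ M, a * b = b * a
  sup : H = R ⊔ M
  cyc : ∃ c : Y, ∀ g : Y, ∃ k : ℤ, (c ^ k)⁻¹ * g ∈ H
  one : H.index ≠ 1
  mem : H.index ∈ cdSet Y
  ndvd : ¬ r ∣ H.index
  nc : ∀ g ∉ H, ∃ x ∈ (⁅R, ⊤⁆ : Subgroup Y), g * x ≠ x * g
  ab : ∀ w : W, w ≠ 1 → ∀ a b : Y, a • w = w → b • w = w → a * b = b * a
  o1 : ∀ w : W, w ≠ 1 → ∀ d ∈ cdSet Y, d ≠ 1 → d ∣ (MulAction.stabilizer Y w).index →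
    d = (MulAction.stabilizer Y w).index
  o2 : ∀ w w' : W, w ≠ 1 → w' ≠ 1 → (MulAction.stabilizer Y w).index ∣ (MulAction.stabilizer Y w').index →
    (MulAction.stabilizer Y w).index = (MulAction.stabilizer Y w').index
  fr : ∀ w : W, w ≠ 1 → r ∣ (MulAction.stabilizer Y w).index

/-- the module situation with an abelian normal subgroup -/
structure MH2 (H R M : Subgroup Y) (r q n : ℕ) : Prop extends MH W H R M r q n where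
  aH : ∀ a ∈ H, ∀ b ∈ H, a * b = b * a
  st : ∀ w : W, w ≠ 1 → ¬ H.index ∣ (MulAction.stabilizer Y w).index
  cz : ∀ a ∉ H, ∀ h ∈ H, a * h = h * a → h ∈ center Y
  sr : SR W H
  gen : ∀ a ∉ H, ∃ c : Y, c * a = a * c ∧ ∀ g : Y, ∃ k : ℤ, (c ^ k)⁻¹ * g ∈ H
  dab : ∀ a ∉ H, ∀ x y : Y, x * a = a * x → y * a = a * y → x * y = y * x
  free : ∀ b : Y, zpowers b ⊓ H = ⊥ → Nat.card (Fx W (zpowers b)) ^ orderOf b = Nat.card W

end modules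

section red

variable {G : Type u} [Group G] [Finite G]

/-- the group theoretic part of the reduction -/
structure RG (N R M : Subgroup G) (r : ℕ) : Prop where
  hr : r.Prime
  pR : IsPGroup r R
  nM : M.Normal
  cM : (Nat.card M).Coprime r
  sup : N = R ⊔ M
  n1 : (⁅M, R⁆ : Subgroup G).Normal
  ne : (⁅M, R⁆ : Subgroup G) ≠ ⊥
  mm : ⁅M, M⁆ ≤ ⁅M, R⁆
  fr : ∀ g : G, ∃ m ∈ (⁅M, R⁆ : Subgroup G), ∃ u ∈ normalizer (R : Set G), g = m * u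

/-- the character theoretic part of the reduction -/
structure RC (W : Type u) [CommGroup W] [MulDistribMulAction G W] (M1 : Subgroup G) (r : ℕ) : Prop where
  ntr : Nontrivial W
  irr : ∀ U : Subgroup W, (∀ a : G, ∀ v ∈ U, a • v ∈ U) → U = ⊥ ∨ U = ⊤
  triv : ∀ m ∈ M1, ∀ w : W, m • w = w
  ab : ∀ w : W, w ≠ 1 → ∀ a b : G, a • w = w → b • w = w → ⁅a, b⁆ ∈ M1
  mem : ∀ w : W, w ≠ 1 → (MulAction.stabilizer G w).index ∈ cdSet G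
  fr : ∀ w : W, w ≠ 1 → r ∣ (MulAction.stabilizer G w).index

end red

/-! ### the jobs -/

/-- quantification over the setting -/
def All (P : ∀ (G : Type u) [Group G] [Finite G] (R : Subgroup G) [R.Normal], Subgroup G → ℕ → Prop) : Prop :=
  ∀ (G : Type u) [Group G] [Finite G] (R : Subgroup G) [R.Normal] (H : Subgroup G) (r : ℕ), P G R H r

/-- the conclusion -/
def Con (G : Type u) [Group G] [Finite G] : Prop := (cdSet G).card ≤ 4 ∧ derivedSeries G 3 = ⊥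

def GEN : Prop := All.{u} fun G _ _ R _ H r => N0 R H r → ∀ (X : Subgroup G) [X.Normal], X ≤ R →
  ∀ A : Subgroup (Lin X), RelDeg.Inv A → (∀ x ∈ R, ∀ l ∈ A, x • l = l) →
    ∃ l ∈ A, ∀ g : G, g • l = l → ∀ m ∈ A, g • m = m
def NRM : Prop := All.{u} fun G _ _ R _ H r => N0 R H r → ∀ (X : Subgroup G) [X.Normal], X ≤ R →
  ∀ A : Subgroup (Lin X), RelDeg.Inv A → ∀ B ≤ H, ∀ l ∈ A, ∀ x : G, (∀ b ∈ B, ev (b • l) x = ev l x) → ev l x ≠ 1 →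
    ∃ m ∈ A, (∀ b ∈ B, b • m = m) ∧ ev m x ≠ 1
def PL : Prop := ∀ (G : Type u) [Group G] [Finite G] (R : Subgroup G) [R.Normal] (X : Subgroup G) [X.Normal], X ≤ R →
  ∀ θ : X → ℂ, IsIrrCharacter X θ → ∃ ψ : R → ℂ, IsIrrCharacter R ψ ∧ inertia R ψ ≤ R ⊔ inertia X θ ∧
    (∀ (K : Subgroup G) [K.Normal], Kr ψ K → Kr θ K) ∧ (∀ (K : Subgroup G) [K.Normal], K ≤ X → Kr θ K → Kr ψ K) ∧
    ∀ hX : X ≤ R, R ≤ inertia X θ → ∃ e : ℂ, e ≠ 0 ∧ ∀ x : X, ψ ⟨x, hX x.2⟩ = e * θ x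
def TW : Prop := ∀ (G : Type u) [Group G] [Finite G] (R : Subgroup G) [R.Normal], commutator G ≤ R →
  ∀ (X K K' : Subgroup G) [X.Normal] [K.Normal] [K'.Normal], X ≤ R → K ≤ X → K' ≤ K → ∀ A : Subgroup (Lin X),
    RelDeg.Inv A → (∀ x ∈ R, ∀ l ∈ A, x • l = l) → (∀ l ∈ A, Tr l K) → ∀ Y : Subgroup G,
    (∀ g ∉ Y, ∀ l ∈ A, g • l = l → l = 1) →
    (∀ θ : X → ℂ, IsIrrCharacter X θ → ¬ Kr θ K → Kr θ K' → ¬ inertia X θ ≤ Y) →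
    ∀ ψ : R → ℂ, IsIrrCharacter R ψ → ¬ Kr ψ K → Kr ψ K' → ∀ x : R, (x : G) ∈ X → ∀ l ∈ A, ev l x ≠ 1 → ψ x = 0
/-- central characters -/
def CZ : Prop := ∀ (G : Type u) [Group G] [Finite G] (R X : Subgroup G) (hX : X ≤ R) (ψ : R → ℂ), IsIrrCharacter R ψ →
  Kr ψ ⁅X, R⁆ → ∃ l : Lin X, ∀ (x : G) (hx : x ∈ X) (y : R), ψ (⟨x, hX hx⟩ * y) = (ev l x : ℂ) * ψ y
/-- full ramification -/
def FR : Prop := ∀ (G : Type u) [Group G] [Finite G] (R K : Subgroup G) [K.Normal], K ≤ R → ∀ ψ : R → ℂ,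
  IsIrrCharacter R ψ → (∀ x : R, (x : G) ∉ K → ψ x = 0) →
    K.relIndex R ∣ charDegree ψ ^ 2 ∧ (charDegree ψ ^ 2 = K.relIndex R ↔ Kr ψ ⁅K, R⁆)
def DEG : Prop := ∀ (G : Type u) [Group G] [Finite G] (R : Subgroup G) [R.Normal],
  (Nat.card R).Coprime R.index → (∀ θ : R → ℂ, IsIrrCharacter R θ → (inertia R θ).index * charDegree θ ∈ cdSet G) ∧
    (commutator G ≤ R → ∀ a ∈ cdSet G, ∃ θ : R → ℂ, IsIrrCharacter R θ ∧ a = (inertia R θ).index * charDegree θ)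

def J1 : Prop := GEN.{u} → NRM.{u} → All.{u} fun _ _ _ R _ H r => NS R H r → N1 R H r
def J1' : Prop := PL.{u} → TW.{u} → All.{u} fun _ _ _ R _ H r => N1 R H r → N1' R H r
def J2 : Prop := GEN.{u} → PL.{u} → CZ.{u} → All.{u} fun _ _ _ R _ H r => N1' R H r → g2 R ≠ ⊥ → N2 R H r
def J2' : Prop := FR.{u} → All.{u} fun _ _ _ R _ H r => N2 R H r → N2' R H r
def J3 : Prop := NRM.{u} → All.{u} fun _ _ _ R _ H r => N2' R H r → g3 R ≠ ⊥ → N3 R H r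
def J3' : Prop := PL.{u} → TW.{u} → CZ.{u} → All.{u} fun _ _ _ R _ H r => N3 R H r → N3' R H r
def J4 : Prop := GEN.{u} → PL.{u} → CZ.{u} → FR.{u} → All.{u} fun _ _ _ R _ H r => N3' R H r → N4 R H r
def J4' : Prop := NRM.{u} → PL.{u} → FR.{u} → All.{u} fun _ _ _ R _ H r => N4 R H r → N4' R H r
def J5 : Prop := PL.{u} → TW.{u} → CZ.{u} → All.{u} fun _ _ _ R _ H r => N4' R H r → N5 R H r
def NC4 : Prop := ∀ (P : Type u) [Group P] [Finite P] (R0 A2 A3 A4 L : Subgroup P) (κ : A4 →* ℂˣ), ¬ C4 R0 A2 A3 A4 L κ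
def J5' : Prop := NC4.{u} → All.{u} fun _ _ _ R _ H r => N5 R H r → g4 R = ⊥

/-- a space of non-singular alternating matrices -/
def PF : Prop := ∀ (p : ℕ) [Fact p.Prime] (n m : ℕ) (A : Fin n → Matrix (Fin m) (Fin m) (ZMod p)), 0 < m →
  (∀ i j k, A i j k = - A i k j) → (∀ i j, A i j j = 0) → (∀ c : Fin n → ZMod p, c ≠ 0 → (∑ i, c i • A i).det ≠ 0) →
    2 * n ≤ m
def BEIS : Prop := ∀ (P : Type u) [Group P] [Finite P] (R0 A2 A3 : Subgroup P), A3 ≤ A2 → (∀ x y : P, ⁅x, y⁆ ∈ A2) →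
  A2 ≤ R0 → (∀ x ∈ R0, ∀ y : P, ⁅x, y⁆ ∈ A3) → (∀ x ∉ R0, ∀ w ∈ A2, ∃ y, ⁅x, y⁆ = w) → (∃ x, x ∉ R0) →
    A3.relIndex A2 ^ 2 ≤ R0.index
def JB : Prop := PF → BEIS.{u}
def PUA : Prop := BEIS.{u} → ∀ (P : Type u) [Group P] [Finite P] (R0 A2 A3 A4 L : Subgroup P) [A3.Normal] [A4.Normal]
  [L.Normal] (κ : A4 →* ℂˣ), C4 R0 A2 A3 A4 L κ → C4' R0 A2 A3 A4 L κ
def PUB : Prop := ∀ (P : Type u) [Group P] [Finite P] (R0 A2 A3 A4 L : Subgroup P) [A3.Normal] [A4.Normal]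
  [L.Normal] (κ : A4 →* ℂˣ), C4' R0 A2 A3 A4 L κ → ∀ w ∈ A2, (∀ w' ∈ A2, ⁅w, w'⁆ ∈ L) → w ∈ A3
def PUC : Prop := ∀ (P : Type u) [Group P] [Finite P] (R0 A2 A3 A4 L : Subgroup P) [A3.Normal] [A4.Normal]
  [L.Normal] (κ : A4 →* ℂˣ), C4' R0 A2 A3 A4 L κ → ¬ ∀ w ∈ A2, (∀ w' ∈ A2, ⁅w, w'⁆ ∈ L) → w ∈ A3

/-- the layers -/
def LAY : Prop := All.{u} fun _ _ _ R _ H r => NS R H r → N1 R H r ∧ (g2 R ≠ ⊥ → N2' R H r) ∧
  (g3 R ≠ ⊥ → N4' R H r ∧ g4 R = ⊥)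
def NSYL : Prop := ∀ (G : Type u) [Group G] [Finite G] (R : Subgroup G) [R.Normal] (r : ℕ), r.Prime → IsPGroup r R →
  ¬ r ∣ R.index → commutator G ≤ R → ND G → Con G
def FIN : Prop := DEG.{u} → LAY.{u} → NSYL.{u}

def CYC : Prop := ∀ (G : Type u) [Group G] [Finite G] (N K : Subgroup G) [N.Normal] (r : ℕ), Fr N K r →
  ∃ c : G, ∀ g : G, ∃ k : ℤ, (c ^ k)⁻¹ * g ∈ N
def SPL : Prop := ∀ (G : Type u) [Group G] [Finite G] (N K R : Subgroup G) [N.Normal] [R.Normal] (r : ℕ), ND G →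
  Fr N K r → (∃ c : G, ∀ g : G, ∃ k : ℤ, (c ^ k)⁻¹ * g ∈ N) → IsSylowIn r R N →
    (∀ a ∈ N, ∀ b ∈ N, a * b = b * a) ∨ commutator G ≤ R
def RED1 : Prop := ∀ (G : Type u) [Group G] [Finite G] (N K R : Subgroup G) [N.Normal] (r : ℕ), Group.IsSolvable G →
  ND G → Fr N K r → IsSylowIn r R N → ¬ R.Normal → ∃ M, RG N R M r
def RED2 : Prop := ∀ (G : Type u) [Group G] [Finite G] (N R M : Subgroup G) (r : ℕ), Group.IsSolvable G → ND G →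
  RG N R M r → ∃ (W : Type u) (_ : CommGroup W) (_ : Finite W) (_ : MulDistribMulAction G W), RC W ⁅M, R⁆ r
def RED3 : Prop := ∀ (G : Type u) [Group G] [Finite G] (N K R M : Subgroup G) [N.Normal] (r : ℕ) (W : Type u)
  [CommGroup W] [Finite W] [MulDistribMulAction G W], Group.IsSolvable G → ND G → Fr N K r →
  (∃ c : G, ∀ g : G, ∃ k : ℤ, (c ^ k)⁻¹ * g ∈ N) → RG N R M r → RC W ⁅M, R⁆ r →
    (N.map (im W)).index = N.index ∧ ∃ q n, MH W (N.map (im W)) (R.map (im W)) (M.map (im W)) r q n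

/-- quantification over the module situation -/
def AllM (P : ∀ (Y : Type u) [Group Y] [Finite Y] (W : Type u) [CommGroup W] [Finite W] [MulDistribMulAction Y W],
    Subgroup Y → Subgroup Y → Subgroup Y → ℕ → ℕ → ℕ → Prop) : Prop :=
  ∀ (Y : Type u) [Group Y] [Finite Y] (W : Type u) [CommGroup W] [Finite W] [MulDistribMulAction Y W]
    (H R M : Subgroup Y) (r q n : ℕ), P Y W H R M r q n

/-- stabilisers centralise no element of the derived subgroup -/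
def M1A : Prop := DEG.{u} → AllM.{u} fun _ _ _ W _ _ _ H R M r q n => MH W H R M r q n →
  ∀ w : W, w ≠ 1 → ∀ z ∈ ⁅R, R⁆, (∀ a, a • w = w → a * z = z * a) → z = 1
def M1B : Prop := DEG.{u} → AllM.{u} fun _ _ _ W _ _ _ H R M r q n => MH W H R M r q n →
  (∀ w : W, w ≠ 1 → ∀ z ∈ ⁅R, R⁆, (∀ a, a • w = w → a * z = z * a) → z = 1) → ∀ a ∈ R, ∀ b ∈ R, a * b = b * a
/-- the fixed points of a Frobenius complement -/
def FREE : Prop := ∀ (Y : Type u) [Group Y] [Finite Y] (W : Type u) [CommGroup W] [Finite W] [MulDistribMulAction Y W]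
  (q n : ℕ) (U : Subgroup Y) [U.Normal] (b : Y), Md Y W q n → U ≠ ⊥ → (∀ a ∈ U, ∀ c ∈ U, a * c = c * a) →
    (∀ e ∈ zpowers b, ∀ x ∈ U, e * x = x * e → e = 1 ∨ x = 1) → zpowers b ⊓ U = ⊥ →
      Nat.card (Fx W (zpowers b)) ^ orderOf b = Nat.card W
def M2A : Prop := FREE.{u} → AllM.{u} fun _ _ _ W _ _ _ H R M r q n => MH W H R M r q n →
  (∀ a ∈ R, ∀ b ∈ R, a * b = b * a) → MH2 W H R M r q n
def M2B : Prop := AllM.{u} fun Y _ _ W _ _ _ H R M r q n => MH2 W H R M r q n →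
  ∀ w : W, w ≠ 1 → (Nat.card (MulAction.stabilizer Y w)).Prime
/-- a field automorphism -/
def FLD : Prop := ∀ (Y : Type u) [Group Y] [Finite Y] (W : Type u) [CommGroup W] [Finite W] [MulDistribMulAction Y W]
  (q n t : ℕ) (h d : Y), Md Y W q n → t.Prime → (∀ U : Subgroup W, (∀ v ∈ U, h • v ∈ U) → U = ⊥ ∨ U = ⊤) →
    d * h * d⁻¹ ∈ zpowers h → d ^ t * h = h * d ^ t → d * h ≠ h * d →
      ∃ X : ℕ, X ^ t = Nat.card W ∧ ∀ g ∈ zpowers h, g ^ (X - 1) = 1 → d * g = g * d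
def M2C : Prop := FLD.{u} → AllM.{u} fun Y _ _ W _ _ _ H R M r q n => MH2 W H R M r q n →
  (∀ w : W, w ≠ 1 → (Nat.card (MulAction.stabilizer Y w)).Prime) → H.index.Prime
def TP3 : Prop := ∀ (G : Type u) [Group G] [Finite G] (N K : Subgroup G) [N.Normal] (r : ℕ), Group.IsSolvable G →
  ND G → Fr N K r → N.index.Prime → Con G

end CL.ND4
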