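/-
Project ND4 (S4780): the complement of the Frobenius factor group is cyclic.
-/
import Cfsg.Agent.ND4.Defs

set_option autoImplicit false

namespace CL.ND4

open Cfsg Subgroup CL.Grp CL.Char CL.Char.NDiv CL.Char.RelDeg CL.Char.Palfy CL.Grp.Homog
open scoped commutatorElement

universe u

namespace CYCx

variable {G : Type u} [Group G] [Finite G] {N K : Subgroup G} [hN : N.Normal] [K.Normal] {r : ℕ}

theorem onto (F : Fr N K r) {g w : G} (hg : g ∉ N) (hw : w ∈ N) : ∃ x ∈ N, ⁅g, x⁆⁻¹ * w ∈ K := by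
  let π := QuotientGroup.mk' K
  have hm : ∀ x : N.map π, ⁅π g, (x : G ⧸ K)⁆ ∈ N.map π := by
    rintro ⟨_, x, hx, rfl⟩
    exact ⟨⁅g, x⁆, N.mul_mem (hN.conj_mem _ hx g) (N.inv_mem hx), map_commutatorElement π g x⟩
  have hi : Function.Injective fun x : N.map π => (⟨_, hm x⟩ : N.map π) := by
    rintro ⟨_, x, hx, rfl⟩ ⟨_, y, hy, rfl⟩ e
    have e1 : ⁅π g, π x⁆ = ⁅π g, π y⁆ := congrArg Subtype.val e
    refine Subtype.ext (QuotientGroup.eq.2 (F.fp g hg _ (N.mul_mem (N.inv_mem hx) hy) ?_))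
    rw [← QuotientGroup.eq_one_iff, ← QuotientGroup.mk'_apply, map_commutatorElement, map_mul, map_inv]
    change ⁅π g, (π x)⁻¹ * π y⁆ = 1
    rw [show ⁅π g, (π x)⁻¹ * π y⁆ = π g * (π x)⁻¹ * (π g)⁻¹ * ⁅π g, π y⁆ * π x by
      simp only [commutatorElement_def]; group, ← e1, commutatorElement_def]
    group
  obtain ⟨⟨_, x, hx, rfl⟩, e⟩ := Finite.injective_iff_surjective.1 hi ⟨π w, w, hw, rfl⟩
  exact ⟨x, hx, QuotientGroup.eq.1 ((map_commutatorElement π g x).trans (congrArg Subtype.val e))⟩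

theorem fix (F : Fr N K r) {g : G} (hg : g ∉ N) {l : Lin N} (hl : l ∈ trv N K) (e : g • l = l) : l = 1 :=
  lin_one fun w hw => by
    obtain ⟨x, hx, h⟩ := onto F hg hw
    have h1 : ⁅g, x⁆ ∈ N := N.mul_mem (hN.conj_mem _ hx g) (N.inv_mem hx)
    have h2 := hl _ h
    rwa [ev_mul l (N.inv_mem h1) hw, ev_inv l h1, b_D e hx, inv_one, one_mul] at h2

end CYCx

theorem cyc : CYC.{u} := by
  intro G _ _ N K _ r F
  obtain ⟨φ, hφ, hK, -⟩ := F.ch
  haveI : K.Normal := hK ▸ hφ.charKer_normal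
  obtain ⟨x, hx, h1⟩ := F.ex
  obtain ⟨l, hl, h2⟩ := exists_trv (commutator_le.2 F.nk) hx h1
  have l1 : l ≠ 1 := fun e => h2 (e ▸ ev_lone x)
  have hc : commutator G ≤ N := F.eq ▸ le_sup_left
  obtain ⟨c, -, h⟩ := exists_gen (E := (⊤ : Subgroup G)) (Y := trv N K) (fun g _ v hv => inv_trv g v hv) ⟨l, hl, l1⟩
    (fun a _ b _ v _ => comm_smul (hc (commutator_mem_commutator trivial trivial)) v)
    fun a _ v hv v1 e w _ => smul_of_mem (by_contra fun ha => v1 (CYCx.fix F ha hv e)) w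
  exact ⟨c, fun g => (h g trivial).imp fun k hk => by_contra fun ha => l1 (CYCx.fix F ha hl (hk l hl))⟩

end CL.ND4
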