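/-
Project ND4 (S4780): central characters.
-/
import Cfsg.Agent.ND4.Defs

set_option autoImplicit false

namespace CL.ND4

open Cfsg Subgroup CL.Grp CL.Char CL.Char.NDiv CL.Char.RelDeg
open scoped commutatorElement

universe u

theorem cz : CZ.{u} := by
  intro G _ _ R X hX ψ hψ hK
  have hm : ∀ x : X, (Subgroup.inclusion hX x) ∈ charCenter ψ := fun x =>
    hψ.mem_charCenter_iff_commutator.2 fun y =>
      hK (Subgroup.mem_subgroupOf.2 (commutator_mem_commutator x.2 y.2))
  let l : Lin X := (centerHom hψ.one_ne_zero).comp ((Subgroup.inclusion hX).codRestrict (charCenter ψ) hm)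
  refine ⟨l, fun x hx y => ?_⟩
  have e := ev_of l hx
  exact (apply_mul_eq_centerHom hψ.one_ne_zero ⟨_, hm ⟨x, hx⟩⟩ y).trans (by rw [e]; rfl)

end CL.ND4
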