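/-
Project ND4 (S4780): the degrees over a normal Hall subgroup.
-/
import Cfsg.Agent.ND4.Defs

set_option autoImplicit false

namespace CL.ND4

open Cfsg Subgroup CL.Grp CL.Char CL.Char.NDiv CL.Char.RelDeg CL.Char.Palfy CL.Grp.Homog
open scoped commutatorElement

universe u

namespace DEGx

theorem ext_inertia {G : Type u} [Group G] [Finite G] {M : Subgroup G} [M.Normal]
    (hc : (Nat.card M).Coprime M.index) {θ : M → ℂ} (hθ : IsIrrCharacter M θ) (hT : M ≤ inertia M θ) :
    ∃ ψ : inertia M θ → ℂ, IsIrrCharacter (inertia M θ) ψ ∧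
      ∀ n : M.subgroupOf (inertia M θ), ψ n = θ ⟨(n : inertia M θ), mem_subgroupOf.mp n.2⟩ := by
  have h5 := isIrrCharacter_subgroupOf hT hθ
  exact exists_extension_of_hall h5 (fun g n => g.2 ⟨_, n.2⟩) h5.cast_charDegree.symm
    h5.charDegree_dvd_card (Nat.card_congr (subgroupOfEquivOfLe hT).toEquiv ▸
      hc.coprime_dvd_right (relIndex_dvd_index_of_le hT))

end DEGx

theorem deg : DEG.{u} := by
  intro G _ _ M _ hc
  have := Fintype.ofFinite G
  have := Fintype.ofFinite M
  refine ⟨fun θ hθ => ?_, fun hG a ha => ?_⟩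
  · have := Fintype.ofFinite (inertia M θ)
    have hT : M ≤ inertia M θ := le_inertia hθ.isClassFunction
    obtain ⟨ψ, h6, h7⟩ := DEGx.ext_inertia hc hθ hT
    have h8 : charDegree ψ = charDegree θ := charDegree_congr (h7 1)
    have h10 := (clifford_corr_inertia hθ rfl hT h6 (by
      rw [show (fun n : M => ψ ⟨n, hT n.2⟩) = θ from funext fun n => h7 ⟨⟨n, hT n.2⟩, n.2⟩, hθ.classInner_self]
      exact one_ne_zero)).1.charDegree_mem_cdSet
    rwa [charDegree_indFun h6.isCharacter, h8] at h10
  · obtain ⟨χ, hχ, rfl⟩ := mem_cdSet.1 ha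
    obtain ⟨θ, hθ, h⟩ := exists_irr_constituent_restrict M hχ
    have := Fintype.ofFinite (inertia M θ)
    have := Fintype.ofFinite (M.subgroupOf (inertia M θ))
    have hT : M ≤ inertia M θ := le_inertia hθ.isClassFunction
    obtain ⟨ψ, h6, h7⟩ := DEGx.ext_inertia hc hθ hT
    have h8 : charDegree ψ = charDegree θ := charDegree_congr (h7 1)
    have h5 := isIrrCharacter_subgroupOf hT hθ
    obtain ⟨η, hη, rfl, e⟩ := clifford_corr_inertia_surj hθ rfl hT hχ h
    obtain ⟨β, hβ, hk, rfl⟩ := gallagher_surj (N := M.subgroupOf (inertia M θ)) h6.isCharacter (funext h7 ▸ h5) hη (by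
      rw [funext h7]
      exact fun e' => h (e.symm.trans ((classInner_subgroupOf hT _ θ).symm.trans e')))
    have hb : β 1 = 1 := hβ.one_eq_one_iff.2 fun x hx => hk (mem_subgroupOf.2 (hG (by
      have := mem_map_of_mem (inertia M θ).subtype hx
      rw [commutator_def, map_commutator] at this
      exact commutator_mono le_top le_top this)))
    refine ⟨θ, hθ, ?_⟩
    rw [charDegree_indFun hη.isCharacter, charDegree_mul hβ.isCharacter h6.isCharacter, h8,
      show charDegree β = 1 from charDegree_eq_of_eq (by simpa using hb), one_mul]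

end CL.ND4
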