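/-
Project ND4: the case of a normal Sylow subgroup with abelian factor group.
-/
import Cfsg.Agent.ND4.Defs

set_option autoImplicit false

namespace CL.ND4

open Cfsg Subgroup CL.Grp CL.Char CL.Char.NDiv CL.Char.RelDeg CL.Char.Palfy CL.Grp.Homog
open scoped commutatorElement

universe u

namespace FINx

variable {G : Type u} [Group G] [Finite G] {R : Subgroup G} [R.Normal] {r : ℕ}

theorem nd0 (nd : ND G) (h : ∀ θ : R → ℂ, IsIrrCharacter R θ → (inertia R θ).index * charDegree θ ∈ cdSet G)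
    (θ θ' : R → ℂ) (hθ : IsIrrCharacter R θ) (hθ' : IsIrrCharacter R θ') (h1 : charDegree θ ≠ 1 ∨ inertia R θ ≠ ⊤)
    (h2 : charDegree θ ∣ charDegree θ') (h3 : inertia R θ' ≤ inertia R θ) :
    charDegree θ' = charDegree θ ∧ inertia R θ ≤ inertia R θ' := by
  have e := nd _ (h θ hθ) _ (h θ' hθ') (fun e => h1.elim (fun k => k (Nat.eq_one_of_mul_eq_one_left e))
    fun k => k (index_eq_one.1 (Nat.eq_one_of_mul_eq_one_right e))) (mul_dvd_mul (index_dvd_of_le h3) h2)
  obtain ⟨c, hc⟩ := h2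
  rw [← relIndex_mul_index h3, hc] at e
  have p : 0 < (inertia R θ).index * charDegree θ := Nat.mul_pos (Nat.pos_of_ne_zero index_ne_zero_of_finite)
    hθ.charDegree_pos
  have k : (inertia R θ').relIndex (inertia R θ) * c = 1 := Nat.eq_of_mul_eq_mul_left p (by rw [mul_one]; linarith)
  exact ⟨by rw [hc, Nat.eq_one_of_mul_eq_one_left k, mul_one], relIndex_eq_one.1 (Nat.eq_one_of_mul_eq_one_right k)⟩

omit [Finite G] [R.Normal] in
theorem kr_bot (θ : R → ℂ) {X : Subgroup G} (h : X = ⊥) : Kr θ X := by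
  rw [Kr, h, bot_subgroupOf]; exact bot_le

omit [Finite G] [R.Normal] in
theorem der3 (hc : commutator G ≤ R) (h : g4 R = ⊥) : derivedSeries G 3 = ⊥ := by
  have h2 : derivedSeries G 2 ≤ g2 R := commutator_mono hc hc
  refine le_bot_iff.1 ((commutator_mono h2 h2).trans (le_of_eq ?_))
  exact commutator_commutator_eq_bot_of_rotate (H₁ := R) (H₂ := R) (by rwa [commutator_comm R (g2 R)]) h

omit [Finite G] [R.Normal] in
theorem g2_ne {θ : R → ℂ} (hθ : IsIrrCharacter R θ) (h : charDegree θ ≠ 1) : g2 R ≠ ⊥ := fun e => by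
  obtain ⟨l, rfl⟩ := hθ.exists_monoidHom_of_comm fun a b => Subtype.ext (commutatorElement_eq_one_iff_mul_comm.1
    (mem_bot.1 (e ▸ commutator_mem_commutator a.2 b.2)))
  exact h (hθ.isCharacter.charDegree_eq_one_iff.2 (by simp))

end FINx

open FINx in
theorem fin : FIN.{u} := by
  intro deg lay G _ _ R _ r hr pR hi hc nd
  have := Fact.mk hr
  obtain ⟨k, hk⟩ := IsPGroup.iff_card.1 pR
  have cop : (Nat.card R).Coprime R.index := hk ▸ ((Nat.Prime.coprime_iff_not_dvd hr).2 hi).pow_left k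
  obtain ⟨d1, d2⟩ := deg G R cop
  have n0 := nd0 nd d1
  have same : ∀ Y : Subgroup G, ∃ m, ∀ θ : R → ℂ, IsIrrCharacter R θ → charDegree θ ≠ 1 → inertia R θ = Y →
      (inertia R θ).index * charDegree θ = m := fun Y => by
    by_cases ex : ∃ θ : R → ℂ, IsIrrCharacter R θ ∧ charDegree θ ≠ 1 ∧ inertia R θ = Y
    · obtain ⟨θ', a, b, c⟩ := ex
      refine ⟨Y.index * charDegree θ', fun θ hθ h1 e => ?_⟩
      obtain ⟨i, -, hi⟩ := (Nat.dvd_prime_pow hr).1 (hk ▸ hθ.charDegree_dvd_card)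
      obtain ⟨j, -, hj⟩ := (Nat.dvd_prime_pow hr).1 (hk ▸ a.charDegree_dvd_card)
      rw [e]
      rcases le_total i j with l | l
      · rw [(n0 θ θ' hθ a (.inl h1) (hi ▸ hj ▸ pow_dvd_pow r l) (c.trans e.symm).le).1]
      · rw [(n0 θ' θ a hθ (.inl b) (hi ▸ hj ▸ pow_dvd_pow r l) (e.trans c.symm).le).1]
    · exact ⟨0, fun θ a b c => absurd ⟨θ, a, b, c⟩ ex⟩
  choose f hf using same
  have nI : ∀ θ : R → ℂ, IsIrrCharacter R θ → nN R ≤ inertia R θ := fun θ hθ =>
    sup_le (le_inertia hθ.isClassFunction) (centralizer_le_inertia θ)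
  by_cases nt : nN R = ⊤
  · have h : ∀ d ∈ cdSet G, d = 1 ∨ d = f ⊤ := fun d hd => by
      obtain ⟨θ, hθ, rfl⟩ := d2 hc d hd
      have e : inertia R θ = ⊤ := top_le_iff.1 (nt ▸ nI θ hθ)
      by_cases h1 : charDegree θ = 1
      · exact .inl (by rw [e, h1, index_top])
      · exact .inr (hf _ θ hθ h1 e)
    refine ⟨(Finset.card_le_card (t := {1, f ⊤}) fun d hd => by simpa using h d hd).trans
      (Finset.card_le_two.trans (by norm_num)), ?_⟩
    rw [derivedSeries_succ, derivedSeries_two_eq_bot_of_cdSet h, commutator_bot_left]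
  obtain ⟨H, hH⟩ := exists_right_complement'_of_coprime cop
  obtain ⟨L1, L2, L3⟩ := lay G R H r ⟨⟨hr, pR, hH.symm.index_eq_card ▸ ((Nat.Prime.coprime_iff_not_dvd hr).2 hi).symm,
    fun g => by
      obtain ⟨⟨h, x⟩, e, -⟩ := hH.symm.existsUnique g
      exact ⟨h, h.2, x, x.2, e.symm⟩,
    fun a ha b hb => commutatorElement_eq_one_iff_mul_comm.1 (disjoint_def.1 hH.disjoint
      (hc (commutator_mem_commutator (mem_top a) (mem_top b)))
      (mul_mem (mul_mem (mul_mem ha hb) (inv_mem ha)) (inv_mem hb)))⟩, n0, nt⟩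
  obtain ⟨Y, hY, h4⟩ : ∃ Y : Subgroup G, (∀ θ : R → ℂ, IsIrrCharacter R θ → charDegree θ ≠ 1 →
      inertia R θ = Y ∨ inertia R θ = dD R) ∧ g4 R = ⊥ := by
    by_cases h3 : g3 R = ⊥
    · exact ⟨⊤, fun θ hθ h1 => (L2 (g2_ne hθ h1)).q2 θ hθ h1 (kr_bot θ h3), by rw [g4, h3, commutator_bot_left]⟩
    · obtain ⟨a, b⟩ := L3 h3
      refine ⟨eE R, fun θ hθ h1 => ?_, b⟩
      by_cases k : Kr θ (g3 R)
      exacts [.inr (a.d2 θ hθ h1 k), .inl (a.c9 θ hθ k (kr_bot θ b)).2]
  refine ⟨(Finset.card_le_card (t := {1, (nN R).index, f Y, f (dD R)}) fun d hd => ?_).trans Finset.card_le_four,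
    der3 hc h4⟩
  obtain ⟨θ, hθ, rfl⟩ := d2 hc d hd
  simp only [Finset.mem_insert, Finset.mem_singleton]
  by_cases h1 : charDegree θ = 1
  · obtain ⟨l, e⟩ := hθ.isCharacter.exists_monoidHom_of_one (hθ.isCharacter.charDegree_eq_one_iff.1 h1)
    have e1 : inertia R θ = MulAction.stabilizer G (show Lin R from l) := by
      rw [← inertia_lin, e]
      exact congrArg _ (funext fun n => (mul_one _).symm)
    rw [h1, mul_one]
    by_cases k : inertia R θ ≤ nN R
    · exact .inr (.inl (by rw [le_antisymm k (nI θ hθ)]))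
    · obtain ⟨g, g1, g2⟩ := SetLike.not_le_iff_exists.1 k
      rw [e1] at g1
      exact .inl (by rw [e1, index_eq_one, eq_top_iff']; exact L1.reg _ g g2 g1)
  · exact .inr (.inr ((hY θ hθ h1).imp (hf _ θ hθ h1) (hf _ θ hθ h1)))

end CL.ND4
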