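/-
Project ND4 (S4780): an irreducible cyclic group generates a field.
-/
import Cfsg.Agent.ND4.Defs
import Cfsg.Agent.Known.GLLang

set_option autoImplicit false

namespace CL.ND4

open Cfsg Subgroup CL.Grp CL.Char CL.Char.Palfy CL.Grp.Homog CL.GLn

universe u

namespace FLD2x

variable {Y : Type u} [Group Y] (W : Type u) [CommGroup W] [MulDistribMulAction Y W]

/-- the action as additive endomorphisms -/
def rho : Y →* AddMonoid.End (Additive W) where
  toFun g := MonoidHom.toAdditive (MulDistribMulAction.toMonoidHom W g)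
  map_one' := AddMonoidHom.ext fun v => congrArg Additive.ofMul (one_smul Y v.toMul)
  map_mul' a b := AddMonoidHom.ext fun v => congrArg Additive.ofMul (mul_smul a b v.toMul)

theorem rho_apply (g : Y) (v : Additive W) : rho W g v = Additive.ofMul (g • v.toMul) := rfl

/-- the centraliser of `h` in the endomorphism ring -/
def EE (h : Y) : Subring (AddMonoid.End (Additive W)) := Subring.closure {rho W h}

theorem comm (h : Y) (a b : EE W h) : a * b = b * a := by
  let _ : CommRing (EE W h) := Subring.closureCommRingOfComm (s := {rho W h}) (by simp)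
  exact mul_comm a b

instance (h : Y) : CommRing (EE W h) := { (inferInstance : Ring (EE W h)) with mul_comm := comm W h }

theorem self (h : Y) : rho W h ∈ EE W h := Subring.subset_closure rfl

theorem zp [Finite Y] {h g : Y} (hg : g ∈ zpowers h) : rho W g ∈ EE W h := by
  obtain ⟨k, rfl⟩ := (mem_powers_iff_mem_zpowers.2 hg)
  show rho W (h ^ k) ∈ _
  rw [map_pow]
  exact pow_mem (self W h) k

variable {W}

theorem inj {h : Y} (irr : ∀ U : Subgroup W, (∀ v ∈ U, h • v ∈ U) → U = ⊥ ∨ U = ⊤) (e : EE W h) {v : Additive W}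
    (hv : e.1 v = 0) : e = 0 ∨ v = 0 := by
  refine (irr (AddMonoidHom.ker e.1).toSubgroup' fun w hw => ?_).symm.imp (fun h1 => ?_) fun h1 => ?_
  · have h1 : e.1 (Additive.ofMul w) = 0 := hw
    have h2 := congrArg (fun x : EE W h => x.1 (Additive.ofMul w)) (comm W h e ⟨_, self W h⟩)
    show e.1 (rho W h (Additive.ofMul w)) = 0
    exact h2.trans (by show rho W h (e.1 _) = 0; rw [h1, map_zero])
  · exact Subtype.ext (AddMonoidHom.ext fun w => (h1.ge (mem_top w.toMul) : e.1 w = 0))
  · exact mem_bot (G := W).1 (h1.le (show v.toMul ∈ (AddMonoidHom.ker e.1).toSubgroup' from hv))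

/-- conjugation -/
def cj (d : Y) : AddMonoid.End (Additive W) →+* AddMonoid.End (Additive W) where
  toFun e := rho W d * e * rho W d⁻¹
  map_one' := by rw [mul_one, ← map_mul, mul_inv_cancel, map_one]
  map_mul' a b := by
    rw [show rho W d * a * rho W d⁻¹ * (rho W d * b * rho W d⁻¹) = rho W d * a * (rho W d⁻¹ * rho W d) * b * rho W d⁻¹ by
      simp only [mul_assoc], ← map_mul, inv_mul_cancel, map_one, mul_one, mul_assoc (rho W d) a b]
  map_zero' := by simp
  map_add' a b := by rw [mul_add, add_mul]

theorem cj_rho (d g : Y) : cj (W := W) d (rho W g) = rho W (d * g * d⁻¹) := by rw [map_mul, map_mul]; rfl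

theorem cj_mem [Finite Y] {h d : Y} (hd : d * h * d⁻¹ ∈ zpowers h) {e : AddMonoid.End (Additive W)} (he : e ∈ EE W h) :
    cj d e ∈ EE W h := by
  induction he using Subring.closure_induction with
  | mem x hx => rw [Set.mem_singleton_iff.1 hx, cj_rho]; exact zp W hd
  | zero => rw [map_zero]; exact zero_mem _
  | one => rw [map_one]; exact one_mem _
  | add x y _ _ hx hy => rw [map_add]; exact add_mem hx hy
  | neg x _ hx => rw [map_neg]; exact neg_mem hx
  | mul x y _ _ hx hy => rw [map_mul]; exact mul_mem hx hy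

end FLD2x

open FLD2x

theorem fld2 : FLD.{u} := by
  intro Y _ _ W _ _ _ q n t h d md ht irr hd hc hne
  have := md.nontrivial
  have : Finite (AddMonoid.End (Additive W)) :=
    Finite.of_injective (fun e : AddMonoid.End (Additive W) => (e : Additive W → Additive W)) DFunLike.coe_injective
  have finj : ∀ a b : Y, rho W a = rho W b → a = b := fun a b e => by
    rw [← inv_mul_eq_one]
    refine md.faith _ fun v => ?_
    have := congrArg (fun x : AddMonoid.End (Additive W) => (x (Additive.ofMul v)).toMul) e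
    rw [mul_smul, inv_smul_eq_iff]
    exact this.symm
  obtain ⟨v, hv⟩ := exists_ne (0 : Additive W)
  have : Nontrivial (EE W h) := ⟨⟨1, 0, fun e => hv (congrArg (fun x : EE W h => x.1 v) e)⟩⟩
  have : NoZeroDivisors (EE W h) := ⟨fun {a b} e => or_iff_not_imp_right.2 fun hb =>
    (inj irr a (v := b.1 v) (congrArg (fun x : EE W h => x.1 v) e)).resolve_right fun e1 =>
      hv ((inj irr b e1).resolve_left hb)⟩
  have : IsDomain (EE W h) := NoZeroDivisors.to_isDomain _
  let _ : Field (EE W h) := (Finite.isField_of_domain (EE W h)).toField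
  let ev : EE W h →+ Additive W := AddMonoidHom.mk' (fun e => e.1 v) fun _ _ => rfl
  have hcard : Nat.card (EE W h) = Nat.card W := by
    refine Nat.card_eq_of_bijective (fun e => (ev e).toMul) ⟨Additive.toMul.injective.comp
      ((injective_iff_map_eq_zero ev).2 fun e he => (inj irr e he).resolve_right hv), fun w => ?_⟩
    rcases irr ev.range.toSubgroup' (fun w ⟨e, he⟩ => ⟨⟨_, self W h⟩ * e, by
      show rho W h (ev e) = _
      rw [he]; rfl⟩) with h1 | h1
    · exact absurd (mem_bot.1 (h1.le (show v.toMul ∈ ev.range.toSubgroup' from ⟨1, rfl⟩))) hv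
    · obtain ⟨e, he⟩ := h1.ge (mem_top w)
      exact ⟨e, congrArg Additive.toMul he⟩
  let s0 : EE W h →+* EE W h := (cj d).restrict _ _ fun e he => cj_mem hd he
  let σ : EE W h ≃+* EE W h := RingEquiv.ofBijective s0 (Finite.injective_iff_bijective.1 s0.injective)
  have hp : ∀ (k : ℕ) (e : EE W h), ((σ ^ k) e).1 = cj (d ^ k) e.1 := fun k => by
    induction k with
    | zero => intro e; show e.1 = rho W (d ^ 0) * e.1 * rho W (d ^ 0)⁻¹; simp
    | succ k ih =>
      intro e
      rw [pow_succ', RingAut.mul_apply]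
      show rho W d * ((σ ^ k) e).1 * rho W d⁻¹ = rho W (d ^ (k + 1)) * e.1 * rho W (d ^ (k + 1))⁻¹
      rw [ih, pow_succ', mul_inv_rev, map_mul, map_mul]
      show rho W d * (rho W (d ^ k) * e.1 * rho W (d ^ k)⁻¹) * rho W d⁻¹ = _
      simp only [mul_assoc]
  have ho : orderOf σ = t := by
    have := Fact.mk ht
    refine orderOf_eq_prime (RingEquiv.ext fun e => Subtype.ext ?_) fun e => hne (finj _ _ ?_)
    · rw [hp]
      refine (Subring.closure_le (t := RingHom.eqLocus (cj (W := W) (d ^ t)) (RingHom.id _))).2 (fun x hx => ?_) e.2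
      rw [Set.mem_singleton_iff.1 hx]
      show cj (d ^ t) (rho W h) = rho W h
      rw [cj_rho, hc, mul_inv_cancel_right]
    · have h1 : cj d (rho W h) = rho W h := congrArg (fun x : EE W h ≃+* EE W h => (x ⟨_, self W h⟩).1) e
      rw [cj_rho] at h1
      rw [map_mul (rho W) h d, ← h1, ← map_mul, inv_mul_cancel_right]
  refine ⟨Nat.card (fixedFld σ), by rw [← ho, card_fixedFld_pow, hcard], fun g hg e => finj _ _ ?_⟩
  have h1 : (⟨_, zp W hg⟩ : EE W h) ∈ fixedFld σ := (mem_subfield_iff_pow _).2 (Subtype.ext (by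
    show rho W g ^ _ = rho W g
    rw [← map_pow, ← Nat.sub_add_cancel (Nat.card_pos (α := fixedFld σ)), pow_succ, e, one_mul]))
  have h2 : cj d (rho W g) = rho W g := congrArg Subtype.val (mem_fixedFld.1 h1)
  rw [cj_rho] at h2
  rw [map_mul (rho W) g d, ← h2, ← map_mul, inv_mul_cancel_right]

end CL.ND4
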