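/-
Project ND4 (S4780), job FR: full ramification over a normal subgroup off which the character vanishes.
-/
import Cfsg.Agent.ND4.Defs
import Cfsg.Agent.Char.DegFrob

set_option autoImplicit false

namespace CL.ND4

open Cfsg Subgroup CL.Grp CL.Char
open scoped commutatorElement

universe u

namespace FRx

theorem sq_iff {G : Type*} [Group G] [Finite G] {χ : G → ℂ} (h : IsIrrCharacter G χ) {Z : Subgroup G}
    (hv : ∀ g, g ∉ Z → χ g = 0) : charDegree χ ^ 2 = Z.index ↔ Z ≤ charCenter χ := by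
  classical
  refine ⟨fun e => ?_, fun k => (h.charDegree_sq_le_index k).2.2 hv⟩
  let _ := Fintype.ofFinite G
  have h1 := h.sum_norm_sq
  rw [← Finset.sum_filter_add_sum_filter_not Finset.univ (· ∈ Z),
    Finset.sum_eq_zero (s := Finset.univ.filter fun g => ¬ g ∈ Z)
      (fun g hg => by simp [hv g (Finset.mem_filter.mp hg).2]), add_zero, ← Subgroup.card_mul_index Z, ← e] at h1
  have h2 : ∑ g ∈ Finset.univ.filter (· ∈ Z), ‖χ g‖ ^ 2 = ∑ g ∈ Finset.univ.filter (· ∈ Z), ‖χ 1‖ ^ 2 := by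
    rw [h1, Finset.sum_const, nsmul_eq_mul, Nat.card_eq_fintype_card, Fintype.card_subtype, h.isCharacter.norm_one]
    push_cast
    rfl
  have h3 := (Finset.sum_eq_sum_iff_of_le fun g _ =>
    pow_le_pow_left₀ (norm_nonneg _) (isChar_norm_le h.isCharacter g) 2).1 h2
  intro g hg
  exact h.isCharacter.mem_charCenter.2
    ((pow_left_inj₀ (norm_nonneg _) (norm_nonneg _) two_ne_zero).1 (h3 g (by simp [hg])))

end FRx

theorem fr : FR.{u} := by
  intro G _ _ R K _ hK ψ hψ hv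
  have hv' : ∀ x : R, x ∉ K.subgroupOf R → ψ x = 0 := fun x hx => hv x fun k => hx (mem_subgroupOf.2 k)
  refine ⟨index_dvd_sq_of_vanish (K.subgroupOf R) hψ hv', (FRx.sq_iff hψ hv').trans ⟨fun k => ?_, fun k => ?_⟩⟩
  · have : ⁅K, R⁆ ≤ (charKer ψ).map R.subtype := commutator_le.2 fun a ha b hb =>
      ⟨⁅(⟨a, hK ha⟩ : R), ⟨b, hb⟩⁆, hψ.mem_charCenter_iff_commutator.1 (k (mem_subgroupOf.2 ha)) _, rfl⟩
    intro x hx
    obtain ⟨y, hy, e⟩ := this (mem_subgroupOf.1 hx)
    exact (Subtype.ext e : y = x) ▸ hy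
  · exact fun x hx => hψ.mem_charCenter_iff_commutator.2 fun y =>
      k (mem_subgroupOf.2 (commutator_mem_commutator (mem_subgroupOf.1 hx) y.2))

end CL.ND4
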