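/-
Project ND4: the fixed points of a Frobenius complement on a module.
-/
import Cfsg.Agent.ND4.Defs
import Cfsg.Agent.Fgs.FrobFree

set_option autoImplicit false

namespace CL.ND4

open Cfsg Subgroup CL.Grp CL.Char CL.Char.NDiv CL.Char.RelDeg CL.Char.Palfy CL.Grp.Homog CL.FrobFree

universe u

theorem FREEx.card_fix {k V H : Type*} [Field k] [AddCommGroup V] [Module k V] [Group H] [Fintype H]
    {σ : H →* Module.End k V} {W : Submodule k V} (h1 : Ind σ W) (h2 : ∀ v, Spn σ W v) :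
    Nat.card {v : V // ∀ t, σ t v = v} ^ Nat.card H = Nat.card V := by
  have inj : ∀ w w' : H → V, (∀ h, w h ∈ W) → (∀ h, w' h ∈ W) → ∑ h, σ h (w h) = ∑ h, σ h (w' h) → ∀ h, w h = w' h :=
    fun w w' a b e h => sub_eq_zero.1 (h1 (fun h => w h - w' h) (fun h => W.sub_mem (a h) (b h))
      (by simp only [map_sub, Finset.sum_sub_distrib, e, sub_self]) h)
  have sh : ∀ (w : H → V) (t : H), σ t (∑ h, σ h (w h)) = ∑ h, σ h (w (t⁻¹ * h)) := fun w t => by
    rw [map_sum, ← Equiv.sum_comp (Equiv.mulLeft t) fun h => σ h (w (t⁻¹ * h))]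
    simp
  have e1 : Nat.card (H → W) = Nat.card V := Nat.card_congr (Equiv.ofBijective (fun w => ∑ h, σ h (w h))
    ⟨fun w w' e => funext fun h => Subtype.ext (inj _ _ (fun h => (w h).2) (fun h => (w' h).2) e h), fun v => by
      obtain ⟨w, a, b⟩ := h2 v
      exact ⟨fun h => ⟨w h, a h⟩, b⟩⟩)
  have e2 : Nat.card W = Nat.card {v : V // ∀ t, σ t v = v} := Nat.card_congr (Equiv.ofBijective
    (fun w => ⟨∑ h, σ h w, fun t => sh (fun _ => w) t⟩)
    ⟨fun w w' e => Subtype.ext (inj (fun _ => w) (fun _ => w') (fun _ => w.2) (fun _ => w'.2)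
      (congrArg Subtype.val e) 1), fun v => by
      obtain ⟨w, a, b⟩ := h2 v
      refine ⟨⟨w 1, a 1⟩, Subtype.ext ((Finset.sum_congr rfl fun t _ => ?_).trans b)⟩
      have := inj (fun h => w (t⁻¹ * h)) w (fun _ => a _) a (by rw [← sh, b, v.2]) t
      rw [inv_mul_cancel] at this
      exact congrArg (σ t) this⟩)
  rw [← e2, ← e1, Nat.card_fun]

theorem free : FREE.{u} := by
  intro Y _ _ W _ _ _ q n U _ b h hU hc hf _
  classical
  have := Fact.mk h.prime
  obtain ⟨_⟩ : Nonempty (Module (ZMod q) (Additive W)) :=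
    ⟨AddCommGroup.zmodModule fun v => congrArg Additive.ofMul (h.pow_eq_one v.toMul)⟩
  let ρ0 : Y →* Module.End (ZMod q) (Additive W) :=
    { toFun := fun g => (MonoidHom.toAdditive (MulDistribMulAction.toMonoidHom W g)).toZModLinearMap q
      map_one' := LinearMap.ext fun v => one_smul Y v.toMul
      map_mul' := fun a c => LinearMap.ext fun v => mul_smul a c v.toMul }
  let A := U ⊔ zpowers b
  let ρ : Representation (ZMod q) A (Additive W) := ρ0.comp A.subtype
  let F := U.subgroupOf A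
  let H := (zpowers b).subgroupOf A
  have := Fintype.ofFinite H
  have hnil : Group.IsNilpotent F := by
    let _ : CommGroup F :=
      { (inferInstance : Group F) with mul_comm := fun x y => Subtype.ext (Subtype.ext (hc _ x.2 _ y.2)) }
    exact CommGroup.isNilpotent
  have hFx : Fx W U = ⊥ := by_contra fun e => hU (h.eq_bot_of_Fx e)
  obtain ⟨N, h1, h2⟩ := exists_sum ρ hnil fun v hv =>
    (hFx.le (show v.toMul ∈ Fx W U from fun k hk => hv ⟨k, mem_sup_left hk⟩ hk) : v.toMul = 1)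
  have := Fintype.ofFinite N
  obtain ⟨W0, h3, h4⟩ := free_of_sum (H := H) hnil (fun a => by
      obtain ⟨x, hx, y, hy, e⟩ := mem_sup_of_normal_left.1 a.2
      exact ⟨⟨x, mem_sup_left hx⟩, hx, ⟨y, mem_sup_right hy⟩, hy, Subtype.ext e⟩)
    (fun e he h1 x hx hh => Subtype.ext ((hf e he x hx (congrArg Subtype.val hh).symm).resolve_left
      fun e1 => h1 (Subtype.ext e1))) (fun n : N => ((n : F) : A)) (fun n => n.1.2)
    (by rwa [← Nat.card_eq_fintype_card]) _ ρ rfl fun v => h2 _ fun n => by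
      rw [map_sum, ← Equiv.sum_comp (Equiv.mulLeft n) fun i : N => ρ (i : F) v]
      simp
  have e := FREEx.card_fix h3 h4
  rw [Nat.card_congr (subgroupOfEquivOfLe (le_sup_right : zpowers b ≤ A)).toEquiv, Nat.card_zpowers] at e
  refine Eq.trans (congrArg (· ^ orderOf b) (Nat.card_congr ?_)) e
  exact ⟨fun v => ⟨Additive.ofMul v.1, fun t => v.2 t.1.1 t.2⟩,
    fun v => ⟨v.1.toMul, fun k hk => v.2 ⟨⟨k, mem_sup_right hk⟩, hk⟩⟩, fun _ => rfl, fun _ => rfl⟩

end CL.ND4
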