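/-
Project ND4: a linear character in a regular orbit.
-/
import Cfsg.Agent.ND4.Defs

set_option autoImplicit false

namespace CL.ND4

open Cfsg Subgroup CL.Grp CL.Char CL.Char.NDiv CL.Char.RelDeg CL.Char.Palfy CL.Grp.Homog
open scoped commutatorElement

universe u

theorem gen : GEN.{u} := by
  intro G _ _ R _ H r h X _ hX A hA hR
  let := actS H A fun e _ v hv => hA e v hv
  have := Fact.mk h.hr
  obtain ⟨k, hk⟩ := (h.pR.to_le hX).exists_card_eq
  have pw : ∀ l : Lin X, l ^ r ^ k = 1 := fun l => lin_one fun w hw => by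
    rw [ev_lpow, ev_of l hw, ← map_pow, ← hk, pow_card_eq_one', map_one]
  obtain ⟨l, hl⟩ := RegOrb.exists_regular_comm (W := A) (MulDistribMulAction.toMulAut H A).range
    (by
      rintro _ ⟨s, rfl⟩ y hy
      have c : (orderOf (MulDistribMulAction.toMulAut H A s)).Coprime (r ^ k) :=
        (h.cop.coprime_dvd_left ((orderOf_map_dvd _ s).trans (orderOf_dvd_natCard s))).pow_right k
      rw [← orderOf_eq_one_iff]
      exact Nat.eq_one_of_dvd_coprimes c (orderOf_dvd_of_pow_eq_one hy)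
        (orderOf_dvd_of_pow_eq_one (Subtype.ext (pw y))))
    (by
      rintro _ ⟨a, rfl⟩ _ ⟨b, rfl⟩
      rw [← map_mul, ← map_mul, show a * b = b * a from Subtype.ext (h.ab a a.2 b b.2)])
  refine ⟨l, l.2, fun g hg m hm => ?_⟩
  obtain ⟨a, ha, x, hx, rfl⟩ := h.fac g
  rw [mul_smul, hR x hx _ l.2] at hg
  rw [mul_smul, hR x hx _ hm]
  exact congrArg Subtype.val (DFunLike.congr_fun (hl _ ⟨⟨a, ha⟩, rfl⟩ (Subtype.ext hg)) ⟨m, hm⟩)

end CL.ND4
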