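/-
Project ND4 (S4780): the first layer, linear part.
-/
import Cfsg.Agent.ND4.Defs

set_option autoImplicit false
set_option linter.unusedSectionVars false

namespace CL.ND4

open Cfsg Subgroup CL.Grp CL.Char CL.Char.NDiv CL.Char.RelDeg CL.Char.Palfy CL.Grp.Homog
open scoped commutatorElement

universe u

namespace J1x

variable {G : Type u} [Group G] [Finite G] {R H : Subgroup G} [hR : R.Normal] {r : ℕ}

/-- the derived subgroup of `R` consists of non-generators -/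
theorem nongen (h : N0 R H r) {C : Subgroup G} (hC : C ≤ R) (hs : ∀ x ∈ R, x ∈ C ⊔ g2 R) : R ≤ C := by
  have := Fact.mk h.hr
  have h1 : C.subgroupOf R = ⊤ := frattini_nongenerating (eq_top_iff.2 fun x _ => by
    obtain ⟨c, hc, w, hw, e⟩ := mem_sup_of_normal_right.1 (hs x x.2)
    have hw' : w ∈ R := commutator_le_left R R hw
    rw [show x = ⟨c, hC hc⟩ * ⟨w, hw'⟩ from Subtype.ext e.symm]
    exact mul_mem (mem_sup_left (mem_subgroupOf.2 hc))
      (mem_sup_right (commutator_le_frattini h.pR (mem_comm.2 hw))))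
  exact subgroupOf_eq_top.1 h1

theorem cop (h : N0 R H r) {B : Subgroup G} (hB : B ≤ H) {x : G} (hx : x ∈ R) :
    ∃ s ∈ ⁅R, B⁆, ∃ c ∈ R ⊓ centralizer (B : Set G), x = s * c := by
  have := Fact.mk h.hr
  obtain ⟨n, hn⟩ := h.pR.exists_card_eq
  have := h.pR.isNilpotent
  refine exists_commutator_mul_centralizer le_normalizer_of_normal ?_ (Or.inr inferInstance) hx
  rw [hn]
  exact (h.cop.coprime_dvd_left (card_dvd_of_le hB)).pow_right n

theorem cent (h : N0 R H r) {a : G} (ha : a ∈ H) (h1 : ∀ x ∈ R, ⁅x, a⁆ ∈ g2 R) : a ∈ centralizer (R : Set G) := by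
  have h2 : zpowers a ≤ cen R (g2 R) := zpowers_le.2 h1
  have h3 : ⁅R, zpowers a⁆ ≤ g2 R := commutator_le.2 fun x hx b hb => h2 hb x hx
  have h4 := nongen h (C := R ⊓ centralizer (zpowers a : Set G)) inf_le_left fun x hx => by
    obtain ⟨s, hs, c, hc, rfl⟩ := cop h (zpowers_le.2 ha) hx
    exact mul_mem (mem_sup_right (h3 hs)) (mem_sup_left hc)
  exact fun x hx => ((h4 hx).2 a (mem_zpowers a)).symm

theorem comm_mem {x : G} (hx : x ∈ R) (k : G) : ⁅x, k⁆ ∈ R := commutator_le_left R ⊤ (commutator_mem_commutator hx trivial)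

theorem ev_comm {m : Lin R} {k x : G} (hk : k • m = m) (hx : x ∈ R) : ev m ⁅x, k⁆ = 1 := by
  rw [← commutatorElement_inv, ev_inv m (by rw [← commutatorElement_inv]; exact inv_mem (comm_mem hx k)), b_D hk hx,
    inv_one]

theorem fixAll (h : N0 R H r) {g : G} (hg : ∀ m : Lin R, g • m = m) : g ∈ nN R := by
  obtain ⟨a, ha, x, hx, rfl⟩ := h.fac g
  refine mul_mem (mem_sup_right (cent h ha fun y hy => ?_)) (mem_sup_left hx)
  by_contra e
  obtain ⟨l, -, hl⟩ := exists_trv (X := R) (K := g2 R) le_rfl (comm_mem hy a) e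
  have e1 := hg l
  rw [mul_smul, smul_of_mem hx] at e1
  exact hl (ev_comm e1 hy)

theorem trivS {m : Lin R} (hm : ∀ k : G, k • m = m) {s : G} (hs : s ∈ sS R) : ev m s = 1 := by
  have h1 : sS R ≤ m.h.ker.map R.subtype := commutator_le.2 fun x hx k _ =>
    ⟨⟨_, comm_mem hx k⟩, (ev_of m (comm_mem hx k)).symm.trans (ev_comm (hm k) hx), rfl⟩
  obtain ⟨y, hy, rfl⟩ := h1 hs
  exact (ev_coe m y).trans hy

omit hR in
theorem extd {U K : Subgroup G} (hU : U ≤ R) (hc : g2 R ≤ K) (hK : K ≤ U) {φ : G → ℂˣ}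
    (h1 : ∀ a ∈ U, ∀ b ∈ U, φ (a * b) = φ a * φ b) (h2 : ∀ w ∈ K, φ w = 1) :
    ∃ m ∈ trv R K, ∀ u ∈ U, ev m u = φ u := by
  obtain ⟨μ, -, hμ⟩ := exists_monoidHom_extend_of_ker (inclusion hU) ⊥
    (MonoidHom.mk' (fun u : U => φ u) fun a b => h1 a a.2 b b.2) fun a ha => by
      rw [sup_bot_eq] at ha
      exact h2 _ (hc (mem_comm.1 ha))
  have h3 : ∀ u ∈ U, ev (D := R) μ u = φ u := fun u hu => (ev_of (D := R) μ (hU hu)).trans (hμ ⟨u, hu⟩)
  exact ⟨μ, fun w hw => (h3 w (hK hw)).trans (h2 w hw), h3⟩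

theorem conjT (h : N0 R H r) (g : G) {t : G} (ht : t ∈ tT R H) : ∃ w ∈ g2 R, g * t * g⁻¹ = w * t := by
  obtain ⟨a, ha, x, hx, rfl⟩ := h.fac g
  refine ⟨a * ⁅x, t⁆ * a⁻¹, Normal.conj_mem inferInstance _ (commutator_mem_commutator hx ht.1) a, ?_⟩
  have e : a * t = t * a := ht.2 a ha
  calc a * x * t * (a * x)⁻¹ = a * ⁅x, t⁆ * a⁻¹ * (a * t) * a⁻¹ := by simp only [commutatorElement_def]; group
    _ = _ := by rw [e]; group

theorem deg1 (l : Lin R) : charDegree (tw l 1) = 1 := by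
  have := Fintype.ofFinite R
  exact (irr_lin l).isCharacter.charDegree_eq_one_iff.2 (by simp [tw])

end J1x

open J1x in
theorem j1 : J1.{u} := by
  intro hG hN G _ _ R hR H r h
  have := Fintype.ofFinite R
  have h0 := h.toN0
  obtain ⟨lam, -, hl⟩ := hG G R H r h0 R le_rfl ⊤ (fun _ _ _ => trivial) fun x hx l _ => smul_of_mem hx l
  have s1 : inertia R (tw lam 1) ≤ nN R := by
    rw [inertia_lin]; exact fun g hg => fixAll h0 fun m => hl g hg m trivial
  have s2 : ∀ l : Lin R, nN R ≤ inertia R (tw l 1) := fun l => by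
    rw [inertia_lin]; exact fun g hg => lin_smul_of_mem hg l
  have reg : ∀ l : Lin R, ∀ g ∉ nN R, g • l = l → ∀ k : G, k • l = l := fun l g hg e k => by
    by_contra hk
    have := (h.nd _ _ (irr_lin l) (irr_lin lam) (Or.inr fun e1 => hk (by
      rw [inertia_lin] at e1; exact e1.ge (mem_top k))) (by rw [deg1, deg1]) (s1.trans (s2 l))).2
    exact hg (s1 (this (by rw [inertia_lin]; exact e)))
  have ts : ∀ x ∈ R, ∃ t ∈ tT R H, ∃ s ∈ sS R, x = t * s := fun x hx => by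
    obtain ⟨s, hs, c, hc, e⟩ := cop h0 le_rfl (inv_mem hx)
    exact ⟨c⁻¹, inv_mem hc, s⁻¹, inv_mem (commutator_mono le_rfl le_top hs), by rw [← mul_inv_rev, ← e, inv_inv]⟩
  have hSR : sS R ≤ R := commutator_le_left R ⊤
  have hgR : g2 R ≤ R := commutator_le_left R R
  have nr0 : (r0 R H).Normal := ⟨fun w hw g => by
    obtain ⟨t, ht, c, hc, rfl⟩ := mem_sup_of_normal_right.1 hw
    obtain ⟨v, hv, e⟩ := conjT h0 g ht
    rw [show g * (t * c) * g⁻¹ = g * t * g⁻¹ * (g * c * g⁻¹) by group, e]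
    exact mul_mem (mul_mem (mem_sup_right hv) (mem_sup_left ht))
      (mem_sup_right (Normal.conj_mem inferInstance _ hc g))⟩
  refine { h with
    reg := reg, ts := ts, nr0 := nr0, lin := fun θ hθ h1 h2 => ?_, ne0 := ?_
    inv1 := fun φ h1 h2 g hg h3 s hs => ?_, inv2 := fun U hU hr φ h1 h2 g hg h3 s hs => ?_ }
  · exact h1 ((h.nd _ _ (irr_lin lam) hθ (Or.inr fun e => h.nt (top_le_iff.1 (e ▸ s1))) (by rw [deg1]; exact one_dvd _)
      (h2.trans (s2 lam))).1.trans (deg1 lam))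
  · by_contra! e
    have h1 := nongen h0 (C := tT R H) inf_le_left fun x hx => by
      obtain ⟨t, ht, s, hs, rfl⟩ := ts x hx
      exact mul_mem (mem_sup_left ht) (e s hs)
    refine h.nt (eq_top_iff.2 fun g _ => ?_)
    obtain ⟨a, ha, x, hx, rfl⟩ := h0.fac g
    exact mul_mem (mem_sup_right fun y hy => ((h1 hy).2 a ha).symm) (mem_sup_left hx)
  · obtain ⟨m, hm, e⟩ := extd hSR le_rfl (commutator_mono le_rfl le_top) h1 h2
    have h4 : g⁻¹ • m / m = 1 := lin_one fun w hw => by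
      obtain ⟨t, ht, s, hs, rfl⟩ := ts w hw
      obtain ⟨v, hv, e1⟩ := conjT h0 g ht
      have h5 : g * s * g⁻¹ ∈ sS R := Normal.conj_mem inferInstance _ hs g
      rw [ev_ldiv, ev_smul, inv_inv, show g * (t * s) * g⁻¹ = g * t * g⁻¹ * (g * s * g⁻¹) by group, e1,
        ev_mul m (mul_mem (hgR hv) ht.1) (hSR h5), ev_mul m (hgR hv) ht.1, hm v hv, one_mul, e _ h5, h3 s hs,
        ev_mul m ht.1 (hSR hs), e s hs, div_self']
    rw [← e s hs]
    exact trivS (reg m g⁻¹ (fun e1 => hg (inv_mem_iff.1 e1)) (div_eq_one.1 h4)) hs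
  · by_contra h4
    obtain ⟨m, hm, e⟩ := extd hU le_sup_right hr h1 h2
    obtain ⟨a, ha, x, hx, rfl⟩ := h0.fac g
    have h5 : ∀ u ∈ U, a * u * a⁻¹ ∈ U ∧ φ (a * u * a⁻¹) = φ u := fun u hu => by
      have h6 : ⁅x⁻¹, u⁆ ∈ r0 R H := mem_sup_right (commutator_mem_commutator (inv_mem hx) (hU hu))
      have := h3 _ (mul_mem (hr h6) hu)
      rwa [h1 _ (hr h6) _ hu, h2 _ h6, one_mul,
        show a * x * (⁅x⁻¹, u⁆ * u) * (a * x)⁻¹ = a * u * a⁻¹ by simp only [commutatorElement_def]; group] at this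
    have h6 : ∀ n : ℕ, a ^ n * s * (a ^ n)⁻¹ ∈ U ∧ φ (a ^ n * s * (a ^ n)⁻¹) = φ s := fun n => by
      induction n with
      | zero => simpa using hs
      | succ n ih =>
        rw [show a ^ (n + 1) * s * (a ^ (n + 1))⁻¹ = a * (a ^ n * s * (a ^ n)⁻¹) * a⁻¹ by rw [pow_succ']; group]
        exact ⟨(h5 _ ih.1).1, (h5 _ ih.1).2.trans ih.2⟩
    obtain ⟨m', hm', h7, h8⟩ := hN G R H r h0 R le_rfl (trv R (r0 R H)) inv_trv (zpowers a) (zpowers_le.2 ha) m hm s
      (fun b hb => by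
        obtain ⟨n, hn⟩ := (mem_powers_iff_mem_zpowers.2 (inv_mem hb) : b⁻¹ ∈ Submonoid.powers a)
        have hn' : a ^ n = b⁻¹ := hn
        have := h6 n
        rw [hn', inv_inv] at this
        rw [ev_smul, e _ this.1, this.2, e s hs]) (by rw [e s hs]; exact h4)
    have h9 := reg m' a (fun e1 => hg (mul_mem e1 (mem_sup_left hx))) (h7 a (mem_zpowers a))
    obtain ⟨t, ht, s', hs', rfl⟩ := ts s (hU hs)
    exact h8 (by rw [ev_mul m' ht.1 (hSR hs'), hm' t (mem_sup_left ht), trivS h9 hs', one_mul])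

end CL.ND4
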