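/-
Project ND4 (S4780): the first layer, zeros of the nonlinear characters and the Camina property.
-/
import Cfsg.Agent.ND4.Defs

set_option autoImplicit false

namespace CL.ND4

open Cfsg Subgroup CL.Grp CL.Char CL.Char.NDiv CL.Char.RelDeg CL.Char.Palfy CL.Grp.Homog
open scoped commutatorElement

universe u

namespace J1px

variable {G : Type u} [Group G] [Finite G] {R : Subgroup G}

theorem kr_iff {θ : R → ℂ} (hθ : IsIrrCharacter R θ) : Kr θ (g2 R) ↔ charDegree θ = 1 := by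
  rw [hθ.isCharacter.charDegree_eq_one_iff, hθ.one_eq_one_iff]
  exact ⟨fun h y hy => h (mem_subgroupOf.2 (mem_comm.1 hy)), fun h y hy => h (mem_comm.2 (mem_subgroupOf.1 hy))⟩

omit [Finite G] in
theorem kr_bot {X : Subgroup G} (θ : X → ℂ) : Kr θ ⊥ := fun y hy => by
  have : y = 1 := Subtype.ext (mem_bot.1 (mem_subgroupOf.1 hy))
  rw [this]; exact one_mem _

variable [hR : R.Normal] {H : Subgroup G} {r : ℕ}

theorem pl1 (hPL : PL.{u}) (h : N1 R H r) (X : Subgroup G) [X.Normal] (hX : X ≤ R) (θ : X → ℂ)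
    (hθ : IsIrrCharacter X θ) (hk : ¬ Kr θ (g2 R)) : ¬ inertia X θ ≤ nN R := fun hi => by
  obtain ⟨ψ, hψ, h1, h2, -⟩ := hPL G R X hX θ hθ
  exact h.lin ψ hψ (fun e => hk (h2 _ ((kr_iff hψ).2 e))) (h1.trans (sup_le le_sup_left hi))

theorem fpf (h : N1 R H r) (g : G) (hg : g ∉ nN R) (l : Lin R) (hl : l ∈ trv R (r0 R H)) (e : g • l = l) :
    l = 1 := by
  have hS : ∀ s ∈ sS R, ev l s = 1 := by
    have : sS R ≤ (l.h.ker).map R.subtype := commutator_le.2 fun a ha b _ => by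
      have hm : ⁅a, b⁆ ∈ R := commutator_le_left R ⊤ (commutator_mem_commutator ha (mem_top b))
      have hm' : ⁅b, a⁆ ∈ R := by rw [← commutatorElement_inv]; exact inv_mem hm
      refine ⟨⟨_, hm⟩, ?_, rfl⟩
      have := b_D (h.reg l g hg e b) ha
      have h3 : ev l ⁅a, b⁆ = 1 := by rw [b_symm hm', this, inv_one]
      rw [ev_of l hm] at h3
      exact h3
    intro s hs
    obtain ⟨y, hy, rfl⟩ := this hs
    exact (ev_coe l y).trans hy
  refine lin_one fun w hw => ?_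
  obtain ⟨t, ht, s, hs, rfl⟩ := h.ts w hw
  rw [ev_mul l ht.1 (commutator_le_left R ⊤ hs), hl t (mem_sup_left ht), hS s hs, one_mul]

theorem van (hPL : PL.{u}) (hTW : TW.{u}) (h : N1 R H r) (θ : R → ℂ) (hθ : IsIrrCharacter R θ)
    (hd : charDegree θ ≠ 1) (x : R) (hx : (x : G) ∉ r0 R H) : θ x = 0 := by
  have := h.nr0
  obtain ⟨l, hl, hne⟩ := exists_trv (X := R) (K := r0 R H) le_sup_right x.2 hx
  exact hTW G R h.toN0.comm R (g2 R) ⊥ le_rfl (commutator_le_left R R) bot_le (trv R (r0 R H)) inv_trv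
    (fun y hy m _ => smul_of_mem hy m) (fun m hm w hw => hm w (mem_sup_right hw)) (nN R) (fpf h)
    (fun θ' hθ' hk _ => pl1 hPL h R le_rfl θ' hθ' hk) θ hθ (fun e => hd ((kr_iff hθ).1 e)) (kr_bot θ) x x.2 l hl hne

theorem cam (hPL : PL.{u}) (hTW : TW.{u}) (h : N1 R H r) (x : G) (hxR : x ∈ R) (hx : x ∉ r0 R H) (w : G)
    (hw : w ∈ g2 R) : ∃ y ∈ R, ⁅x, y⁆ = w := by
  have hwR : w ∈ R := commutator_le_left R R hw
  have hc : IsConj (⟨x, hxR⟩ : R)⁻¹ ((⟨x, hxR⟩ : R)⁻¹ * ⟨w, hwR⟩) := by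
    refine (isConj_iff_forall_irr _ _).2 fun χ => ?_
    by_cases hd : charDegree (χ : R → ℂ) = 1
    · rw [χ.2.isClassFunction.mul_comm]
      exact ((kr_iff χ.2).2 hd (mem_subgroupOf.2 hw) _).symm
    · rw [van hPL hTW h _ χ.2 hd _ (fun e => hx (inv_mem_iff.1 e)), van hPL hTW h _ χ.2 hd _ fun e => hx ?_]
      exact inv_mem_iff.1 ((Subgroup.mul_mem_cancel_right _ (mem_sup_right hw)).1 e)
  obtain ⟨c, hc⟩ := isConj_iff.1 hc
  refine ⟨c, c.2, ?_⟩
  have e : (c : G) * x⁻¹ * (c : G)⁻¹ = x⁻¹ * w := congrArg Subtype.val hc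
  rw [commutatorElement_def, mul_assoc x, mul_assoc x, e, mul_inv_cancel_left]

end J1px

theorem j1p : J1'.{u} := fun hPL hTW _ _ _ _ _ _ _ h =>
  { h with
    pl1 := fun X _ hX θ hθ hk => J1px.pl1 hPL h X hX θ hθ hk
    van := J1px.van hPL hTW h
    cam := J1px.cam hPL hTW h }

end CL.ND4
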