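/-
Project ND4: the second layer, first part.
-/
import Cfsg.Agent.ND4.Defs
import Cfsg.Agent.Grp.Fitting

set_option autoImplicit false

namespace CL.ND4

open Cfsg Subgroup CL.Grp CL.Char CL.Char.NDiv CL.Char.RelDeg CL.Char.Palfy CL.Grp.Homog
open scoped commutatorElement

universe u

namespace J2x

variable {G : Type u} [Group G] [Finite G] {R H : Subgroup G} [hR : R.Normal] {r : ℕ}

omit [Finite G] in
theorem l2 : g2 R ≤ R := commutator_le_left R R

omit [Finite G] in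
theorem l3 : g3 R ≤ g2 R := commutator_le_left _ _

omit [Finite G] in
theorem rD : R ≤ dD R := fun _ hx _ hw => commutator_mem_commutator hw hx

omit [Finite G] in
theorem fixR {l : Lin (g2 R)} (hl : Tr l (g3 R)) {x : G} (hx : x ∈ R) : x • l = l := cen_smul l3 hl (rD hx)

omit hR in
theorem lin_iff {ψ : R → ℂ} (h : IsIrrCharacter R ψ) : charDegree ψ = 1 ↔ Kr ψ (g2 R) := by
  rw [h.isCharacter.charDegree_eq_one_iff, h.one_eq_one_iff]
  exact ⟨fun e x hx => e (mem_comm.2 hx), fun e x hx => e (mem_comm.1 hx)⟩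

omit [Finite G] in
theorem kr_iff {X K : Subgroup G} {l : Lin X} : Kr (tw l 1) K ↔ Tr l K := by
  refine ⟨fun e w hw => ?_, fun e w hw x => ?_⟩
  · by_cases h : w ∈ X
    · have := apply_eq_one_of_mem_charKer (e (x := ⟨w, h⟩) hw)
      rw [ev_of l h]
      exact Units.ext (by simpa [tw] using this)
    · exact dif_neg h
  · have := e w hw
    rw [ev_coe] at this
    simp [tw, this]

omit [Finite G] in
theorem nkr {X : Subgroup G} {l : Lin X} (h : l ≠ 1) : ¬ Kr (tw l 1) X := fun e => h (lin_one (kr_iff.1 e))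

theorem ex (gen : GEN.{u}) (h : N0 R H r) (hne : g2 R ≠ ⊥) :
    ∃ l : Lin (g2 R), l ≠ 1 ∧ Tr l (g3 R) ∧ MulAction.stabilizer G l ≤ dD R := by
  have := Fact.mk h.hr
  have c : ⁅g2 R, g2 R⁆ ≤ g3 R := commutator_mono le_rfl l2
  obtain ⟨l, hl, hg⟩ := gen G R H r h (g2 R) l2 (trv (g2 R) (g3 R)) inv_trv fun x hx l hl => fixR hl hx
  have k : ∀ g : G, g • l = l → g ∈ dD R := fun g e w hw => by
    by_contra n
    have m1 : ⁅g, w⁆ ∈ g2 R := by
      rw [commutatorElement_def]; exact mul_mem (Normal.conj_mem inferInstance w hw g) (inv_mem hw)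
    obtain ⟨m, hm, m2⟩ := exists_trv c (commutatorElement_inv g w ▸ inv_mem m1) n
    exact m2 (by rw [b_symm m1, b_D (hg g e m hm) hw, inv_one])
  by_cases l1 : l = 1
  · obtain ⟨x, hx, n⟩ : ∃ x ∈ g2 R, x ∉ g3 R := by
      by_contra! e
      exact hne (eq_bot_of_le_commutator h.pR.isNilpotent l2 e)
    obtain ⟨m, hm, m2⟩ := exists_trv c hx n
    exact ⟨m, fun e => m2 (by rw [e, ev_lone]), hm, fun g _ => k g (by rw [l1, smul_one])⟩
  · exact ⟨l, l1, hl, k⟩

omit [Finite G] in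
theorem core (h : N1' R H r) {ψ : R → ℂ} (hψ : IsIrrCharacter R ψ) (h1 : charDegree ψ ≠ 1) {l : Lin (g2 R)}
    (hl : Tr l (g3 R)) (e : ∀ (x : G) (hx : x ∈ g2 R) (y : R), ψ (⟨x, l2 hx⟩ * y) = (ev l x : ℂ) * ψ y) :
    inertia R ψ = MulAction.stabilizer G l := by
  have n2 : (g2 R).Normal := inferInstance
  have p0 : ψ 1 ≠ 0 := by rw [← hψ.cast_charDegree]; exact_mod_cast hψ.charDegree_pos.ne'
  refine le_antisymm (fun g hg => ?_) fun g hg => ?_
  · have : g • l / l = 1 := lin_one fun w hw => by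
      have a := e _ (n2.conj_mem' w hw g) 1
      have b := e w hw 1
      rw [mul_one] at a b
      have c := (inv_mem hg) ⟨w, l2 hw⟩
      rw [ev_ldiv, ev_smul, div_eq_one]
      refine Units.ext (mul_right_cancel₀ p0 ?_)
      rw [← a, ← b, ← c]; simp only [inv_inv]
    exact div_eq_one.1 this
  · obtain ⟨a, ha, x, hx, rfl⟩ := h.fac g
    refine mul_mem (fun y => ?_) (le_inertia hψ.isClassFunction hx)
    have fa : a • l = l := by
      have : (a * x) • l = l := hg
      rwa [mul_smul, fixR hl hx] at this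
    by_cases hy : (y : G) ∈ r0 R H
    · rw [r0, sup_comm] at hy
      obtain ⟨w, hw, t, ht, e1⟩ := mem_sup_of_normal_left.1 hy
      have c : a * t = t * a := ht.2 a ha
      have a1 := e _ (n2.conj_mem w hw a) ⟨t, ht.1⟩
      have a2 := e w hw ⟨t, ht.1⟩
      rw [ev_conj fa, ← a2] at a1
      rw [show y = ⟨w, l2 hw⟩ * ⟨t, ht.1⟩ from Subtype.ext e1.symm, ← a1]
      congr 1
      refine Subtype.ext ?_
      change a * (w * t) * a⁻¹ = a * w * a⁻¹ * t
      rw [show a * w * a⁻¹ * t = a * w * (a⁻¹ * (t * a)) * a⁻¹ by group, ← c]; group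
    · rw [h.van ψ hψ h1 y hy, h.van ψ hψ h1 _ fun k => hy (by simpa [mul_assoc] using h.nr0.conj_mem' _ k a)]

end J2x

open J2x in
theorem j2 : J2.{u} := by
  intro gen pl cz G _ _ R _ H r h hne
  classical
  have := Fintype.ofFinite (g2 R)
  have c : ⁅g2 R, g2 R⁆ ≤ g3 R := commutator_mono le_rfl l2
  obtain ⟨l0, l1, lt, ls⟩ := ex gen h.toN0 hne
  have dN : ∃ d ∈ H, d ∈ dD R ∧ d ∉ nN R := by
    obtain ⟨g, hg, n⟩ := SetLike.not_le_iff_exists.1 (h.pl1 (g2 R) l2 _ (irr_lin l0) (nkr l1))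
    rw [inertia_lin] at hg
    obtain ⟨a, ha, x, hx, rfl⟩ := h.fac g
    exact ⟨a, ha, (mul_mem_cancel_right (rD hx)).1 (ls hg), fun k => n (mul_mem k (mem_sup_left hx))⟩
  have ts3 : ∀ t ∈ tT R H, ∀ s ∈ sS R, ⁅t, s⁆ ∈ g3 R := fun t ht s hs => by
    obtain ⟨d, dH, dD', dN⟩ := dN
    have sR : sS R ≤ R := commutator_le_left _ _
    by_contra n
    obtain ⟨m, hm, m2⟩ := exists_trv c (commutator_mem_commutator ht.1 (sR hs)) n
    refine m2 (h.inv1 (fun y => ev m ⁅t, y⁆) (fun a ha b hb => b_right (fixR hm (sR ha))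
      (commutator_mem_commutator ht.1 (sR ha)) (commutator_mem_commutator ht.1 (sR hb))) (fun w hw => hm _ ?_) d dN
      (fun y _ => ?_) s hs)
    · exact commutatorElement_inv w t ▸ inv_mem (commutator_mem_commutator hw ht.1)
    · have e : d * t * d⁻¹ = t := by rw [ht.2 d dH, mul_inv_cancel_right]
      rw [← ev_conj (cen_smul l3 hm dD') ⁅t, y⁆]
      congr 1
      conv_lhs => rw [← e]
      simp only [commutatorElement_def]; group
  refine ⟨h, dN, ts3, ?_, fun ψ hψ h1 k => ?_, fun l n hl => ?_⟩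
  · obtain ⟨ψ, hψ, i, k, -⟩ := pl G R (g2 R) l2 _ (irr_lin l0)
    exact ⟨ψ, hψ, fun e => nkr l1 (k _ ((lin_iff hψ).1 e)), i.trans (sup_le rD ((inertia_lin l0).le.trans ls))⟩
  · have p0 : ψ 1 ≠ 0 := by rw [← hψ.cast_charDegree]; exact_mod_cast hψ.charDegree_pos.ne'
    obtain ⟨l, e⟩ := cz G R (g2 R) l2 ψ hψ k
    have hl : Tr l (g3 R) := fun w hw => Units.ext (mul_right_cancel₀ p0 (by
      rw [← e w (l3 hw) 1, Units.val_one, one_mul]; exact k (x := ⟨w, l2 (l3 hw)⟩) hw 1))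
    refine ⟨l, fun l1 => h1 ((lin_iff hψ).2 fun w hw y => ?_), hl, core h hψ h1 hl e⟩
    have := e w hw y
    rwa [l1, ev_lone, Units.val_one, one_mul] at this
  · obtain ⟨ψ, hψ, -, k1, k2, k3⟩ := pl G R (g2 R) l2 _ (irr_lin l)
    have h1 : charDegree ψ ≠ 1 := fun e => nkr n (k1 _ ((lin_iff hψ).1 e))
    have k := k2 _ l3 (kr_iff.2 hl)
    obtain ⟨a, a0, ha⟩ := k3 l2 (by rw [inertia_lin]; exact fun x hx => fixR hl hx)
    obtain ⟨m, e⟩ := cz G R (g2 R) l2 ψ hψ k
    have e' : ∀ (x : G) (hx : x ∈ g2 R) (y : R), ψ (⟨x, l2 hx⟩ * y) = (ev l x : ℂ) * ψ y := fun x hx y => by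
      have b1 := ha ⟨x, hx⟩
      have b2 : ψ 1 = a * tw l 1 1 := ha 1
      have b3 := e x hx 1
      rw [mul_one, b1, b2] at b3
      rw [e x hx y, ev_of l hx]
      congr 1
      refine mul_right_cancel₀ a0 ?_
      simpa [tw, mul_comm] using b3.symm
    refine ⟨ψ, hψ, h1, k, core h hψ h1 hl e', fun hT => ?_⟩
    have z : ⁅r0 R H, R⁆ ≤ l.h.ker.map (g2 R).subtype := commutator_le.2 fun x hx y hy => by
      rw [r0, sup_comm] at hx
      obtain ⟨w, hw, t, ht, rfl⟩ := mem_sup_of_normal_left.1 hx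
      obtain ⟨t', ht', s, hs, rfl⟩ := h.ts y hy
      have sR : s ∈ R := commutator_le_left _ _ hs
      have m := commutator_mem_commutator (mul_mem (l2 hw) ht.1) hy
      refine ⟨⟨_, m⟩, ?_, rfl⟩
      change l.h _ = 1
      rw [← ev_of l m, b_left (fixR hl (l2 hw)) (commutator_mem_commutator (l2 hw) hy) (commutator_mem_commutator ht.1 hy),
        hl _ (commutator_mem_commutator hw hy), b_right (fixR hl ht'.1) (commutator_mem_commutator ht.1 ht'.1)
          (commutator_mem_commutator ht.1 sR), hl _ (ts3 t ht s hs), hT, mul_one, mul_one]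
      rw [commutatorElement_def]
      exact mul_mem (mul_mem (mul_mem ht ht') (inv_mem ht)) (inv_mem ht')
    intro x hx y
    obtain ⟨w, hw, e1⟩ := z hx
    have := e' w w.2 y
    rw [ev_coe, show l.h w = 1 from hw, Units.val_one, one_mul] at this
    rw [← this]; congr 2; exact Subtype.ext e1.symm

end CL.ND4
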