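/-
Project ND4: the second layer.
-/
import Cfsg.Agent.ND4.Defs

set_option autoImplicit false

namespace CL.ND4

open Cfsg Subgroup CL.Grp CL.Char CL.Char.NDiv CL.Char.RelDeg
open scoped commutatorElement

universe u

namespace J2px

variable {G : Type u} [Group G] {R H : Subgroup G} [R.Normal]

theorem RD : R ≤ dD R := fun _ hx _ hw => commutator_mem_commutator hw hx

theorem fixD {l : Lin (g2 R)} (hl : Tr l (g3 R)) {g : G} (hg : g ∈ dD R) : g • l = l :=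
  cen_smul (commutator_le_left _ _) hl hg

theorem tw3 {m : Lin (g2 R)} (hm : Tr m (g3 R)) (k : G) : Tr (k • m / m) (g3 R) :=
  div_mem (inv_trv (X := g2 R) (K := g3 R) k m hm) hm

theorem twT (m : Lin (g2 R)) {k : G} (hk : k ∈ H) : Tr (k • m / m) (tT R H) := fun w hw => by
  rw [ev_ldiv, ev_smul, mul_assoc, ← mem_centralizer_iff.1 hw.2 k hk, inv_mul_cancel_left, div_self']

end J2px

open J2px in
theorem j2p : J2'.{u} := by
  intro fr G _ _ R _ H r h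
  have := h.nr0
  have r0R : r0 R H ≤ R := sup_le inf_le_left (commutator_le_left _ _)
  have F := fun (ψ : R → ℂ) (i : IsIrrCharacter R ψ) (n : charDegree ψ ≠ 1) => fr G R (r0 R H) r0R ψ i (h.van ψ i n)
  have psi : ∀ l : Lin (g2 R), l ≠ 1 → Tr l (g3 R) → Tr l (tT R H) → ∃ ψ : R → ℂ, IsIrrCharacter R ψ ∧
      charDegree ψ ≠ 1 ∧ inertia R ψ = MulAction.stabilizer G l ∧ charDegree ψ ^ 2 = (r0 R H).relIndex R :=
    fun l l1 l3 lT =>
      let ⟨ψ, i, n, _, e, k⟩ := h.li l l1 l3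
      ⟨ψ, i, n, e, (F ψ i n).2.2 (k lT)⟩
  have nd : ∀ ψ ψ' : R → ℂ, IsIrrCharacter R ψ → IsIrrCharacter R ψ' → charDegree ψ ≠ 1 → charDegree ψ' ≠ 1 →
      charDegree ψ ^ 2 = (r0 R H).relIndex R → inertia R ψ' ≤ inertia R ψ →
      charDegree ψ' = charDegree ψ ∧ inertia R ψ ≤ inertia R ψ' := fun ψ ψ' i i' n n' e =>
    h.nd ψ ψ' i i' (.inl n) ((Nat.pow_dvd_pow_iff two_ne_zero).1 (e ▸ (F ψ' i' n').1))
  have w1 : ∀ l : Lin (g2 R), Tr l (g3 R) → Tr l (tT R H) → ∀ g ∉ dD R, g • l = l → l = 1 := fun l l3 lT g hg e => by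
    by_contra l1
    obtain ⟨ψ, i, n, e1, e2⟩ := psi l l1 l3 lT
    obtain ⟨ψ', i', n', k⟩ := h.gen2
    exact hg (k ((nd ψ ψ' i i' n n' e2 (k.trans fun d hd => e1.ge (fixD l3 hd))).2 (e1.ge e)))
  have ex2 : dD R ≠ ⊤ → ∃ ψ : R → ℂ, IsIrrCharacter R ψ ∧ charDegree ψ ≠ 1 ∧ inertia R ψ = dD R ∧
      charDegree ψ ^ 2 = (r0 R H).relIndex R := fun k => by
    obtain ⟨g, hg⟩ : ∃ g, g ∉ dD R := not_forall.1 fun m => k (eq_top_iff.2 fun g _ => m g)
    obtain ⟨a, ha, x, hx, rfl⟩ := h.fac g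
    obtain ⟨w, hw, n⟩ : ∃ w ∈ g2 R, ⁅w, a⁆ ∉ g3 R := by
      by_contra! m
      exact hg (mul_mem m (RD hx))
    obtain ⟨m, hm, e⟩ := exists_trv (X := g2 R) (K := g3 R) (commutator_mono le_rfl (commutator_le_left _ _))
      (x := ⁅a, w⁆) (mul_mem (Normal.conj_mem inferInstance w hw a) (inv_mem hw))
      fun c => n (by rw [← commutatorElement_inv]; exact inv_mem c)
    have l1 : a • m / m ≠ 1 := fun c => e (b_D (div_eq_one.1 c) hw)
    obtain ⟨ψ, i, n, e1, e2⟩ := psi _ l1 (tw3 hm a) (twT m ha)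
    refine ⟨ψ, i, n, e1.trans (le_antisymm (fun g c => ?_) fun d hd => fixD (tw3 hm a) hd), e2⟩
    by_contra hg
    exact l1 (w1 _ (tw3 hm a) (twT m ha) g hg c)
  refine ⟨h, w1, fun ψ i n k => ?_, ex2, fun k ψ i n m => ?_⟩
  · obtain ⟨l, -, l3, e⟩ := h.il ψ i n k
    rw [e]
    by_cases c : MulAction.stabilizer G l ≤ dD R
    · exact .inr (le_antisymm c fun d hd => fixD l3 hd)
    obtain ⟨g, hg, gD⟩ := SetLike.not_le_iff_exists.1 c
    obtain ⟨a, ha, x, hx, rfl⟩ := h.fac g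
    have al : a • l = l := by
      have := MulAction.mem_stabilizer_iff.1 hg
      rwa [mul_smul, fixD l3 (RD hx)] at this
    refine .inl (eq_top_iff.2 fun g _ => ?_)
    obtain ⟨b, hb, y, hy, rfl⟩ := h.fac g
    refine mul_mem (div_eq_one.1 (w1 _ (tw3 l3 b) (twT l hb) a (fun c => gD (mul_mem c (RD hx))) ?_)) (fixD l3 (RD hy))
    rw [smul_div', ← mul_smul, h.ab a ha b hb, mul_smul, al]
  · obtain ⟨ψ', i', n', e1, e2⟩ := ex2 k
    exact (comap_mono (commutator_mono le_sup_right le_rfl)).trans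
      ((F ψ i n).2.1 (by rw [(nd ψ' ψ i' i n' n e2 (e1 ▸ m)).1, e2]))

end CL.ND4
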