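/-
Project ND4, job J3 (helper60): the third layer, commutators.
-/
import Cfsg.Agent.ND4.Defs
import Cfsg.Agent.Even.Amb2

set_option autoImplicit false

namespace CL.ND4

open Cfsg Subgroup CL.Grp CL.Char CL.Char.NDiv CL.Char.RelDeg CL.Char.Palfy CL.Grp.Homog
open scoped commutatorElement

universe u

theorem j3 : J3.{u} := by
  intro nrm G _ _ R _ H r h h3
  have := Fact.mk h.hr
  have SR : sS R ≤ R := commutator_le_left _ _
  have l2 : g2 R ≤ R := commutator_le_left _ _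
  have l3 : g3 R ≤ g2 R := commutator_le_left _ _
  have l4 : g4 R ≤ g3 R := commutator_le_left _ _
  have c33 : ⁅g3 R, g3 R⁆ ≤ g4 R := commutator_mono le_rfl (l3.trans l2)
  have fx : ∀ {l : Lin (g3 R)}, Tr l (g4 R) → ∀ x ∈ R, x • l = l := fun hl x hx =>
    cen_smul l4 hl fun w hw => commutator_mem_commutator hw hx
  have TS : ⁅tT R H, sS R⁆ ≤ g3 R := commutator_le.2 h.ts3
  have c1 : ∀ w ∈ g2 R, ∀ t ∈ tT R H, ⁅w, t⁆ ∈ g4 R := by
    have k : g2 R ≤ ⁅sS R, sS R⁆ ⊔ g3 R := fun w hw => by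
      obtain ⟨s0, hs0, n0⟩ := h.ne0
      obtain ⟨y, hy, rfl⟩ := h.cam s0 (SR hs0) n0 w hw
      obtain ⟨t, ht, s, hs, rfl⟩ := h.ts y hy
      rw [show ⁅s0, t * s⁆ = ⁅t, s0⁆⁻¹ * (t * ⁅s0, s⁆ * t⁻¹) by simp only [commutatorElement_def]; group]
      exact mul_mem (mem_sup_right (inv_mem (h.ts3 t ht s0 hs0)))
        (mem_sup_left (Normal.conj_mem inferInstance _ (commutator_mem_commutator hs0 hs) t))
    exact commutator_le.1 ((commutator_mono k le_rfl).trans (commutator_sup_left_le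
      (three_subgroups (commutator_mono ((commutator_comm_le _ _).trans TS) SR) (commutator_mono TS SR))
      (commutator_mono le_rfl inf_le_left)))
  have c22 : ⁅g2 R, g2 R⁆ ≤ g4 R := three_subgroups (commutator_mono (commutator_comm_le _ _) le_rfl) le_rfl
  have c2 : ∀ l : Lin (g3 R), Tr l (g4 R) → ∀ d ∈ dD R, d ∉ nN R → d • l = l → l = 1 := fun l hl d hd dN e => by
    have k : g3 R ≤ l.h.ker.map (g3 R).subtype := commutator_le.2 fun w hw y hy => by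
      have m : ∀ y ∈ R, ⁅w, y⁆ ∈ g3 R := fun y hy => commutator_mem_commutator hw hy
      have mu : ∀ a ∈ R, ∀ b ∈ R, ev l ⁅w, a * b⁆ = ev l ⁅w, a⁆ * ev l ⁅w, b⁆ := fun a ha b hb =>
        b_right (fx hl a ha) (m a ha) (m b hb)
      have k1 := h.inv1 (fun y => ev l ⁅w, y⁆) (fun a ha b hb => mu a (SR ha) b (SR hb))
        (fun w' hw' => hl _ (c22 (commutator_mem_commutator hw hw'))) d dN fun s hs => by
          have z3 : ⁅w, d⁻¹⁆⁻¹ ∈ g3 R := inv_mem (inv_mem hd w hw)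
          have z4 : ⁅⁅w, d⁻¹⁆⁻¹, s⁆ ∈ g4 R := commutator_mem_commutator z3 (SR hs)
          show ev l ⁅w, d * s * d⁻¹⁆ = ev l ⁅w, s⁆
          rw [show ⁅w, d * s * d⁻¹⁆ = d * ⁅⁅w, d⁻¹⁆⁻¹ * w, s⁆ * d⁻¹ by simp only [commutatorElement_def]; group,
            ev_conj e, b_left (fx hl _ (l2 (l3 z3))) (l4 z4) (m s (SR hs)), hl _ z4, one_mul]
      refine ⟨⟨_, m y hy⟩, (ev_of l (m y hy)).symm.trans ?_, rfl⟩
      obtain ⟨t, ht, s, hs, rfl⟩ := h.ts y hy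
      rw [mu t ht.1 s (SR hs), hl _ (c1 w hw t ht), one_mul]
      exact k1 s hs
    refine lin_one fun w hw => ?_
    obtain ⟨x, hx, rfl⟩ := k hw
    exact (ev_coe l x).trans hx
  have n1 : ∀ {l : Lin (g3 R)} {x : G}, ev l x ≠ 1 → l ≠ 1 := fun e e' => e (e' ▸ ev_lone _)
  have ne3 : ∃ l : Lin (g3 R), Tr l (g4 R) ∧ l ≠ 1 := by
    obtain ⟨x, hx, x4⟩ := SetLike.not_le_iff_exists.1 fun e : g3 R ≤ g4 R =>
      h3 (CL.Even.eq_bot_of_le_commutator (h.pR.to_le (l3.trans l2)) h.pR le_normalizer_of_normal e)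
    obtain ⟨l, hl, e⟩ := exists_trv c33 hx x4
    exact ⟨l, hl, n1 e⟩
  have c3' : ∀ l : Lin (g3 R), Tr l (g4 R) → l ≠ 1 → ∃ h ∈ H, h ∉ nN R ∧ h • l = l := fun l hl l1 => by
    have := Fintype.ofFinite G
    have := Fintype.ofFinite (g3 R)
    have k := h.pl1 (g3 R) (l3.trans l2) _ (irr_lin l) fun e => l1 (Lin.ext fun n => by
      have : tw l 1 (n * 1) = tw l 1 1 := e (mem_subgroupOf.2 (l3 n.2)) 1
      simpa [tw] using this)
    rw [inertia_lin] at k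
    obtain ⟨g, hg, gN⟩ := SetLike.not_le_iff_exists.1 k
    obtain ⟨a, ha, x, hx, rfl⟩ := h.fac g
    exact ⟨a, ha, fun e => gN (mul_mem e (mem_sup_left hx)), by
      rw [← fx hl x hx, ← mul_smul, fx hl x hx]; exact hg⟩
  refine ⟨h, c1, c2, fun e => ?_, c3', ne3, fun x hx => by_contra fun x4 => ?_, fun t ht s hs => by_contra fun x4 => ?_⟩
  · obtain ⟨l, hl, l1⟩ := ne3
    obtain ⟨a, -, aN, ea⟩ := c3' l hl l1
    exact l1 (c2 l hl a (e ▸ mem_top a) aN ea)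
  · obtain ⟨l, hl, e⟩ := exists_trv c33 hx.2 x4
    obtain ⟨d, dH, hd, dN⟩ := h.dN
    obtain ⟨m, hm, e1, e2⟩ := nrm G R H r h.toN0 (g3 R) (l3.trans l2) (trv (g3 R) (g4 R)) inv_trv (zpowers d)
      (zpowers_le.2 dH) l hl x (fun b hb => by
        rw [ev_smul, mul_assoc, ← hx.1.2 b (zpowers_le.2 dH hb), inv_mul_cancel_left]) e
    exact n1 e2 (c2 m hm d hd dN (e1 d (mem_zpowers d)))
  · obtain ⟨l, hl, e⟩ := exists_trv c33 (h.ts3 t ht s hs) x4
    obtain ⟨a, ha, aN, ea⟩ := c3' l hl (n1 e)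
    refine e (h.inv1 (fun y => ev l ⁅t, y⁆)
      (fun a ha b hb => b_right (fx hl a (SR ha)) (h.ts3 t ht a ha) (h.ts3 t ht b hb))
      (fun w hw => hl _ (commutatorElement_inv w t ▸ inv_mem (c1 w hw t ht))) a aN (fun s _ => ?_) s hs)
    show ev l ⁅t, a * s * a⁻¹⁆ = ev l ⁅t, s⁆
    rw [← ev_conj ea ⁅t, s⁆, conjugate_commutatorElement, ht.2 a ha, mul_inv_cancel_right]

end CL.ND4
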