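/-
Project ND4 (S4780; helper90, job of helper17): the third layer, zeros of the characters.
-/
import Cfsg.Agent.ND4.Defs

set_option autoImplicit false
set_option linter.unusedSectionVars false

namespace CL.ND4

open Cfsg Subgroup CL.Grp CL.Char CL.Char.NDiv CL.Char.RelDeg CL.Char.Palfy CL.Grp.Homog
open scoped commutatorElement

universe u

namespace J3px

variable {G : Type u} [Group G]

theorem cl {A K : Subgroup G} [hK : K.Normal] {g : G} (h : ∀ a ∈ A, g * a * g⁻¹ ∈ A ⊔ K) :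
    ∀ n ∈ A ⊔ K, g * n * g⁻¹ ∈ A ⊔ K := fun n hn => by
  obtain ⟨a, ha, k, hk, rfl⟩ := mem_sup_of_normal_right.1 hn
  rw [← conj_mul]
  exact mul_mem (h a ha) (mem_sup_right (hK.conj_mem k hk g))

theorem nrm {R H : Subgroup G} {r : ℕ} (h0 : N0 R H r) {A K : Subgroup G} [K.Normal] (hA : A ≤ tT R H)
    (h : ∀ x ∈ R, ∀ a ∈ A, x * a * x⁻¹ ∈ A ⊔ K) : (A ⊔ K).Normal := ⟨fun n hn g => by
  obtain ⟨k, hk, x, hx, rfl⟩ := h0.fac g
  rw [show k * x * n * (k * x)⁻¹ = k * (x * n * x⁻¹) * k⁻¹ by group]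
  refine cl (fun a ha => ?_) _ (cl (h x hx) n hn)
  rw [mem_centralizer_iff.1 (hA ha).2 k hk, mul_inv_cancel_right]
  exact mem_sup_left ha⟩

theorem cinv {K : Subgroup G} {a b : G} (h : ⁅a, b⁆ ∈ K) : ⁅b, a⁆ ∈ K := by
  rw [← commutatorElement_inv]; exact inv_mem h

variable {R H : Subgroup G} [R.Normal] {r : ℕ}

theorem l2 : g2 R ≤ R := commutator_le_left R R
theorem l3 : g3 R ≤ g2 R := commutator_le_left (g2 R) R
theorem lS : sS R ≤ R := commutator_le_left R ⊤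

omit [R.Normal] in
theorem m3 {w x : G} (hw : w ∈ g2 R) (hx : x ∈ R) : ⁅w, x⁆ ∈ g3 R := commutator_mem_commutator hw hx

variable [Finite G]

theorem deg {ψ : R → ℂ} (hψ : IsIrrCharacter R ψ) (h : ¬ Kr ψ (g3 R)) : charDegree ψ ≠ 1 := fun e =>
  h fun _ hy => commutator_le_charKer_of_one_eq_one hψ.isCharacter (hψ.isCharacter.charDegree_eq_one_iff.1 e)
    (mem_comm.2 (l3 (mem_subgroupOf.1 hy)))

theorem c6 (pl : PL.{u}) (tw : TW.{u}) (h : N3 R H r) (ψ : R → ℂ) (hψ : IsIrrCharacter R ψ) (hK : ¬ Kr ψ (g3 R))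
    (x : R) (hx : (x : G) ∈ g2 R) (hx' : (x : G) ∉ (tT R H ⊓ g2 R) ⊔ g3 R) : ψ x = 0 := by
  have : ((tT R H ⊓ g2 R) ⊔ g3 R).Normal := nrm h.toN0 inf_le_left fun y hy a ha => by
    rw [show y * a * y⁻¹ = a * ⁅a⁻¹, y⁆ by simp only [commutatorElement_def]; group]
    exact mul_mem (mem_sup_left ha) (mem_sup_right (m3 (inv_mem ha.2) hy))
  obtain ⟨l, hl, hne⟩ := exists_trv (X := g2 R) (K := (tT R H ⊓ g2 R) ⊔ g3 R)
    ((commutator_mono le_rfl l2).trans le_sup_right) hx hx'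
  refine tw G R h.toN0.comm (g2 R) (g3 R) ⊥ l2 l3 bot_le (trv (g2 R) ((tT R H ⊓ g2 R) ⊔ g3 R)) inv_trv
    (fun y hy m hm => cen_smul (sup_le inf_le_right l3) hm fun w hw => mem_sup_right (m3 hw hy))
    (fun m hm w hw => hm w (mem_sup_right hw)) (dD R)
    (fun g hg m hm => h.w1 m (fun w hw => hm w (mem_sup_right hw)) (fun w hw => ?_) g hg)
    (fun θ hθ h1 _ h2 => ?_) ψ hψ hK (fun y hy => ?_) x hx l hl hne
  · by_cases h2 : w ∈ g2 R
    · exact hm w (mem_sup_left ⟨hw, h2⟩)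
    · exact dif_neg h2
  · obtain ⟨ψ', p1, p2, p3, -⟩ := pl G R (g2 R) l2 θ hθ
    have k : ¬ Kr ψ' (g3 R) := fun e => h1 (p3 _ e)
    exact k (h.p2 h.c3 ψ' p1 (deg p1 k) (p2.trans (sup_le (fun y hy w hw => m3 hw hy) h2)))
  · rw [show y = 1 from Subtype.ext (mem_bot.1 (mem_subgroupOf.1 hy))]
    exact one_mem _

omit [Finite G] in
theorem nt1 (h : N3 R H r) : (tT R H ⊔ g3 R).Normal := nrm h.toN0 le_rfl fun y hy a ha => by
  obtain ⟨t, ht, s, hs, rfl⟩ := h.ts y hy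
  rw [show t * s * a * (t * s)⁻¹ = t * ⁅s, a⁆ * a * t⁻¹ by simp only [commutatorElement_def]; group]
  exact mul_mem (mul_mem (mul_mem (mem_sup_left ht) (mem_sup_right (cinv (h.ts3 a ha s hs)))) (mem_sup_left ha))
    (mem_sup_left (inv_mem ht))

/-- a character does not vanish on its centre -/
theorem ne0 (cz : CZ.{u}) {ψ : R → ℂ} (hψ : IsIrrCharacter R ψ) {w : R} (hw : ∀ y : R, ⁅y, w⁆ ∈ charKer ψ) :
    ψ w ≠ 0 := by
  have := hψ.charKer_normal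
  obtain ⟨l, hl⟩ := cz G R ((cen ⊤ (charKer ψ)).map R.subtype) (map_subtype_le _) ψ hψ fun y hy => by
    have k : ⁅(cen ⊤ (charKer ψ)).map R.subtype, R⁆ ≤ (charKer ψ).map R.subtype := commutator_le.2 fun a ha b hb => by
      obtain ⟨a, ha, rfl⟩ := ha
      exact ⟨⁅a, ⟨b, hb⟩⁆, cinv (ha _ (mem_top _)), rfl⟩
    obtain ⟨z, hz, e⟩ := k (mem_subgroupOf.1 hy)
    rwa [← show z = y from Subtype.ext e]
  have := hl w ⟨w, fun y _ => hw y, rfl⟩ 1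
  rw [mul_one] at this
  rw [show ψ w = _ from this]
  exact mul_ne_zero (Units.ne_zero _) hψ.one_ne_zero

theorem c7 (pl : PL.{u}) (tw : TW.{u}) (cz : CZ.{u}) (h : N3 R H r) (ψ : R → ℂ) (hψ : IsIrrCharacter R ψ)
    (hK : ¬ Kr ψ (g3 R)) (h4 : Kr ψ (g4 R)) (x : R) (hx : (x : G) ∉ tT R H ⊔ g3 R) : ψ x = 0 := by
  by_cases h0 : (x : G) ∈ r0 R H
  swap
  · exact h.van ψ hψ (deg hψ hK) x h0
  have hn := hψ.charKer_normal
  obtain ⟨t, ht, w, hw, e⟩ := mem_sup_of_normal_right.1 h0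
  obtain rfl : x = ⟨t, ht.1⟩ * ⟨w, l2 hw⟩ := Subtype.ext e.symm
  obtain ⟨l, hl⟩ := cz G R (g3 R) (l3.trans l2) ψ hψ h4
  have m4 : ∀ z : R, (z : G) ∈ g4 R → z ∈ charKer ψ := fun z hz => h4 (mem_subgroupOf.2 hz)
  by_cases hA : ∀ s ∈ sS R, ev l ⁅s, w⁆ = 1
  · refine absurd (c6 pl tw h ψ hψ hK ⟨w, l2 hw⟩ hw fun k => hx ?_) (ne0 cz hψ fun y => ?_)
    · exact mul_mem (mem_sup_left ht) ((sup_le_sup_right inf_le_left _ : (tT R H ⊓ g2 R) ⊔ g3 R ≤ tT R H ⊔ g3 R) k)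
    · obtain ⟨t', ht', s, hs, e'⟩ := h.ts y y.2
      obtain rfl : y = ⟨t', ht'.1⟩ * ⟨s, lS hs⟩ := Subtype.ext e'
      rw [show ∀ a b c : R, ⁅a * b, c⁆ = a * ⁅b, c⁆ * a⁻¹ * ⁅a, c⁆ from fun a b c => by
        simp only [commutatorElement_def]; group]
      refine mul_mem (hn.conj_mem _ (fun y => ?_) _) (m4 _ (cinv (h.c1 w hw t' ht')))
      have := hl _ (cinv (m3 hw (lS hs))) y
      rwa [hA s hs, Units.val_one, one_mul] at this
  · push Not at hA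
    obtain ⟨s, hs, hA⟩ := hA
    have k3 := cinv (m3 hw (lS hs))
    have k1 := hψ.isClassFunction (⟨t, ht.1⟩ * ⟨w, l2 hw⟩) ⟨s, lS hs⟩
    rw [show ∀ a b c : R, c * (a * b) * c⁻¹ = ⁅c, a⁆ * (⁅a, ⁅c, b⁆⁆ * (⁅c, b⁆ * (a * b))) from fun a b c => by
        simp only [commutatorElement_def]; group,
      m4 _ (cinv (h.c5 t ht s hs)), m4 _ (cinv (commutator_mem_commutator k3 ht.1))] at k1
    have k2 := (hl _ k3 (⟨t, ht.1⟩ * ⟨w, l2 hw⟩)).symm.trans k1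
    by_contra k
    exact hA (Units.val_eq_one.1 (mul_right_cancel₀ k (k2.trans (one_mul _).symm)))

end J3px

theorem j3p : J3'.{u} := fun pl tw cz _ _ _ _ _ _ _ h =>
  ⟨h, J3px.c6 pl tw h, J3px.nt1 h, J3px.c7 pl tw cz h⟩

end CL.ND4
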