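/-
Project ND4 (S4780): the third layer, the fully ramified characters.
-/
import Cfsg.Agent.ND4.Defs

set_option autoImplicit false

namespace CL.ND4

open Cfsg Subgroup CL.Grp CL.Char CL.Char.NDiv CL.Char.RelDeg CL.Char.Palfy CL.Grp.Homog
open scoped commutatorElement

universe u

namespace J4x

theorem comm_cen {Q : Type*} [Group Q] {t s a b : Q} (h1 : Commute a (s * b)) (h2 : Commute b t) :
    ⁅t * a, s * b⁆ = ⁅t, s⁆ := by
  have e1 : a * (s * b) * a⁻¹ = s * b := by rw [h1.eq, mul_inv_cancel_right]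
  have e2 : b * t⁻¹ * b⁻¹ = t⁻¹ := by rw [h2.inv_right.eq, mul_inv_cancel_right]
  calc ⁅t * a, s * b⁆ = t * (a * (s * b) * a⁻¹) * t⁻¹ * (s * b)⁻¹ := by simp only [commutatorElement_def]; group
    _ = t * s * (b * t⁻¹ * b⁻¹) * s⁻¹ := by rw [e1]; group
    _ = ⁅t, s⁆ := by rw [e2, commutatorElement_def]

variable {G : Type u} [Group G] [Finite G] {R : Subgroup G} [hR : R.Normal] {H : Subgroup G} {r : ℕ}

omit [Finite G] in
theorem l3 : g3 R ≤ R := commutator_le_right _ _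
omit [Finite G] in
theorem l4 : g4 R ≤ g3 R := commutator_le_left _ _
omit [Finite G] in
theorem lX : tT R H ⊔ g3 R ≤ R := sup_le inf_le_left l3
omit [Finite G] in
theorem dec {x : G} (hx : x ∈ tT R H ⊔ g3 R) : ∃ t ∈ tT R H, ∃ z ∈ g3 R, t * z = x := mem_sup_of_normal_right.1 hx

omit [Finite G] in
theorem cq {z y : G} (hz : z ∈ g3 R) (hy : y ∈ R) :
    Commute (QuotientGroup.mk' (g4 R) z) (QuotientGroup.mk' (g4 R) y) := by
  rw [← commutatorElement_eq_one_iff_commute, ← map_commutatorElement]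
  exact (QuotientGroup.eq_one_iff _).2 (commutator_mem_commutator hz hy)

theorem ext (c4 : tT R H ⊓ g3 R ≤ g4 R) (l : Lin (g3 R)) (hl : Tr l (g4 R)) :
    ∃ m : Lin (tT R H ⊔ g3 R), Tr m (tT R H) ∧ ∀ z ∈ g3 R, ev m z = ev l z := by
  have hc : commutator ↥(tT R H ⊔ g3 R) ≤ (tT R H ⊔ g4 R).subgroupOf _ := (commutator_le).2 fun a _ b _ => by
    obtain ⟨t, ht, z, hz, e⟩ := dec a.2
    obtain ⟨s, hs, w, hw, e'⟩ := dec b.2
    have k : ⁅t, s⁆⁻¹ * ⁅t * z, s * w⁆ ∈ g4 R := by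
      rw [← QuotientGroup.eq_one_iff, ← QuotientGroup.mk'_apply, map_mul, map_inv, map_commutatorElement,
        map_commutatorElement, map_mul, map_mul, comm_cen (by rw [← map_mul]; exact cq hz (mul_mem hs.1 (l3 hw)))
          (cq hw ht.1), inv_mul_cancel]
    have k2 : ⁅t, s⁆ ∈ tT R H := mul_mem (mul_mem (mul_mem ht hs) (inv_mem ht)) (inv_mem hs)
    have := mul_mem (mem_sup_left k2 : _ ∈ tT R H ⊔ g4 R) (mem_sup_right k)
    rw [mul_inv_cancel_left, e, e'] at this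
    exact mem_subgroupOf.2 this
  obtain ⟨μ, h1, h2⟩ := exists_monoidHom_extend_of_ker (inclusion (le_sup_right : g3 R ≤ tT R H ⊔ g3 R))
    ((tT R H ⊔ g4 R).subgroupOf _) l.h fun a ha => by
      obtain ⟨t, ht, w, hw, e⟩ := mem_sup_of_normal_right.1 (mem_subgroupOf.1 (sup_le hc le_rfl ha))
      have e : t * w = a := e
      have k : t ∈ g4 R := c4 ⟨ht, by rw [eq_mul_inv_of_mul_eq e]; exact (g3 R).mul_mem a.2 ((g3 R).inv_mem (l4 hw))⟩
      rw [← ev_coe, ← e]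
      exact hl _ (mul_mem k hw)
  refine ⟨μ, fun t ht => ?_, fun z hz => ?_⟩
  · exact (ev_of (D := tT R H ⊔ g3 R) μ (mem_sup_left ht)).trans (h1 _ (mem_subgroupOf.2 (mem_sup_left ht)))
  · exact (ev_of (D := tT R H ⊔ g3 R) μ (mem_sup_right hz)).trans ((h2 ⟨z, hz⟩).trans (ev_of l hz).symm)

omit [Finite G] in
theorem fixm [hX : (tT R H ⊔ g3 R).Normal] (m : Lin (tT R H ⊔ g3 R)) {g : G}
    (h1 : ∀ t ∈ tT R H, ev m (g⁻¹ * t * g) = ev m t) (h2 : ∀ z ∈ g3 R, ev m (g⁻¹ * z * g) = ev m z) : g • m = m :=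
  Lin.ext fun x => by
    obtain ⟨t, ht, z, hz, e⟩ := dec x.2
    rw [← ev_coe, ← ev_coe, ev_smul, ← e, show g⁻¹ * (t * z) * g = (g⁻¹ * t * g) * (g⁻¹ * z * g) by group,
      ev_mul m (hX.conj_mem' _ (mem_sup_left ht) g) (hX.conj_mem' _ (mem_sup_right hz) g), h1 t ht, h2 z hz,
      ev_mul m (mem_sup_left ht) (mem_sup_right hz)]

omit [Finite G] hR in
theorem kr_tw {X K : Subgroup G} {m : Lin X} (h : Tr m K) : Kr (tw m 1) K := fun k hk x => by
  have : m.h k = 1 := (ev_coe m k).symm.trans (h _ (mem_subgroupOf.1 hk))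
  simp [tw, this]

omit [Finite G] in
theorem le_stab {ψ : R → ℂ} {l : Lin (g3 R)} {e : ℂ} (he : e ≠ 0)
    (h : ∀ (z : G) (hz : z ∈ g3 R), ψ ⟨z, l3 hz⟩ = e * ev l z) : inertia R ψ ≤ MulAction.stabilizer G l := fun g hg => by
  refine Lin.ext fun z => ?_
  have k := (inv_mem hg) ⟨z, l3 z.2⟩
  have hz : g⁻¹ * z * g⁻¹⁻¹ ∈ g3 R := Normal.conj_mem inferInstance _ z.2 _
  rw [h _ hz, h _ z.2, mul_right_inj' he, inv_inv] at k
  rw [← ev_coe, ← ev_coe, ev_smul, k]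

theorem c8 (pl : PL.{u}) (fr : FR.{u}) (h : N3' R H r) (l : Lin (g3 R)) (hl : Tr l (g4 R)) (l1 : l ≠ 1) :
    ∃ ψ : R → ℂ, IsIrrCharacter R ψ ∧ charDegree ψ ≠ 1 ∧
      charDegree ψ ^ 2 = (tT R H ⊔ g3 R).relIndex R ∧ inertia R ψ = MulAction.stabilizer G l := by
  have hX := h.nt1
  have := Fintype.ofFinite ↥(tT R H ⊔ g3 R)
  obtain ⟨m, m1, m2⟩ := ext h.c4 l hl
  have m4 : Tr m (g4 R) := fun w hw => (m2 w (l4 hw)).trans (hl w hw)
  have k0 : ∀ s x : G, x ∈ tT R H ⊔ g3 R → ⁅x⁻¹, s⁻¹⁆ ∈ g4 R → ev m (s⁻¹ * x * s) = ev m x := fun s x hx k => by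
    rw [show s⁻¹ * x * s = x * ⁅x⁻¹, s⁻¹⁆ by simp only [commutatorElement_def]; group,
      ev_mul m hx (mem_sup_right (l4 k)), m4 _ k, mul_one]
  have mR : ∀ y ∈ R, y • m = m := fun y hy => by
    obtain ⟨t, ht, s, hs, rfl⟩ := h.ts y hy
    rw [mul_smul, fixm m (g := s) (fun t ht => k0 s t (mem_sup_left ht) (h.c5 _ (inv_mem ht) _ (inv_mem hs)))
      fun z hz => k0 s z (mem_sup_right hz) (commutator_mem_commutator (inv_mem hz)
        (inv_mem (commutator_le_left _ _ hs))), smul_of_mem (mem_sup_left ht)]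
  obtain ⟨ψ, hψ, -, -, p3, p4⟩ := pl G R _ lX (tw m 1) (irr_lin m)
  obtain ⟨e, e0, he⟩ := p4 lX (by rw [inertia_lin]; exact mR)
  have he' : ∀ (x : G) (hx : x ∈ tT R H ⊔ g3 R), ψ ⟨x, lX hx⟩ = e * ev m x := fun x hx => by
    rw [he ⟨x, hx⟩, ev_of m hx]; simp [tw]
  have he3 : ∀ (z : G) (hz : z ∈ g3 R), ψ ⟨z, l3 hz⟩ = e * ev l z := fun z hz => by
    rw [← m2 z hz, ← he' z (mem_sup_right hz)]
  have n3 : ¬ Kr ψ (g3 R) := fun k => l1 (lin_one fun w hw => by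
    have k1 := k (show (⟨w, l3 hw⟩ : R) ∈ (g3 R).subgroupOf R from hw) 1
    rw [mul_one, he3 w hw, show (1 : R) = ⟨1, l3 (one_mem _)⟩ from rfl, he3 1 (one_mem _), mul_right_inj' e0,
      ev_one] at k1
    exact Units.ext k1)
  have k4 : Kr ψ (g4 R) := p3 _ (l4.trans le_sup_right) (kr_tw m4)
  have van := h.c7 ψ hψ n3 k4
  have kc : Kr ψ ⁅tT R H ⊔ g3 R, R⁆ := p3 _ (commutator_le_left _ _) (kr_tw fun w hw => by
    have : ⁅tT R H ⊔ g3 R, R⁆ ≤ m.h.ker.map (tT R H ⊔ g3 R).subtype := commutator_le.2 fun x hx y hy => by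
      have hm : ⁅y, x⁆ ∈ tT R H ⊔ g3 R := commutator_le_right R _ (commutator_mem_commutator hy hx)
      have hm' : ⁅x, y⁆ ∈ tT R H ⊔ g3 R := commutator_le_left _ R (commutator_mem_commutator hx hy)
      refine ⟨⟨_, hm'⟩, ?_, rfl⟩
      rw [SetLike.mem_coe, MonoidHom.mem_ker, ← ev_of m hm', b_symm hm, b_D (mR y hy) hx, inv_one]
    obtain ⟨a, a1, rfl⟩ := this hw
    exact (ev_coe m a).trans a1)
  refine ⟨ψ, hψ, fun d => n3 fun w hw => ?_, (fr G R _ lX ψ hψ van).2.2 kc, le_antisymm (le_stab e0 he3) fun g hg => ?_⟩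
  · exact hψ.one_eq_one_iff.1 (hψ.isCharacter.charDegree_eq_one_iff.1 d)
      (mem_comm.2 (commutator_le_left _ _ (mem_subgroupOf.1 hw)))
  · obtain ⟨a, ha, x, hx, rfl⟩ := h.fac g
    refine mul_mem ?_ (le_inertia hψ.isClassFunction hx)
    have xl : x • l = l := cen_smul l4 (mem_trv.2 hl) fun w hw => commutator_mem_commutator hw hx
    have al : a • l = l := by rwa [MulAction.mem_stabilizer_iff, mul_smul, xl] at hg
    have am : a • m = m := fixm m (fun t ht => by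
      rw [mul_assoc, ← mem_centralizer_iff.1 ht.2 a ha, inv_mul_cancel_left]) fun z hz => by
        rw [m2 z hz, m2 _ (Normal.conj_mem' inferInstance _ hz a), ← ev_smul, al]
    intro n
    by_cases hn : (n : G) ∈ tT R H ⊔ g3 R
    · rw [he' _ (hX.conj_mem _ hn a), ev_conj am, ← he' _ hn]
    · rw [van n hn, van _ fun k => hn (by simpa [mul_assoc] using hX.conj_mem' _ k a)]

theorem stE (gen : GEN.{u}) (pl : PL.{u}) (fr : FR.{u}) (h : N3' R H r) (l : Lin (g3 R)) (hl : Tr l (g4 R))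
    (l1 : l ≠ 1) : MulAction.stabilizer G l = eE R := by
  have hE : ∀ l : Lin (g3 R), Tr l (g4 R) → eE R ≤ MulAction.stabilizer G l := fun l hl g hg =>
    cen_smul l4 (mem_trv.2 hl) hg
  refine le_antisymm ?_ (hE l hl)
  obtain ⟨l0, h0, k0⟩ := gen G R H r h.toN0 (g3 R) l3 (trv (g3 R) (g4 R)) inv_trv
    fun x hx m hm => cen_smul l4 hm fun w hw => commutator_mem_commutator hw hx
  have s0 : MulAction.stabilizer G l0 ≤ eE R := fun g hg w hw => by
    by_contra k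
    have hm : ⁅g, w⁆ ∈ g3 R := commutator_le_right ⊤ _ (commutator_mem_commutator (mem_top g) hw)
    have hm' : ⁅w, g⁆ ∈ g3 R := commutator_le_left _ ⊤ (commutator_mem_commutator hw (mem_top g))
    obtain ⟨m, hm1, hm2⟩ := exists_trv (commutator_mono le_rfl l3) hm' k
    exact hm2 (by rw [b_symm hm, b_D (k0 g hg m hm1) hw, inv_one])
  by_cases e : l0 = 1
  · exact fun g _ => s0 (by rw [e]; exact smul_one g)
  obtain ⟨ψ, a1, a2, a3, a4⟩ := c8 pl fr h l hl l1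
  obtain ⟨ψ0, b1, -, b3, b4⟩ := c8 pl fr h l0 h0 e
  have := (h.nd ψ ψ0 a1 b1 (.inl a2) ((Nat.pow_dvd_pow_iff two_ne_zero).1 (by rw [a3, b3]))
    (by rw [a4, b4]; exact s0.trans (hE l hl))).2
  rw [a4, b4] at this
  exact this.trans s0

end J4x

open J4x in
theorem j4 : J4.{u} := fun gen pl cz fr G _ _ R _ H r h => by
  refine { h with ext := ext h.c4, c8 := c8 pl fr h, c9 := fun ψ hψ n3 k4 => ?_, e3 := fun l hl g hg e => ?_ }
  · have hX := h.nt1
    obtain ⟨l, hl⟩ := cz G R (g3 R) l3 ψ hψ k4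
    have he : ∀ (z : G) (hz : z ∈ g3 R), ψ ⟨z, l3 hz⟩ = ψ 1 * ev l z := fun z hz => by
      rw [mul_comm, ← hl z hz, mul_one]
    have l1 : l ≠ 1 := fun e => n3 fun w hw y => by
      have := hl w (mem_subgroupOf.1 hw) y
      rwa [e, ev_lone, Units.val_one, one_mul] at this
    have l4' : Tr l (g4 R) := fun w hw => by
      have k1 := k4 (show (⟨w, l3 (l4 hw)⟩ : R) ∈ (g4 R).subgroupOf R from hw) 1
      rw [mul_one, he w (l4 hw), mul_eq_left₀ hψ.one_ne_zero] at k1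
      exact Units.ext k1
    obtain ⟨φ, a1, a2, a3, a4⟩ := c8 pl fr h l l4' l1
    have k := le_stab hψ.one_ne_zero he
    obtain ⟨d, k'⟩ := h.nd φ ψ a1 hψ (.inl a2) ((Nat.pow_dvd_pow_iff two_ne_zero).1 (by
      rw [a3]; exact (fr G R _ lX ψ hψ (h.c7 ψ hψ n3 k4)).1)) (by rwa [a4])
    rw [a4] at k'
    exact ⟨by rw [d, a3], (le_antisymm k k').trans (stE gen pl fr h l l4' l1)⟩
  · by_contra l1
    exact hg ((stE gen pl fr h l hl l1).le e)

end CL.ND4
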