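/-
Project ND4 (helper38): the third layer, conclusion.
-/
import Cfsg.Agent.ND4.Defs

set_option autoImplicit false

namespace CL.ND4

open Cfsg Subgroup CL.Grp CL.Char CL.Char.NDiv CL.Char.RelDeg CL.Char.Palfy CL.Grp.Homog
open scoped commutatorElement

universe u

namespace J4px

variable {G : Type u} [Group G] [Finite G]

theorem mem_tw {X : Subgroup G} [X.Normal] {θ : X → ℂ} (hθ : IsIrrCharacter X θ) (m : Lin X) {x : X}
    (hx : ev m x = 1) : x ∈ charKer (tw m θ) ↔ x ∈ charKer θ := by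
  have := Fintype.ofFinite G
  have := Fintype.ofFinite X
  rw [(irr_tw hθ m).mem_charKer, hθ.mem_charKer, tw_apply_one, tw, ← ev_coe, hx, Units.val_one, one_mul]

theorem ev_of_tw {X : Subgroup G} [X.Normal] {θ : X → ℂ} (hθ : IsIrrCharacter X θ) (m : Lin X) {x : X}
    (h1 : x ∈ charKer θ) (h2 : x ∈ charKer (tw m θ)) : ev m x = 1 := by
  have := Fintype.ofFinite G
  have := Fintype.ofFinite X
  rw [(irr_tw hθ m).mem_charKer, tw_apply_one, tw, ← ev_coe, hθ.mem_charKer.1 h1] at h2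
  have h0 : θ 1 ≠ 0 := by
    rw [← hθ.cast_charDegree]
    exact_mod_cast hθ.charDegree_pos.ne'
  exact Units.val_eq_one.1 ((mul_eq_right₀ h0).1 h2)

variable {R H : Subgroup G} [R.Normal] {r : ℕ}

omit [Finite G] in
theorem l2 : g2 R ≤ R := commutator_le_left _ _
omit [Finite G] in
theorem l3 : g3 R ≤ g2 R := commutator_le_left _ _
omit [Finite G] in
theorem l4 : g4 R ≤ g3 R := commutator_le_left _ _

theorem c10 (pl : PL.{u}) (fr : FR.{u}) (h : N4 R H r) : ∀ t ∈ tT R H, ∀ y ∈ R, ⁅t, y⁆ ∈ g4 R := by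
  intro t ht y hy
  obtain ⟨t', ht', s, hs, rfl⟩ := h.ts y hy
  rw [show ⁅t, t' * s⁆ = ⁅t, t'⁆ * (t' * ⁅t, s⁆ * t'⁻¹) by simp only [commutatorElement_def]; group]
  refine mul_mem ?_ (Normal.conj_mem inferInstance _ (h.c5 t ht s hs) t')
  by_contra hc
  have := h.nt1
  have := Fintype.ofFinite G
  have := Fintype.ofFinite (tT R H ⊔ g3 R : Subgroup G)
  have hT : ⁅t, t'⁆ ∈ tT R H := mul_mem (mul_mem (mul_mem ht ht') (inv_mem ht)) (inv_mem ht')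
  have hR : tT R H ⊔ g3 R ≤ R := sup_le inf_le_left (l3.trans l2)
  let c : (tT R H ⊔ g3 R : Subgroup G) := ⟨⁅t, t'⁆, mem_sup_left hT⟩
  obtain ⟨θ, hθ, k3, k4, kc⟩ : ∃ θ : (tT R H ⊔ g3 R : Subgroup G) → ℂ, IsIrrCharacter _ θ ∧ ¬ Kr θ (g3 R) ∧
      Kr θ (g4 R) ∧ c ∉ charKer θ := by
    obtain ⟨θ, hθ, k4, kc⟩ := exists_irr_le_charKer_not_mem ((g4 R).subgroupOf (tT R H ⊔ g3 R)) (g := c) hc
    by_cases k3 : Kr θ (g3 R)
    · obtain ⟨l, l1, l2⟩ := h.ne3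
      obtain ⟨m, m1, m2⟩ := h.ext l l1
      refine ⟨tw m θ, irr_tw hθ m, fun k => l2 (lin_one fun z hz => ?_), fun z hz => ?_, fun k => kc ?_⟩
      · rw [← m2 z hz]
        exact ev_of_tw hθ m (x := ⟨z, mem_sup_right hz⟩) (k3 hz) (k hz)
      · exact (mem_tw hθ m ((m2 _ (l4 hz)).trans (l1 _ hz))).2 (k4 hz)
      · exact (mem_tw hθ m (m1 _ hT)).1 k
    · exact ⟨θ, hθ, k3, k4, kc⟩
  obtain ⟨ψ, hψ, -, p1, p2, -⟩ := pl G R _ hR θ hθ
  have q3 : ¬ Kr ψ (g3 R) := fun k => k3 (p1 _ k)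
  have q4 : Kr ψ (g4 R) := p2 _ (l4.trans le_sup_right) k4
  exact kc (p1 _ ((fr G R _ hR ψ hψ (h.c7 ψ hψ q3 q4)).2.1 (h.c9 ψ hψ q3 q4).1)
    (commutator_mem_commutator (mem_sup_left ht) ht'.1))

theorem d2 (pl : PL.{u}) (fr : FR.{u}) (h : N4 R H r) (ψ : R → ℂ) (hψ : IsIrrCharacter R ψ)
    (h1 : charDegree ψ ≠ 1) (k3 : Kr ψ (g3 R)) : inertia R ψ = dD R := by
  have := h.nr0
  have hc : r0 R H ≤ cen R (g3 R) := sup_le
    (fun t ht w hw => by rw [← commutatorElement_inv]; exact inv_mem (l4 (c10 pl fr h t ht w hw)))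
    fun t ht w hw => by rw [← commutatorElement_inv]; exact inv_mem (commutator_mem_commutator ht hw)
  have hc' : ⁅r0 R H, R⁆ ≤ g3 R := commutator_le.2 fun x hx y hy => by
    rw [← commutatorElement_inv]; exact inv_mem (hc hx y hy)
  have e := (fr G R (r0 R H) (sup_le inf_le_left l2) ψ hψ (h.van ψ hψ h1)).2.2 fun x hx => k3 (hc' hx)
  obtain ⟨ψ0, hψ0, -, i0, e0⟩ := h.ex2 h.c3
  have e1 : charDegree ψ = charDegree ψ0 := Nat.pow_left_injective two_ne_zero (e.trans e0.symm)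
  refine (h.q2 ψ hψ h1 k3).resolve_left fun k => h.c3 ?_
  have := (h.nd ψ ψ0 hψ hψ0 (.inl h1) e1.dvd (k ▸ le_top)).2
  rw [k, i0] at this
  exact top_le_iff.1 this

theorem c11 (nrm : NRM.{u}) (pl : PL.{u}) (fr : FR.{u}) (h : N4 R H r) : tT R H ⊓ g2 R ≤ g3 R := by
  intro x hx
  by_contra hc
  obtain ⟨l, l1, l0⟩ := exists_trv (X := g2 R) (K := g3 R) (commutator_mono le_rfl l2) hx.2 hc
  obtain ⟨m, m1, m2, m3⟩ := nrm G R H r h.toN0 (g2 R) l2 _ inv_trv H le_rfl l l1 x (fun b hb => by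
    rw [ev_smul, mul_assoc, ← hx.1.2 b hb, inv_mul_cancel_left]) l0
  obtain ⟨ψ, hψ, h1, k3, e, -⟩ := h.li m (fun k => m3 (k ▸ ev_lone x)) m1
  refine h.c3 ?_
  rw [← d2 pl fr h ψ hψ h1 k3, e, eq_top_iff]
  intro g _
  obtain ⟨a, ha, y, hy, rfl⟩ := h.fac g
  rw [MulAction.mem_stabilizer_iff, mul_smul, cen_smul l3 m1 fun w hw => commutator_mem_commutator hw hy, m2 a ha]

theorem cam2 (nrm : NRM.{u}) (pl : PL.{u}) (fr : FR.{u}) (h : N4 R H r) :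
    ∀ w ∈ g2 R, w ∉ g3 R → ∀ z ∈ g3 R, ∃ y ∈ R, ⁅w, y⁆ = z := by
  intro w hw hw3 z hz
  have := Fintype.ofFinite R
  have hs : tT R H ⊓ g2 R ⊔ g3 R ≤ g3 R := sup_le (c11 nrm pl fr h) le_rfl
  let a : R := ⟨w⁻¹, l2 (inv_mem hw)⟩
  let b : R := ⟨w⁻¹ * z, l2 (mul_mem (inv_mem hw) (l3 hz))⟩
  have hz' : w⁻¹ * z * w ∈ g3 R := Normal.conj_mem' inferInstance _ hz w
  have hc : IsConj a b := (isConj_iff_forall_irr a b).2 fun χ => by
    by_cases k3 : Kr (χ : R → ℂ) (g3 R)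
    · have e : b = ⟨w⁻¹ * z * w, l2 (l3 hz')⟩ * a := Subtype.ext (by simp [a, b])
      rw [e, apply_mul_of_mem_charKer (k3 hz')]
    · rw [h.c6 _ χ.2 k3 a (inv_mem hw) fun k => hw3 (inv_mem_iff.1 (hs k)),
        h.c6 _ χ.2 k3 b (mul_mem (inv_mem hw) (l3 hz)) fun k =>
          hw3 (inv_mem_iff.1 ((mul_mem_cancel_right hz).1 (hs k)))]
  obtain ⟨y, e⟩ := isConj_iff.1 hc
  have e' : (y : G) * w⁻¹ * (y : G)⁻¹ = w⁻¹ * z := congrArg Subtype.val e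
  exact ⟨y, y.2, by rw [commutatorElement_def, mul_assoc w, mul_assoc w, e', mul_inv_cancel_left]⟩

end J4px

theorem j4p : J4'.{u} := fun nrm pl fr _ _ _ _ _ _ _ h =>
  ⟨h, J4px.c10 pl fr h, J4px.c11 nrm pl fr h, J4px.d2 pl fr h, J4px.cam2 nrm pl fr h⟩

end CL.ND4
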