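/-
Project ND4: the fourth layer.
-/
import Cfsg.Agent.ND4.Defs

set_option autoImplicit false

namespace CL.ND4

open Cfsg Subgroup CL.Grp CL.Char CL.Char.NDiv CL.Char.RelDeg CL.Char.Palfy CL.Grp.Homog
open scoped commutatorElement

universe u

namespace J5x

variable {G : Type u} [Group G] [Finite G] {R H : Subgroup G} [R.Normal] {r : ℕ}

omit [Finite G] in
theorem l2 : g2 R ≤ R := commutator_le_right _ _
omit [Finite G] in
theorem l3 : g3 R ≤ R := commutator_le_right _ _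
omit [Finite G] in
theorem l4 : g4 R ≤ R := commutator_le_right _ _
omit [Finite G] in
theorem l43 : g4 R ≤ g3 R := commutator_le_left _ _
omit [Finite G] in
theorem l54 : g5 R ≤ g4 R := commutator_le_left _ _

omit [Finite G] [R.Normal] in
theorem triv {D X Y : Subgroup G} (hD : ⁅X, Y⁆ ≤ D) {κ : Lin D} (h : ∀ x ∈ X, ∀ y ∈ Y, ev κ ⁅x, y⁆ = 1) :
    Tr κ ⁅X, Y⁆ := fun w hw => by
  obtain ⟨a, ha, rfl⟩ := (commutator_le (H₃ := κ.h.ker.map D.subtype)).2 (fun x hx y hy =>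
    ⟨⟨_, hD (commutator_mem_commutator hx hy)⟩, (ev_of κ _).symm.trans (h x hx y hy), rfl⟩) hw
  exact (ev_coe κ a).trans ha

omit [Finite G] in
theorem f1 (h : N4' R H r) : ⁅r0 R H, g3 R⁆ ≤ g5 R := by
  have c : ⁅tT R H, R⁆ ≤ g4 R := commutator_le.2 h.c10
  have c' : ⁅R, tT R H⁆ ≤ g4 R := (commutator_comm _ _).le.trans c
  have a : ⁅g2 R, g3 R⁆ ≤ g5 R := three_subgroups (H₁ := R) (H₂ := R) (H₃ := g3 R)
    (commutator_mono (commutator_comm _ _).le le_rfl) le_rfl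
  have b : ⁅g3 R, tT R H⁆ ≤ g5 R := three_subgroups (H₁ := g2 R) (H₂ := R) (H₃ := tT R H) (commutator_mono c' l2)
    (commutator_mono ((commutator_mono le_rfl l2).trans c) le_rfl)
  exact commutator_sup_left_le ((commutator_comm _ _).le.trans b) a

omit [Finite G] in
theorem fix {κ : Lin (g4 R)} (hκ : Tr κ (g5 R)) {a : G} (ha : a ∈ R) : a • κ = κ :=
  cen_smul l54 hκ fun _ hw => commutator_mem_commutator hw ha

theorem star (h : N4' R H r) {κ : Lin (g4 R)} (hκ : Tr κ (g5 R)) {g : G} (hE : g ∈ eE R) (hN : g ∉ nN R)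
    (hg : g • κ = κ) : κ = 1 := lin_one (triv le_rfl fun z hz y hy => by
  have lS : sS R ≤ R := commutator_le_left _ _
  have mu : ∀ a ∈ R, ∀ b ∈ R, ev κ ⁅z, a * b⁆ = ev κ ⁅z, a⁆ * ev κ ⁅z, b⁆ := fun a ha b hb =>
    b_right (fix hκ ha) (commutator_mem_commutator hz ha) (commutator_mem_commutator hz hb)
  have t0 : ∀ w ∈ r0 R H, ev κ ⁅z, w⁆ = 1 := fun w hw =>
    hκ _ (((commutator_comm _ _).le.trans (f1 h)) (commutator_mem_commutator hz hw))
  have k := h.inv1 (fun y => ev κ ⁅z, y⁆) (fun a ha b hb => mu a (lS ha) b (lS hb)) (fun w hw => t0 w (mem_sup_right hw))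
    g hN fun s hs => by
      have c : ⁅z, g⁻¹⁆⁻¹ ∈ g4 R := inv_mem ((inv_mem hE) z hz)
      have c5 := commutator_mem_commutator c (lS hs)
      rw [show ⁅z, g * s * g⁻¹⁆ = g * ⁅⁅z, g⁻¹⁆⁻¹ * z, s⁆ * g⁻¹ by simp only [commutatorElement_def]; group, ev_conj hg,
        b_left (fix hκ (l4 c)) (l54 c5) (commutator_mem_commutator hz (lS hs)), hκ _ c5, one_mul]
  obtain ⟨t, ht, s, hs, rfl⟩ := h.ts y hy
  rw [mu t ht.1 s (lS hs), t0 t (mem_sup_left ht), one_mul]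
  exact k s hs)

theorem nE (hC : CZ.{u}) (h : N4' R H r) (θ : g3 R → ℂ) (hθ : IsIrrCharacter _ θ) (n4 : ¬ Kr θ (g4 R))
    (k5 : Kr θ (g5 R)) : ¬ inertia (g3 R) θ ≤ eE R := fun le => by
  obtain ⟨κ, e⟩ := hC G (g3 R) (g4 R) l43 θ hθ ((comap_mono (commutator_mono le_rfl l3)).trans k5)
  have e1 : ∀ {a b : G} (ha : a ∈ g4 R) (hb : b ∈ g4 R), θ ⟨a, l43 ha⟩ = θ ⟨b, l43 hb⟩ → ev κ a = ev κ b :=
    fun {a b} ha hb k => by
      have h1 := e a ha 1
      have h2 := e b hb 1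
      rw [mul_one] at h1 h2
      exact Units.ext (mul_right_cancel₀ hθ.one_ne_zero (h1.symm.trans (k.trans h2)))
  have hκ : Tr κ (g5 R) := fun w hw => (e1 (l54 hw) (one_mem _) (by
    have := k5 (x := ⟨w, l43 (l54 hw)⟩) hw 1
    rwa [mul_one] at this)).trans (ev_one κ)
  obtain ⟨g, hg, hN⟩ := SetLike.not_le_iff_exists.1 (h.pl1 (g3 R) l3 θ hθ fun k =>
    n4 ((comap_mono (l43.trans (commutator_le_left _ _))).trans k))
  have hs : g • κ = κ := div_eq_one.1 (lin_one fun w hw => by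
    rw [ev_ldiv, ev_smul, e1 (Normal.conj_mem' inferInstance w hw g) hw (by simpa using inv_mem hg ⟨w, l43 hw⟩),
      div_self'])
  rw [star h hκ (le hg) hN hs] at e
  exact n4 fun x hx y => by simpa [ev_lone] using e x hx y

end J5x

open J5x

theorem j5 : J5.{u} := by
  intro hP hT hC G _ _ R _ H r h
  refine ⟨h, commutator_le.1 (f1 h), fun κ hκ k1 z hz hc => by_contra fun n => ?_⟩
  cases nonempty_fintype G
  cases nonempty_fintype (g4 R)
  obtain ⟨l, hl, l1⟩ := exists_trv (commutator_mono le_rfl l3) hz n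
  obtain ⟨ψ, hψ, -, p1, p2, p3⟩ := hP G R (g4 R) l4 (tw κ 1) (irr_lin κ)
  obtain ⟨e, -, he⟩ := p3 l4 (by rw [inertia_lin]; exact fun a ha => fix hκ ha)
  have z0 := hT G R h.comm (g3 R) (g4 R) (g5 R) l3 l43 l54 (trv _ _) inv_trv
    (fun x hx l hl => cen_smul l43 hl fun _ hw => commutator_mem_commutator hw hx) (fun _ hl => hl) (eE R)
    (fun g hg l hl e => h.e3 l hl g hg e) (nE hC h) ψ hψ
    (fun k => k1 (Lin.ext fun x => by simpa [tw] using p1 _ k (x := x) x.2 1))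
    (p2 _ l54 fun x hx y => by simp [tw, ← ev_coe, ev_mul κ x.2 y.2, hκ x hx]) ⟨z, l3 hz⟩ hz l hl l1
  have bl : ∀ a ∈ g3 R, ∀ b ∈ g3 R, ∀ y ∈ R, ev κ ⁅a * b, y⁆ = ev κ ⁅a, y⁆ * ev κ ⁅b, y⁆ := fun a ha b hb y hy =>
    b_left (fix hκ (l3 ha)) (commutator_mem_commutator ha hy) (commutator_mem_commutator hb hy)
  let Z : Subgroup G :=
    { carrier := {a | a ∈ g3 R ∧ ∀ y ∈ R, ev κ ⁅a, y⁆ = 1}
      one_mem' := ⟨one_mem _, fun y _ => by rw [commutatorElement_one_left, ev_one]⟩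
      mul_mem' := fun {a b} ha hb => ⟨mul_mem ha.1 hb.1, fun y hy => by
        rw [bl a ha.1 b hb.1 y hy, ha.2 y hy, hb.2 y hy, one_mul]⟩
      inv_mem' := fun {a} ha => ⟨inv_mem ha.1, fun y hy => by
        have := bl _ (inv_mem ha.1) a ha.1 y hy
        rwa [inv_mul_cancel, commutatorElement_one_left, ev_one, ha.2 y hy, mul_one, eq_comm] at this⟩ }
  have lZ : ⁅Z, R⁆ ≤ g4 R := commutator_mono (fun _ m => m.1) le_rfl
  obtain ⟨m, hm⟩ := hC G R Z (fun _ m => l3 m.1) ψ hψ fun x hx => hψ.isCharacter.mem_charKer.2 (by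
    have hx' : (x : G) ∈ ⁅Z, R⁆ := hx
    have h1 := he ⟨x, lZ hx'⟩
    have h2 := he 1
    rw [tw, ← ev_of κ (lZ hx'), triv lZ (fun _ m => m.2) _ hx'] at h1
    rw [tw, map_one] at h2
    exact h1.trans h2.symm)
  have := hm z ⟨hz, hc⟩ 1
  rw [mul_one, z0] at this
  exact mul_ne_zero (Units.ne_zero _) hψ.one_ne_zero this.symm

end CL.ND4
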