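/-
Project ND4 (S4780): the fourth term of the lower central series is trivial.
-/
import Cfsg.Agent.ND4.Defs

set_option autoImplicit false

namespace CL.ND4

open Cfsg Subgroup CL.Grp CL.Char CL.Char.NDiv CL.Char.RelDeg CL.Char.Palfy CL.Grp.Homog
open scoped commutatorElement

universe u

namespace J5px

variable {G : Type u} [Group G]

theorem bot_of_le {N K : Subgroup G} (hH : Group.IsNilpotent K) (hle : N ≤ K) (h : N ≤ ⁅N, K⁆) : N = ⊥ := by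
  obtain ⟨n, hn⟩ := (Subgroup.isNilpotent_iff_lowerCentralSeries K).mp hH
  have key : ∀ k, N ≤ K.lowerCentralSeries k := by
    intro k
    induction k with
    | zero => exact hle
    | succ k ih =>
      rw [Subgroup.lowerCentralSeries_succ]
      exact h.trans (Subgroup.commutator_mono ih le_rfl)
  exact le_bot_iff.mp (hn ▸ key n)

theorem symm_mem {B : Subgroup G} {x y : G} (h : ⁅x, y⁆ ∈ B) : ⁅y, x⁆ ∈ B := by
  rw [← commutatorElement_inv]; exact inv_mem h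

/-- the kernel of a linear character -/
def kr {D : Subgroup G} (κ : Lin D) : Subgroup G := κ.h.ker.map D.subtype

theorem mem_kr {D : Subgroup G} {κ : Lin D} {x : G} : x ∈ kr κ ↔ x ∈ D ∧ ev κ x = 1 := by
  constructor
  · rintro ⟨y, hy, rfl⟩
    exact ⟨y.2, (ev_coe κ y).trans hy⟩
  · rintro ⟨h1, h2⟩
    exact ⟨⟨x, h1⟩, (ev_of κ h1).symm.trans h2, rfl⟩

variable {R H : Subgroup G} [hR : R.Normal] {r : ℕ}

theorem l2 : g2 R ≤ R := commutator_le_left R R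
theorem l3 : g3 R ≤ g2 R := commutator_le_left _ R
theorem l4 : g4 R ≤ g3 R := commutator_le_left _ R
theorem l5 : g5 R ≤ g4 R := commutator_le_left _ R
theorem l0 : r0 R H ≤ R := sup_le inf_le_left l2

theorem c22 : ⁅g2 R, g2 R⁆ ≤ g4 R :=
  three_subgroups (by rw [commutator_comm R (g2 R)]) le_rfl

theorem fixR {κ : Lin (g4 R)} (hκ : κ ∈ trv (g4 R) (g5 R)) {x : G} (hx : x ∈ R) : x • κ = κ :=
  cen_smul l5 hκ fun _ hw => commutator_mem_commutator hw hx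

variable [Finite G]

/-- the group of class four -/
theorem build (nc : NC4.{u}) (h : N5 R H r) (h4 : g4 R ≠ ⊥) {κ : Lin (g4 R)} (hκ : κ ∈ trv (g4 R) (g5 R))
    (h1 : κ ≠ 1)
    (dd : (∀ w ∈ g2 R, ∀ w' ∈ g2 R, ev κ ⁅w, w'⁆ = 1) ∨ ∀ w ∈ g2 R, (∀ w' ∈ g2 R, ev κ ⁅w, w'⁆ = 1) →
      (∀ y ∈ R, (∀ z ∈ g3 R, ev κ ⁅z, y⁆ = 1) → ⁅w, y⁆ ∈ g4 R) →
        ∀ y ∈ R, (∀ z ∈ g3 R, ev κ ⁅z, y⁆ = 1) → ev κ ⁅w, y⁆ = 1) : False := by
  haveI : Fact r.Prime := ⟨h.hr⟩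
  have hn : Group.IsNilpotent R := h.pR.isNilpotent
  have e4 : g4 R ≤ R := l4.trans (l3.trans l2)
  have k5 : ∀ x ∈ g5 R, x ∈ kr κ := fun x hx => mem_kr.2 ⟨l5 hx, hκ x hx⟩
  have a3 : r0 R H ≤ cen R (g3 R) := sup_le (fun t ht y hy => l4 (symm_mem (h.c10 t ht y hy)))
    fun w hw y hy => symm_mem (commutator_mem_commutator hw hy)
  have a4 : r0 R H ≤ cen (g2 R) (g4 R) := sup_le (fun t ht y hy => symm_mem (h.c10 t ht y (l2 hy)))
    fun w hw y hy => c22 (commutator_mem_commutator hy hw)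
  have m4 : ∀ z : R, (z : G) ∈ g3 R → ∀ y : R, ((⁅z, y⁆ : R) : G) ∈ g4 R := fun z hz y =>
    commutator_mem_commutator hz y.2
  refine nc R ((r0 R H).subgroupOf R) ((g2 R).subgroupOf R) ((g3 R).subgroupOf R) ((g4 R).subgroupOf R)
    ((kr κ).subgroupOf R) (κ.h.comp (subgroupOfEquivOfLe e4).toMonoidHom)
    { kL := fun a => ?_
      l4 := fun x hx => (mem_kr.1 hx).1
      l3 := fun x hx => l4 hx
      l2 := fun x hx => l3 hx
      l0 := fun x hx => (le_sup_right : g2 R ≤ r0 R H) hx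
      c2 := fun x y => commutator_mem_commutator x.2 y.2
      c3 := fun x hx y => symm_mem (a3 hx y y.2)
      c4 := m4
      c5 := fun x hx y => k5 _ (commutator_mem_commutator hx y.2)
      c4' := fun x hx w hw => symm_mem (a4 hx w hw)
      c5' := fun x hx z hz => k5 _ (h.f1 x hx z hz)
      c22 := fun w hw w' hw' => c22 (commutator_mem_commutator hw hw')
      cT := fun x hx => ?_
      cam := fun x hx w hw => ?_
      cam2 := fun w hw hw3 z hz => ?_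
      nc := fun z hz hy => h.nc κ hκ h1 z hz fun y hy' => (mem_kr.1 (hy ⟨y, hy'⟩)).2
      ne0 := ?_
      ne2 := ?_
      ne3 := ?_
      ne4 := ?_
      dd := ?_ }
  · have ha : ((a : R) : G) ∈ g4 R := a.2
    rw [mem_subgroupOf, mem_kr, ev_of κ ha]
    exact ⟨fun e => ⟨ha, e⟩, fun e => e.2⟩
  · obtain ⟨t, ht, w, hw, e⟩ := mem_sup_of_normal_right.1 (mem_subgroupOf.1 hx)
    refine ⟨⟨w⁻¹, inv_mem (l2 hw)⟩, mem_subgroupOf.2 (inv_mem hw), fun y => ?_⟩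
    show ⁅(x : G) * w⁻¹, (y : G)⁆ ∈ g4 R
    rw [← e, mul_inv_cancel_right]
    exact h.c10 t ht y y.2
  · obtain ⟨y, hy, e⟩ := h.cam x x.2 hx w hw
    exact ⟨⟨y, hy⟩, Subtype.ext e⟩
  · obtain ⟨y, hy, e⟩ := h.cam2 w hw hw3 z hz
    exact ⟨⟨y, hy⟩, Subtype.ext e⟩
  · obtain ⟨s, hs, hs0⟩ := h.ne0
    exact ⟨⟨s, commutator_le_left R ⊤ hs⟩, hs0⟩
  · by_contra hc
    have : g2 R = ⊥ := bot_of_le hn l2 fun w hw => by
      by_contra hw3
      exact hc ⟨⟨w, l2 hw⟩, hw, hw3⟩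
    exact h4 (le_bot_iff.1 (this ▸ l4.trans l3))
  · by_contra hc
    have : g3 R = ⊥ := bot_of_le hn (l3.trans l2) fun w hw => by
      by_contra hw3
      exact hc ⟨⟨w, l2 (l3 hw)⟩, hw, hw3⟩
    exact h4 (le_bot_iff.1 (this ▸ l4))
  · by_contra hc
    refine h1 (lin_one fun w hw => ?_)
    by_contra hw1
    exact hc ⟨⟨w, e4 hw⟩, hw, fun e => hw1 (mem_kr.1 e).2⟩
  · rcases dd with dd | dd
    · exact Or.inl fun w hw w' hw' => mem_kr.2 ⟨c22 (commutator_mem_commutator hw hw'), dd w hw w' hw'⟩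
    · refine Or.inr fun w hw a1 a2 y hy => mem_kr.2 ⟨a2 y hy, ?_⟩
      refine dd w hw (fun w' hw' => (mem_kr.1 (a1 ⟨w', l2 hw'⟩ hw')).2) (fun y' hy' b => ?_) y y.2
        fun z hz => (mem_kr.1 (hy ⟨z, l2 (l3 hz)⟩ hz)).2
      exact a2 ⟨y', hy'⟩ fun z hz => mem_kr.2 ⟨commutator_mem_commutator hz hy', b z hz⟩

omit [Finite G] in
theorem dconj {d w : G} (hd : d ∈ dD R) (hw : w ∈ g2 R) : ∃ z ∈ g3 R, d⁻¹ * w * d = w * z :=
  ⟨⁅w⁻¹, d⁻¹⁆, (inv_mem hd) _ (inv_mem hw), by simp only [commutatorElement_def]; group⟩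

/-- a character which is moved by `D` -/
theorem caseA (h : N5 R H r) {κ : Lin (g4 R)} (hκ : κ ∈ trv (g4 R) (g5 R)) {d : G} (hd : d ∈ dD R) {w w' : G}
    (hw : w ∈ g2 R) (hw' : w' ∈ g2 R) : ev (d • κ / κ) ⁅w, w'⁆ = 1 := by
  obtain ⟨z, hz, e⟩ := dconj hd hw
  obtain ⟨z', hz', e'⟩ := dconj hd hw'
  have i0 : g2 R ≤ r0 R H := le_sup_right
  have m := mul_mem hw' (l3 hz')
  rw [ev_ldiv, ev_smul, show d⁻¹ * ⁅w, w'⁆ * d = ⁅d⁻¹ * w * d, d⁻¹ * w' * d⁆ by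
    simp only [commutatorElement_def]; group, e, e',
    b_left (fixR hκ (l2 hw)) (c22 (commutator_mem_commutator hw m)) (commutator_mem_commutator hz (l2 m)),
    hκ _ (symm_mem (h.f1 _ (i0 m) z hz)), mul_one,
    b_right (fixR hκ (l2 hw')) (c22 (commutator_mem_commutator hw hw')) (l5 (h.f1 _ (i0 hw) z' hz')),
    hκ _ (h.f1 _ (i0 hw) z' hz'), mul_one, div_self']

/-- the annihilator of the third term -/
def uU {κ : Lin (g4 R)} (hκ : κ ∈ trv (g4 R) (g5 R)) : Subgroup G where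
  carrier := {y | y ∈ R ∧ ∀ z ∈ g3 R, ev κ ⁅z, y⁆ = 1}
  one_mem' := ⟨one_mem _, fun z _ => by rw [commutatorElement_one_right, ev_one]⟩
  mul_mem' := fun {a b} ha hb => ⟨mul_mem ha.1 hb.1, fun z hz => by
    rw [b_right (fixR hκ ha.1) (commutator_mem_commutator hz ha.1) (commutator_mem_commutator hz hb.1), ha.2 z hz,
      hb.2 z hz, mul_one]⟩
  inv_mem' := fun {a} ha => ⟨inv_mem ha.1, fun z hz => by
    have := b_right (fixR hκ ha.1) (commutator_mem_commutator hz ha.1) (commutator_mem_commutator hz (inv_mem ha.1))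
    rw [mul_inv_cancel, commutatorElement_one_right, ev_one, ha.2 z hz, one_mul] at this
    exact this.symm⟩

/-- a character which is fixed by an element of `D` outside `N` -/
theorem caseB (h : N5 R H r) {κ : Lin (g4 R)} (hκ : κ ∈ trv (g4 R) (g5 R)) {d : G} (hd : d ∈ dD R) (hN : d ∉ nN R)
    (hf : d • κ = κ) {w : G} (hw : w ∈ g2 R) (a1 : ∀ w' ∈ g2 R, ev κ ⁅w, w'⁆ = 1)
    (a2 : ∀ y ∈ R, (∀ z ∈ g3 R, ev κ ⁅z, y⁆ = 1) → ⁅w, y⁆ ∈ g4 R) :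
    ∀ y ∈ R, (∀ z ∈ g3 R, ev κ ⁅z, y⁆ = 1) → ev κ ⁅w, y⁆ = 1 := by
  have hU : r0 R H ≤ uU hκ := fun x hx => ⟨l0 hx, fun z hz => hκ _ (symm_mem (h.f1 x hx z hz))⟩
  have mu : ∀ a ∈ uU hκ, ∀ b ∈ uU hκ, ev κ ⁅w, a * b⁆ = ev κ ⁅w, a⁆ * ev κ ⁅w, b⁆ := fun a ha b hb =>
    b_right (fixR hκ ha.1) (a2 a ha.1 ha.2) (a2 b hb.1 hb.2)
  have cj : ∀ a s : G, ev κ ⁅a, d * s * d⁻¹⁆ = ev κ ⁅d⁻¹ * a * d, s⁆ := fun a s => by
    rw [show ⁅a, d * s * d⁻¹⁆ = d * ⁅d⁻¹ * a * d, s⁆ * d⁻¹ by simp only [commutatorElement_def]; group, ev_conj hf]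
  intro y hy hy2
  refine h.inv2 (uU hκ) (fun _ hx => hx.1) hU (fun y => ev κ ⁅w, y⁆) mu (fun x hx => ?_) d hN (fun s hs => ⟨⟨?_, ?_⟩, ?_⟩)
    y ⟨hy, hy2⟩
  · obtain ⟨t, ht, w', hw', rfl⟩ := mem_sup_of_normal_right.1 hx
    let f : R →* ℂˣ := MonoidHom.mk' (fun y => ev κ ⁅t, (y : G)⁆) fun a b =>
      b_right (fixR hκ a.2) (h.c10 t ht a a.2) (h.c10 t ht b b.2)
    have e : ev κ ⁅t, w⁆ = 1 := Abelianization.commutator_subset_ker f (mem_comm.2 (show ((⟨w, l2 hw⟩ : R) : G) ∈ _ from hw))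
    show ev κ ⁅w, t * w'⁆ = 1
    rw [mu t (hU (mem_sup_left ht)) w' (hU (mem_sup_right hw')), a1 w' hw', mul_one, b_symm (h.c10 t ht w (l2 hw)), e,
      inv_one]
  · exact hR.conj_mem s hs.1 d
  · intro z hz
    rw [cj]
    exact hs.2 _ ((inferInstance : (g3 R).Normal).conj_mem' z hz d)
  · obtain ⟨z, hz, e⟩ := dconj hd hw
    show ev κ ⁅w, d * s * d⁻¹⁆ = ev κ ⁅w, s⁆
    rw [cj, e, b_left (fixR hκ (l2 hw)) (a2 s hs.1 hs.2) (commutator_mem_commutator hz hs.1), hs.2 z hz, mul_one]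

end J5px

open J5px in
theorem j5p : J5'.{u} := by
  intro nc G _ _ R _ H r h
  by_contra h4
  haveI : Fact r.Prime := ⟨h.hr⟩
  have hn : Group.IsNilpotent R := h.pR.isNilpotent
  have e4 : g4 R ≤ R := l4.trans (l3.trans l2)
  by_cases hA : ∃ d ∈ dD R, ∃ κ ∈ trv (g4 R) (g5 R), d • κ ≠ κ
  · obtain ⟨d, hd, κ, hκ, hne⟩ := hA
    exact build nc h h4 (div_mem (inv_trv d κ hκ) hκ) (fun e => hne (div_eq_one.1 e))
      (Or.inl fun w hw w' hw' => caseA h hκ hd hw hw')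
  · obtain ⟨x, hx, hx5⟩ : ∃ x ∈ g4 R, x ∉ g5 R := by
      by_contra hc
      exact h4 (bot_of_le hn e4 fun w hw => by
        by_contra hw5
        exact hc ⟨w, hw, hw5⟩)
    obtain ⟨κ, hκ, hne⟩ := exists_trv (X := g4 R) (K := g5 R) (commutator_mono le_rfl e4) hx hx5
    obtain ⟨d, -, hd, hN⟩ := h.dN
    have hf : d • κ = κ := by
      by_contra hc
      exact hA ⟨d, hd, κ, hκ, hc⟩
    exact build nc h h4 hκ (fun e => hne (by rw [e, ev_lone]))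
      (Or.inr fun w hw a1 a2 => caseB h hκ hd hN hf hw a1 a2)

end CL.ND4
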