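/-
Project ND4: the Beisiegel bound from the Pfaffian bound.
-/
import Cfsg.Agent.ND4.Defs

set_option autoImplicit false

namespace CL.ND4

open Subgroup
open scoped commutatorElement

universe u

namespace JBx

theorem modl (hPF : PF) (p : ℕ) [Fact p.Prime] {V W : Type*} [AddCommGroup V] [AddCommGroup W] [Finite V] [Finite W]
    [Module (ZMod p) V] [Module (ZMod p) W] [Nontrivial V] (B : V →ₗ[ZMod p] V →ₗ[ZMod p] W) (halt : ∀ v, B v v = 0)
    (hs : ∀ v, v ≠ 0 → Function.Surjective (B v)) : Nat.card W ^ 2 ≤ Nat.card V := by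
  classical
  let bV := Module.finBasis (ZMod p) V
  let bW := Module.finBasis (ZMod p) W
  have hanti : ∀ x y, B x y = - B y x := by
    intro x y
    have := halt (x + y)
    rw [map_add, map_add B, LinearMap.add_apply, LinearMap.add_apply, halt, halt, zero_add, add_zero] at this
    exact eq_neg_of_add_eq_zero_right this
  have key := hPF p (Module.finrank (ZMod p) W) (Module.finrank (ZMod p) V)
    (fun i => Matrix.of fun j k => bW.repr (B (bV j) (bV k)) i) Module.finrank_pos
    (fun i j k => by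
      simp only [Matrix.of_apply]
      rw [hanti (bV j) (bV k)]; simp)
    (fun i j => by simp [halt]) (by
      intro c hc hdet
      obtain ⟨v, hv, hv0⟩ := Matrix.exists_vecMul_eq_zero_iff.2 hdet
      let φ : W →ₗ[ZMod p] ZMod p := ∑ i, c i • bW.coord i
      have hφ : ∀ w, φ w = ∑ i, c i * bW.repr w i := by
        intro w
        simp [φ, LinearMap.sum_apply]
      let x : V := ∑ j, v j • bV j
      have hx : x ≠ 0 := by
        intro h
        apply hv
        funext j
        exact Fintype.linearIndependent_iff.1 bV.linearIndependent v h j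
      have h0 : φ ∘ₗ B x = 0 := by
        apply bV.ext
        intro k
        have e := congrFun hv0 k
        simp only [Matrix.vecMul, dotProduct, Matrix.sum_apply, Matrix.smul_apply, Matrix.of_apply, smul_eq_mul,
          Pi.zero_apply] at e
        simp only [LinearMap.comp_apply, LinearMap.zero_apply, x, map_sum, map_smul, LinearMap.sum_apply,
          LinearMap.smul_apply, smul_eq_mul]
        rw [← e]
        exact Finset.sum_congr rfl fun j _ => by rw [hφ]
      apply hc
      funext i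
      obtain ⟨y, hy⟩ := hs x hx (bW i)
      have e : φ (bW i) = 0 := by
        rw [← hy]; exact LinearMap.congr_fun h0 y
      rw [hφ] at e
      simpa [Finsupp.single_apply] using e)
  rw [Module.natCard_eq_pow_finrank (K := ZMod p) (V := V), Module.natCard_eq_pow_finrank (K := ZMod p) (V := W),
    Nat.card_zmod, ← pow_mul, mul_comm]
  exact Nat.pow_le_pow_right (Fact.out : p.Prime).pos key

theorem addl (hPF : PF) {V W : Type*} [AddCommGroup V] [AddCommGroup W] [Finite V] [Finite W] [Nontrivial V]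
    (f : V → V → W) (hl : ∀ x x' y, f (x + x') y = f x y + f x' y) (hr : ∀ x y y', f x (y + y') = f x y + f x y')
    (halt : ∀ v, f v v = 0) (hs : ∀ v, v ≠ 0 → Function.Surjective (f v)) : Nat.card W ^ 2 ≤ Nat.card V := by
  classical
  rcases subsingleton_or_nontrivial W with hW | hW
  · rw [Nat.card_unique, one_pow]; exact Nat.card_pos
  have h1 : Nat.card V ≠ 1 := Finite.one_lt_card.ne'
  obtain ⟨p, hp, hpd⟩ := Nat.exists_prime_and_dvd h1
  haveI : Fact p.Prime := ⟨hp⟩
  obtain ⟨x, hx⟩ := exists_prime_addOrderOf_dvd_card' p hpd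
  let L : V → V →+ W := fun y => AddMonoidHom.mk' (fun x => f x y) (fun a b => hl a b y)
  let R : V → V →+ W := fun x => AddMonoidHom.mk' (fun y => f x y) (fun a b => hr x a b)
  have hx0 : x ≠ 0 := by
    rintro rfl
    rw [addOrderOf_zero] at hx
    exact hp.one_lt.ne hx
  have hWp : ∀ w : W, p • w = 0 := by
    intro w
    obtain ⟨y, rfl⟩ := hs x hx0 w
    have : p • L y x = 0 := by rw [← map_nsmul, ← hx, addOrderOf_nsmul_eq_zero, map_zero]
    exact this
  have hVp : ∀ v : V, p • v = 0 := by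
    intro v
    by_contra h
    obtain ⟨w, hw⟩ := exists_ne (0 : W)
    obtain ⟨y, rfl⟩ := hs _ h w
    apply hw
    have : L y (p • v) = 0 := by rw [map_nsmul, hWp]
    exact this
  letI : Module (ZMod p) V := AddCommGroup.zmodModule hVp
  letI : Module (ZMod p) W := AddCommGroup.zmodModule hWp
  exact modl hPF p (LinearMap.mk₂ (ZMod p) f hl (fun c a b => ZMod.map_smul (L b) c a) hr
    (fun c a b => ZMod.map_smul (R a) c b)) halt hs

end JBx

theorem jb : JB.{u} := by
  intro hPF P _ _ R0 A2 A3 h32 hc h20 h03 hs hex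
  classical
  haveI hR0 : R0.Normal := ⟨fun w hw y => by
    have : ⁅y, w⁆ * w ∈ R0 := mul_mem (h20 (hc y w)) hw
    simpa [commutatorElement_def] using this⟩
  have h03' : ∀ y : P, ∀ x ∈ R0, ⁅y, x⁆ ∈ A3 := fun y x hx => by
    rw [← commutatorElement_inv]; exact inv_mem (h03 x hx y)
  haveI hA3 : A3.Normal := ⟨fun w hw y => by
    have : ⁅y, w⁆ * w ∈ A3 := mul_mem (h03' y w (h20 (h32 hw))) hw
    simpa [commutatorElement_def] using this⟩
  letI : CommGroup (P ⧸ R0) := { (inferInstance : Group (P ⧸ R0)) with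
    mul_comm := by
      intro a b
      obtain ⟨a, rfl⟩ := QuotientGroup.mk_surjective a
      obtain ⟨b, rfl⟩ := QuotientGroup.mk_surjective b
      rw [← QuotientGroup.mk_mul, ← QuotientGroup.mk_mul, QuotientGroup.eq]
      have := h20 (hc b⁻¹ a⁻¹)
      simpa [commutatorElement_def, mul_assoc] using this }
  letI : CommGroup (A2 ⧸ A3.subgroupOf A2) := { (inferInstance : Group (A2 ⧸ A3.subgroupOf A2)) with
    mul_comm := by
      intro a b
      obtain ⟨a, rfl⟩ := QuotientGroup.mk_surjective a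
      obtain ⟨b, rfl⟩ := QuotientGroup.mk_surjective b
      rw [← QuotientGroup.mk_mul, ← QuotientGroup.mk_mul, QuotientGroup.eq, mem_subgroupOf]
      have := h03 _ (inv_mem (h20 b.2)) (a : P)⁻¹
      simpa [commutatorElement_def, mul_assoc] using this }
  let γ : P → P → A2 ⧸ A3.subgroupOf A2 := fun x y => QuotientGroup.mk ⟨⁅x, y⁆, hc x y⟩
  have gl : ∀ x x' y, γ (x * x') y = γ x y * γ x' y := by
    intro x x' y
    rw [mul_comm (γ x y)]
    simp only [γ]
    rw [← QuotientGroup.mk_mul, QuotientGroup.eq, mem_subgroupOf]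
    have := hA3.conj_mem _ (h03' x _ (inv_mem (h20 (hc x' y)))) ⁅x, y⁆⁻¹
    have e : ⁅x, y⁆⁻¹ * ⁅x, ⁅x', y⁆⁻¹⁆ * ⁅x, y⁆⁻¹⁻¹ = ⁅x * x', y⁆⁻¹ * (⁅x', y⁆ * ⁅x, y⁆) := by
      simp only [commutatorElement_def]; group
    rw [e] at this
    exact this
  have ga : ∀ x y, γ x y = (γ y x)⁻¹ := by
    intro x y
    simp only [γ]
    rw [← QuotientGroup.mk_inv]
    congr 1
    exact Subtype.ext (commutatorElement_inv y x).symm
  have gr : ∀ x y y', γ x (y * y') = γ x y * γ x y' := by
    intro x y y'
    rw [ga, gl, mul_inv, ← ga, ← ga]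
  have g0 : ∀ x ∈ R0, ∀ y, γ x y = 1 := by
    intro x hx y
    simp only [γ]
    rw [QuotientGroup.eq_one_iff, mem_subgroupOf]
    exact h03 x hx y
  let f : Additive (P ⧸ R0) → Additive (P ⧸ R0) → Additive (A2 ⧸ A3.subgroupOf A2) :=
    fun v w => Additive.ofMul (γ v.toMul.out w.toMul.out)
  have hf : ∀ x y : P, f (Additive.ofMul (x : P ⧸ R0)) (Additive.ofMul (y : P ⧸ R0)) = Additive.ofMul (γ x y) := by
    intro x y
    obtain ⟨a, ha⟩ := QuotientGroup.mk_out_eq_mul R0 x
    obtain ⟨b, hb⟩ := QuotientGroup.mk_out_eq_mul R0 y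
    simp only [f, toMul_ofMul]
    rw [ha, hb, gl, g0 _ a.2, mul_one, gr, ga x b, g0 _ b.2, inv_one, mul_one]
  have hsur : ∀ v : Additive (P ⧸ R0), ∃ x : P, v = Additive.ofMul (x : P ⧸ R0) := by
    intro v
    obtain ⟨x, hx⟩ := QuotientGroup.mk_surjective v.toMul
    exact ⟨x, by rw [hx]; rfl⟩
  haveI : Nontrivial (Additive (P ⧸ R0)) := by
    obtain ⟨x, hx⟩ := hex
    refine ⟨Additive.ofMul (x : P ⧸ R0), 0, fun h => hx ?_⟩
    exact (QuotientGroup.eq_one_iff x).1 h
  have key := JBx.addl hPF f (by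
      intro a b c
      obtain ⟨a, rfl⟩ := hsur a
      obtain ⟨b, rfl⟩ := hsur b
      obtain ⟨c, rfl⟩ := hsur c
      rw [← ofMul_mul, ← QuotientGroup.mk_mul, hf, hf, hf, gl, ofMul_mul]) (by
      intro a b c
      obtain ⟨a, rfl⟩ := hsur a
      obtain ⟨b, rfl⟩ := hsur b
      obtain ⟨c, rfl⟩ := hsur c
      rw [← ofMul_mul, ← QuotientGroup.mk_mul, hf, hf, hf, gr, ofMul_mul]) (by
      intro a
      obtain ⟨a, rfl⟩ := hsur a
      rw [hf]
      simp only [γ]
      rw [ofMul_eq_zero, QuotientGroup.eq_one_iff, mem_subgroupOf]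
      simp) (by
      intro a ha w
      obtain ⟨a, rfl⟩ := hsur a
      have ha' : a ∉ R0 := fun h => ha ((QuotientGroup.eq_one_iff a).2 h)
      obtain ⟨z, hz⟩ := QuotientGroup.mk_surjective w.toMul
      obtain ⟨y, hy⟩ := hs a ha' z z.2
      refine ⟨Additive.ofMul (y : P ⧸ R0), ?_⟩
      rw [hf]
      have : γ a y = w.toMul := by
        rw [← hz]
        simp only [γ]
        congr 1
        exact Subtype.ext hy
      rw [this]; rfl)
  exact key

end CL.ND4
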