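/-
Project ND4: stabilisers centralise no element of the derived subgroup.
-/
import Cfsg.Agent.ND4.Defs
import Cfsg.Agent.Char.GlaubSolv
import Cfsg.Agent.Char.Ito

set_option autoImplicit false

namespace CL.ND4

open Cfsg Subgroup CL.Grp CL.Char CL.Char.NDiv CL.Char.RelDeg CL.Char.Palfy CL.Grp.Homog
open scoped commutatorElement

universe u

namespace M1Ax

/-- an invariant irreducible character not containing a given fixed element in its kernel -/
theorem exists_inv {B P : Type*} [Group B] [Group P] [Finite B] [Finite P] [Group.IsSolvable B] [Group.IsNilpotent P]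
    (hc : (Nat.card B).Coprime (Nat.card P)) (φ : B →* MulAut P) {z : P} (hz : z ≠ 1) (hf : ∀ b, φ b z = z) :
    ∃ χ, IsIrrCharacter P χ ∧ (∀ b g, χ (φ b g) = χ g) ∧ z ∉ charKer χ := by
  let N : Subgroup P := normalClosure {z}
  let M : Subgroup P := ⁅N, ⊤⁆
  have zN : z ∈ N := subset_normalClosure rfl
  have MN : M ≤ N := commutator_le_left _ _
  have zM : z ∉ M := fun h => by
    have le : N ≤ M := normalClosure_le_normal (by simpa using h)
    obtain ⟨n, hn⟩ := Subgroup.nilpotent_iff_lowerCentralSeries.1 ‹Group.IsNilpotent P›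
    have : ∀ k, N ≤ Subgroup.lowerCentralSeries (⊤ : Subgroup P) k := fun k => by
      induction k with
      | zero => exact le_top
      | succ k ih => exact le.trans (commutator_mono ih le_rfl)
    exact hz (mem_bot.1 (hn ▸ this n zN))
  have key : ∀ b, ∀ n ∈ N, n⁻¹ * φ b n ∈ M := fun b n hn => by
    have cz : ∀ c : P, z⁻¹ * (c * z * c⁻¹) ∈ M := fun c => by
      have := commutator_mem_commutator (inv_mem zN) (mem_top c)
      rwa [commutatorElement_def, inv_inv, mul_assoc, mul_assoc, ← mul_assoc c] at this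
    induction hn using closure_induction with
    | mem x hx =>
      obtain ⟨a, rfl, h⟩ := Group.mem_conjugatesOfSet_iff.1 hx
      obtain ⟨c, rfl⟩ := isConj_iff.1 h
      have := mul_mem (inv_mem (cz c)) (cz (φ b c))
      rwa [show (a⁻¹ * (c * a * c⁻¹))⁻¹ * (a⁻¹ * (φ b c * a * (φ b c)⁻¹)) = (c * a * c⁻¹)⁻¹ * (φ b c * a * (φ b c)⁻¹) by group,
        show φ b c * a * (φ b c)⁻¹ = φ b (c * a * c⁻¹) by rw [map_mul, map_mul, map_inv, hf]] at this
    | one => simp
    | mul x y _ _ h1 h2 =>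
      have := mul_mem ((inferInstance : M.Normal).conj_mem _ h1 y⁻¹) h2
      rwa [show y⁻¹ * (x⁻¹ * φ b x) * y⁻¹⁻¹ * (y⁻¹ * φ b y) = (x * y)⁻¹ * (φ b x * φ b y) by group, ← map_mul] at this
    | inv x _ h1 =>
      have := (inferInstance : M.Normal).conj_mem _ (inv_mem h1) x
      rwa [show x * (x⁻¹ * φ b x)⁻¹ * x⁻¹ = x⁻¹⁻¹ * (φ b x)⁻¹ by group, ← map_inv] at this
  have hN : ∀ b, ∀ n ∈ N, φ b n ∈ N := fun b n hn => by
    simpa using mul_mem hn (MN (key b n hn))
  obtain ⟨l, l1, l2⟩ := exists_monoidHom_of_not_mem (N := M.subgroupOf N)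
    (fun y hy => mem_subgroupOf.2 (commutator_mono le_rfl le_top (mem_comm.1 hy))) (g := ⟨z, zN⟩) fun e => zM (mem_subgroupOf.1 e)
  have := Fintype.ofFinite N
  obtain ⟨χ, h1, h2, h3⟩ := gl_exists_inv_over hc φ N hN (isIrrCharacter_linear l) fun b n => by
    have : l (n⁻¹ * ⟨φ b n, hN b n n.2⟩) = 1 := l1 (mem_subgroupOf.2 (key b n n.2))
    rw [map_mul, map_inv, inv_mul_eq_one] at this
    rw [this]
  refine ⟨χ, h1, h2, fun k => l2 ?_⟩
  have := (h1.isCharacter.restrict N).charKer_le_of_classInner_ne_zero (isIrrCharacter_linear l) h3 (x := ⟨z, zN⟩)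
    fun x => k x
  rwa [charKer_monoidHom] at this

theorem index_eq {Y : Type*} [Group Y] [Finite Y] (R A : Subgroup Y) [R.Normal] :
    A.index = (R ⊔ A).index * A.relIndex R := by
  have e1 := relIndex_mul_index (inf_le_right : R ⊓ A ≤ A)
  have e2 := relIndex_mul_index (inf_le_left : R ⊓ A ≤ R)
  have e3 := relIndex_mul_index (le_sup_left : R ≤ R ⊔ A)
  rw [inf_relIndex_right] at e1
  rw [inf_relIndex_left] at e2
  rw [relIndex_sup_left] at e3
  refine Nat.eq_of_mul_eq_mul_left (Nat.pos_of_ne_zero (index_ne_zero_of_finite (H := R.subgroupOf A))) ?_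
  change R.relIndex A * _ = R.relIndex A * _
  rw [e1, ← e2, ← e3]
  ring

end M1Ax

open M1Ax

theorem m1a : M1A.{u} := by
  intro deg Y _ _ W _ _ _ H R M r q n h w w1 z hz hc
  by_contra z1
  have := h.nR
  have := Fact.mk h.hr
  have zR : z ∈ R := commutator_le_left R R hz
  obtain ⟨k, hk⟩ := IsPGroup.iff_card.1 h.pR
  have cop : (Nat.card R).Coprime R.index := by
    rw [hk, ← relIndex_mul_index (show R ≤ H from h.sup ▸ le_sup_left)]
    refine Nat.Coprime.pow_left _ (Nat.Coprime.mul_right ?_ ((Nat.Prime.coprime_iff_not_dvd h.hr).2 h.ndvd))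
    rw [h.sup, relIndex_sup_left]
    exact (h.cM.coprime_dvd_left (relIndex_dvd_card R M)).symm
  set A := MulAction.stabilizer Y w with hA
  have ab : ∀ a ∈ A, ∀ b ∈ A, a * b = b * a := fun a ha b hb => h.ab w w1 a b ha hb
  have i1 : (R.subgroupOf A).index ∣ R.index := relIndex_dvd_index_of_normal R A
  obtain ⟨B, hB⟩ := exists_right_complement'_of_coprime (N := R.subgroupOf A)
    ((cop.coprime_dvd_left (card_comap_dvd_of_injective R A.subtype Subtype.val_injective)).coprime_dvd_right i1)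
  have : Group.IsSolvable B := Group.isSolvable_of_comm fun a b => Subtype.ext (Subtype.ext (ab _ a.1.2 _ b.1.2))
  have := h.pR.isNilpotent
  obtain ⟨ψ, p1, p2, p3⟩ := exists_inv (B := B) (P := R) (by rw [← hB.symm.index_eq_card]; exact (cop.coprime_dvd_right i1).symm)
    ((MulAut.conjNormal : Y →* MulAut R).comp (A.subtype.comp B.subtype)) (z := ⟨z, zR⟩) (fun e => z1 (congrArg Subtype.val e))
    fun b => Subtype.ext (show (b.1 : Y) * z * (b.1 : Y)⁻¹ = z by rw [hc _ b.1.2, mul_inv_cancel_right])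
  have nl : charDegree ψ ≠ 1 := fun e => p3 (p1.one_eq_one_iff.1 (p1.isCharacter.charDegree_eq_one_iff.1 e) (mem_comm.2 hz))
  have RI : R ≤ inertia R ψ := le_inertia p1.isClassFunction
  have AI : A ≤ inertia R ψ := fun a ha => by
    obtain ⟨⟨x, b⟩, e⟩ := hB.2 ⟨a, ha⟩
    rw [← show (x.1 : Y) * (b.1 : Y) = a from congrArg Subtype.val e]
    exact mul_mem (RI x.2) fun y => p2 b y
  have bd : ∀ C : Subgroup R, (∀ a ∈ C, ∀ b ∈ C, a * b = b * a) → charDegree ψ ≤ C.index := fun C hC =>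
    isIrr_degree_le_index_of_abelian p1 p1.cast_charDegree.symm C hC
  have a0 : ∀ a ∈ A.subgroupOf R, ∀ b ∈ A.subgroupOf R, a * b = b * a := fun a ha b hb => Subtype.ext (ab _ ha _ hb)
  have b0 : charDegree ψ ≤ A.relIndex R := bd _ a0
  have dv : charDegree ψ ∣ A.relIndex R := by
    obtain ⟨i, -, hi⟩ := (Nat.dvd_prime_pow h.hr).1 (hk ▸ p1.charDegree_dvd_card)
    obtain ⟨j, -, hj⟩ := (Nat.dvd_prime_pow h.hr).1 (hk ▸ relIndex_dvd_card A R)
    rw [hi, hj] at b0 ⊢
    exact pow_dvd_pow _ ((Nat.pow_le_pow_iff_right h.hr.one_lt).1 b0)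
  have di := index_dvd_of_le (sup_le RI AI)
  have e := h.o1 w w1 _ ((deg Y R cop).1 ψ p1) (fun e => nl (Nat.eq_one_of_mul_eq_one_left e))
    (by rw [← hA, index_eq R A]; exact mul_dvd_mul di dv)
  rw [← hA, index_eq R A] at e
  have pos : 0 < (R ⊔ A).index := Nat.pos_of_ne_zero index_ne_zero_of_finite
  have eq : A.relIndex R ≤ charDegree ψ :=
    Nat.le_of_mul_le_mul_left (e.ge.trans (Nat.mul_le_mul_right _ (Nat.le_of_dvd pos di))) pos
  let C : Subgroup R := centralizer (centralizer (A.subgroupOf R : Set R) : Set R)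
  have AC : A.subgroupOf R ≤ C := fun a ha x hx => (hx a ha).symm
  have CA : C ≤ A.subgroupOf R := by
    have b1 := eq.trans (bd C fun a ha b hb => (ha b fun x hx => (hb x fun y hy => a0 y hy x hx)).symm)
    have e1 := relIndex_mul_index AC
    have p0 : 0 < C.index := Nat.pos_of_ne_zero index_ne_zero_of_finite
    refine relIndex_eq_one.1 (le_antisymm (Nat.le_of_mul_le_mul_right (by rw [e1, one_mul]; exact b1) p0) ?_)
    exact Nat.pos_of_ne_zero index_ne_zero_of_finite
  have : Nontrivial R := ⟨⟨z, zR⟩, 1, fun e => z1 (congrArg Subtype.val e)⟩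
  have := h.pR.center_nontrivial
  obtain ⟨⟨c, cz⟩, c1⟩ := _root_.exists_ne (1 : center R)
  have fx : Fx W (R ⊓ centralizer (R : Set Y)) = ⊤ := (h.md.irr _ Fx_invariant).resolve_left fun e => w1 (mem_bot.1 (e.le
    fun x hx => CA (x := ⟨x, hx.1⟩) fun y _ => Subtype.ext (hx.2 y y.2)))
  refine c1 (Subtype.ext (Subtype.ext (h.md.faith _ fun v => fx.ge (mem_top v) c ⟨c.2, fun y hy => ?_⟩)))
  exact congrArg Subtype.val (mem_center_iff.1 cz ⟨y, hy⟩)

end CL.ND4
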