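/-
Project ND4 (S4780): the normal `r`-subgroup of the module situation is abelian.
-/
import Cfsg.Agent.ND4.Defs
import Cfsg.Agent.Grp.PGroupBasic

set_option autoImplicit false
set_option linter.unusedSectionVars false

namespace CL.ND4

open Cfsg Subgroup CL.Grp CL.Char CL.Char.NDiv CL.Char.RelDeg CL.Char.Palfy CL.Grp.Homog
open scoped commutatorElement

universe u

namespace M1Bx

variable {Y : Type u} [Group Y] [Finite Y]

/-- the `r'`-part of an element outside `H` -/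
theorem rpart {H : Subgroup Y} [H.Normal] {r : ℕ} (hr : r.Prime) (hd : ¬ r ∣ H.index) {a : Y} (ha : a ∉ H) :
    ∃ k m : ℕ, a ^ r ^ k ∉ H ∧ (a ^ r ^ k) ^ m = 1 ∧ m.Coprime r := by
  obtain ⟨k, m, hm, e⟩ := Nat.exists_eq_pow_mul_and_not_dvd (orderOf_pos a).ne' r hr.ne_one
  refine ⟨k, m, fun h => ha (mem_of_cop (((Nat.Prime.coprime_iff_not_dvd hr).2 hd).pow_left k) h
    (pow_index_mem H a)), by rw [← pow_mul, ← e, pow_orderOf_eq_one], ((Nat.Prime.coprime_iff_not_dvd hr).2 hm).symm⟩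

/-- a coprime automorphism of a cyclic `r`-group fixing an element of order `r` is trivial -/
theorem cyc_fix {s z b : Y} {r a m : ℕ} (hs : orderOf s = r ^ a) (hz : orderOf z = r)
    (hzs : z ∈ zpowers s) (hb : b * s * b⁻¹ ∈ zpowers s) (hbz : b * z = z * b) (hm : b ^ m = 1) (hc : m.Coprime r) :
    b * s = s * b := by
  obtain ⟨t, ht⟩ := mem_zpowers_iff.1 hb
  have h1 : ∀ i : ℕ, b ^ i * s * (b ^ i)⁻¹ = s ^ t ^ i := fun i => by
    induction i with
    | zero => simp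
    | succ i ih =>
      calc b ^ (i + 1) * s * (b ^ (i + 1))⁻¹ = b * (b ^ i * s * (b ^ i)⁻¹) * b⁻¹ := by rw [pow_succ']; group
        _ = _ := by rw [ih, ← conj_zpow, ← ht, ← zpow_mul, pow_succ']
  have h2 : ((r ^ a : ℕ) : ℤ) ∣ t ^ m - 1 := by
    rw [← hs, orderOf_dvd_sub_iff_zpow_eq_zpow, ← h1, hm]; simp
  have h3 : (r : ℤ) ∣ t - 1 := by
    obtain ⟨j, rfl⟩ := mem_zpowers_iff.1 hzs
    rw [← hz, orderOf_dvd_sub_iff_zpow_eq_zpow, zpow_one, ← zpow_mul, mul_comm, zpow_mul, ht, conj_zpow, hbz]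
    group
  have h4 : (r : ℤ) ∣ ∑ i ∈ Finset.range m, t ^ i - m := by
    rw [show (m : ℤ) = ∑ _i ∈ Finset.range m, (1 : ℤ) by simp, ← Finset.sum_sub_distrib]
    exact Finset.dvd_sum fun i _ => h3.trans (by simpa using sub_dvd_pow_sub_pow t 1 i)
  have h5 : IsCoprime (r : ℤ) (∑ i ∈ Finset.range m, t ^ i) := by
    obtain ⟨c, hc'⟩ := h4
    rw [sub_eq_iff_eq_add'.1 hc']
    exact (Nat.isCoprime_iff_coprime.2 hc.symm).add_mul_left_right c
  rw [← geom_sum_mul, Nat.cast_pow] at h2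
  have h6 := (h5.pow_left (m := a)).dvd_of_dvd_mul_left h2
  rw [← Nat.cast_pow, ← hs, orderOf_dvd_sub_iff_zpow_eq_zpow, zpow_one, ht] at h6
  exact mul_inv_eq_iff_eq_mul.1 h6

variable {W : Type u} [CommGroup W] [Finite W] [MulDistribMulAction Y W] {H R M : Subgroup Y} {r q n : ℕ}
  (h : MH W H R M r q n)
include h

theorem copRM : (Nat.card R).Coprime (Nat.card M) := by
  have := Fact.mk h.hr
  obtain ⟨k, hk⟩ := IsPGroup.iff_card.1 h.pR
  rw [hk]; exact (h.cM.symm).pow_left k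

theorem commRM {x m : Y} (hx : x ∈ R) (hm : m ∈ M) : Commute x m :=
  commute_of_normal_of_disjoint R M h.nR h.nM (disjoint_of_coprime_natCard (copRM h)) x m hx hm

theorem dec {g : Y} (hg : g ∈ H) : ∃ x ∈ R, ∃ m ∈ M, x * m = g := by
  have := h.nR
  rw [h.sup] at hg
  exact mem_sup_of_normal_left.1 hg

theorem leH : R ≤ H := h.sup ▸ le_sup_left

theorem exp : ∃ e : ℕ, (∀ x ∈ R, x ^ e = x) ∧ ∀ x ∈ R, ∀ m ∈ M, (x * m) ^ e = x := by
  obtain ⟨e, e1, e2⟩ := Nat.chineseRemainder (copRM h) 1 0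
  have h1 : ∀ x ∈ R, x ^ e = x := fun x hx => by
    conv_rhs => rw [← pow_one x]
    exact pow_eq_pow_iff_modEq.2 (e1.of_dvd (orderOf_dvd_natCard R hx))
  refine ⟨e, h1, fun x hx m hm => ?_⟩
  have h2 : m ^ e = m ^ 0 := pow_eq_pow_iff_modEq.2 (e2.of_dvd (orderOf_dvd_natCard M hm))
  rw [(commRM h hx hm).mul_pow, h1 x hx, h2, pow_zero, mul_one]

theorem fixed [R.Normal] (l : Lin R) {g : Y} (hg : g ∉ H) (hl : g • l = l) (k : Y) : k • l = l := by
  have := Fintype.ofFinite H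
  have := h.nH
  obtain ⟨e, e1, e2⟩ := exp h
  let l' : Lin H := MonoidHom.mk' (fun x : H => ev l ((x : Y) ^ e)) fun x y => by
    obtain ⟨a, ha, m, hm, e3⟩ := dec h x.2
    obtain ⟨a', ha', m', hm', e4⟩ := dec h y.2
    have e5 : ((x * y : H) : Y) = (a * a') * (m * m') := by
      rw [coe_mul, ← e3, ← e4, mul_assoc a, ← mul_assoc m, ← (commRM h ha' hm).eq]; group
    rw [e5, ← e3, ← e4, e2 _ (mul_mem ha ha') _ (mul_mem hm hm'), e2 _ ha _ hm, e2 _ ha' _ hm', ev_mul l ha ha']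
  have h1 : ∀ x ∈ H, ev l' x = ev l (x ^ e) := fun x hx => ev_of l' hx
  have h2 : ∀ (c : Y), ∀ x ∈ H, ev (c • l') x = ev (c • l) (x ^ e) := fun c x hx => by
    rw [ev_smul, ev_smul, h1 _ (this.conj_mem' x hx c)]
    congr 1
    simpa using conj_pow (a := c⁻¹) (b := x) (i := e)
  have h3 : g • l' = l' := div_eq_one.1 (lin_one fun x hx => by rw [ev_ldiv, h2 g x hx, hl, h1 x hx, div_self'])
  have h4 := h.nd.reg h.mem (irr_lin l') (charDegree_eq_of_eq (by rw [tw_apply_one]; simp))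
  rw [inertia_lin] at h4
  have h5 : k • l' = l' := by
    rcases h4 with h4 | h4
    · exact MulAction.mem_stabilizer_iff.1 (h4 ▸ mem_top k)
    · exact absurd (h4 h3) hg
  refine div_eq_one.1 (lin_one fun x hx => ?_)
  rw [ev_ldiv, ← e1 x hx, ← h2 k x (leH h hx), h5, h1 x (leH h hx), div_self']

theorem out {v : W} (hv : v ≠ 1) : ∃ a ∉ H, a • v = v := by
  by_contra! hc
  have h1 : MulAction.stabilizer Y v ≤ H := fun a ha => by_contra fun e => hc a e ha
  exact h.ndvd (h.o1 v hv _ h.mem h.one (index_dvd_of_le h1) ▸ h.fr v hv)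

theorem sr (hy : ∀ w : W, w ≠ 1 → ∀ z ∈ ⁅R, R⁆, (∀ a, a • w = w → a * z = z * a) → z = 1) :
    SR W (⁅R, ⊤⁆ : Subgroup Y) := by
  have := h.nH
  have := h.nR
  have := Fact.mk h.hr
  intro x hx v hxv
  refine or_iff_not_imp_right.2 fun hv => hy v hv x ?_ fun a ha => h.ab v hv a x ha hxv
  have hxR : x ∈ R := commutator_le_left R ⊤ hx
  by_contra hx2
  obtain ⟨l, -, hl⟩ := exists_trv (X := R) (K := ⁅R, R⁆) le_rfl hxR hx2
  obtain ⟨a, ha, hav⟩ := out h hv
  obtain ⟨k, m, b1, b2, b3⟩ := rpart h.hr h.ndvd ha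
  have hbv : a ^ r ^ k • v = v := pow_mem (MulAction.mem_stabilizer_iff.2 hav) _
  generalize a ^ r ^ k = b at b1 b2 hbv
  have h2 : b • ∏ i ∈ Finset.range m, b ^ i • l = ∏ i ∈ Finset.range m, b ^ i • l := by
    have e1 := Finset.prod_range_succ (fun i => b ^ i • l) m
    rw [Finset.prod_range_succ', pow_zero, b2] at e1
    refine .trans ?_ (mul_right_cancel e1)
    simp only [Finset.smul_prod', pow_succ', mul_smul]
  have h3 := fixed h _ b1 h2
  have h4 : ev (∏ i ∈ Finset.range m, b ^ i • l) x = ev l x ^ m := by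
    refine (map_prod (evh R x) _ _).trans ?_
    rw [Finset.prod_congr rfl (g := fun _ => ev l x), Finset.prod_const, Finset.card_range]
    intro i _
    show ev (b ^ i • l) x = ev l x
    have hc : Commute x (b ^ i) := Commute.pow_right (h.ab v hv x b hxv hbv) i
    rw [ev_smul, mul_assoc, hc.eq, inv_mul_cancel_left]
  generalize ∏ i ∈ Finset.range m, b ^ i • l = μ at h3 h4
  have h5 : (⁅R, ⊤⁆ : Subgroup Y) ≤ μ.h.ker.map R.subtype := by
    rw [commutator_comm]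
    refine commutator_le.2 fun g _ y hy => ?_
    have hm : ⁅g, y⁆ ∈ R := commutator_le_right ⊤ R (commutator_mem_commutator (mem_top g) hy)
    exact ⟨⟨_, hm⟩, (ev_of μ hm).symm.trans (b_D (h3 g) hy), rfl⟩
  obtain ⟨y, hy1, rfl⟩ := h5 hx
  have h6 : ev l (y : Y) ^ m = 1 := h4.symm.trans ((ev_coe μ y).trans hy1)
  obtain ⟨j, hj⟩ := h.pR y
  have h7 : ev l (y : Y) ^ r ^ j = 1 := by rw [ev_coe, ← map_pow, hj, map_one]
  exact hl ((pow_eq_one_iff_of_coprime (b3.pow_right j)).1 ⟨h6, h7⟩)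

end M1Bx

open M1Bx in
theorem m1b : M1B.{u} := by
  intro _ Y _ _ W _ _ _ H R M r q n h hy
  classical
  have := h.nH
  have := h.nR
  have := Fact.mk h.hr
  have := h.md.nontrivial
  by_contra! hc
  obtain ⟨a, ha, b, hb, hab⟩ := hc
  have hpq := (sr h hy).pq
  have hSR : (⁅R, ⊤⁆ : Subgroup Y) ≤ R := commutator_le_left R ⊤
  have hRS : ⁅R, R⁆ ≤ (⁅R, ⊤⁆ : Subgroup Y) := commutator_mono le_rfl le_top
  have pS : IsPGroup r (⁅R, ⊤⁆ : Subgroup Y) := h.pR.to_le hSR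
  -- a central element of order `r` in the derived subgroup
  obtain ⟨z, hz, hzc, hzo⟩ : ∃ z ∈ ⁅R, R⁆, (∀ x ∈ R, x * z = z * x) ∧ orderOf z = r := by
    have := h.pR.isNilpotent
    have h1 : commutator R ≠ ⊥ := fun e => hab (by
      have h2 : ⁅(⟨a, ha⟩ : R), (⟨b, hb⟩ : R)⁆ ∈ commutator R := commutator_mem_commutator (mem_top _) (mem_top _)
      rw [e, mem_bot, commutatorElement_eq_one_iff_mul_comm] at h2
      exact congrArg Subtype.val h2)
    have h2 := inf_center_ne_bot h1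
    obtain ⟨k, hk0, hk⟩ := (h.pR.to_subgroup (commutator R ⊓ center R)).nontrivial_iff_card.1
      ((nontrivial_iff_ne_bot _).2 h2)
    obtain ⟨z, hz⟩ := exists_prime_orderOf_dvd_card' (G := (commutator R ⊓ center R : Subgroup R)) r
      (hk ▸ dvd_pow_self r hk0.ne')
    exact ⟨z.1.1, mem_comm.1 z.2.1, fun x hx => congrArg Subtype.val (mem_center_iff.1 z.2.2 ⟨x, hx⟩),
      by rw [orderOf_coe, orderOf_coe, hz]⟩
  have hz1 : z ≠ 1 := fun e => h.hr.ne_one (by rw [← hzo, e, orderOf_one])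
  have hzR : z ∈ R := hSR (hRS hz)
  have hn : ∀ g : Y, g * z * g⁻¹ ∈ zpowers z := fun g => by
    have hg : g * z * g⁻¹ ∈ (⁅R, ⊤⁆ : Subgroup Y) := Normal.conj_mem inferInstance _ (hRS hz) g
    have e := hpq.eq_of_card_eq_prime pS (zpowers ⟨_, hg⟩) (zpowers ⟨z, hRS hz⟩)
      (by rw [Nat.card_zpowers, ← orderOf_coe, ← hzo]; exact (MulAut.conj g).orderOf_eq z)
      (by rw [Nat.card_zpowers, ← orderOf_coe, ← hzo])
    obtain ⟨k, hk⟩ := e ▸ mem_zpowers (⟨_, hg⟩ : (⁅R, ⊤⁆ : Subgroup Y))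
    exact ⟨k, congrArg Subtype.val hk⟩
  -- a non-trivial element of `⟨z⟩` generates it
  have hgen : ∀ y ∈ zpowers z, y ≠ 1 → z ∈ zpowers y := fun y hy' hy1 =>
    mem_zpowers_of_prime_card (G := zpowers z) (by rw [Nat.card_zpowers, hzo]) (g := ⟨y, hy'⟩)
      (g' := ⟨z, mem_zpowers z⟩) (fun e => hy1 (congrArg Subtype.val e)) |>.imp fun k hk => congrArg Subtype.val hk
  have hcen : ∀ g : Y, g * z = z * g → g ∈ H := fun g hg => by
    by_contra hgH
    by_cases h2 : r = 2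
    · obtain ⟨w, hw⟩ := exists_ne (1 : W)
      refine hz1 (hy w hw z hz fun c _ => ?_)
      have h3 := hn c
      rw [mem_zpowers_iff_mem_range_orderOf, hzo, h2] at h3
      obtain ⟨i, hi, e⟩ := Finset.mem_image.1 h3
      have hi' := Finset.mem_range.1 hi
      interval_cases i
      · exact absurd (by simpa using e.symm) hz1
      · rw [pow_one] at e; exact mul_inv_eq_iff_eq_mul.1 e.symm
    have hcy := (hpq.isCyclic_of_ne_two (P := ⊤) (pS.to_subgroup ⊤) h2)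
    have : IsCyclic (⁅R, ⊤⁆ : Subgroup Y) := isCyclic_of_surjective _ (topEquiv.surjective)
    obtain ⟨s, hs⟩ := IsCyclic.exists_generator (α := (⁅R, ⊤⁆ : Subgroup Y))
    have hs' : ∀ x ∈ (⁅R, ⊤⁆ : Subgroup Y), x ∈ zpowers (s : Y) := fun x hx =>
      (hs ⟨x, hx⟩).imp fun k hk => congrArg Subtype.val hk
    obtain ⟨k, m, b1, b2, b3⟩ := rpart h.hr h.ndvd hgH
    obtain ⟨j, hj⟩ := IsPGroup.iff_orderOf.1 pS s
    have h4 := cyc_fix ((orderOf_coe s).trans hj) hzo (hs' z (hRS hz))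
      (hs' _ (Normal.conj_mem inferInstance _ s.2 _)) (Commute.pow_left hg (r ^ k)).eq b2 b3
    obtain ⟨x, hx, hx'⟩ := h.nc _ b1
    obtain ⟨i, rfl⟩ := mem_zpowers_iff.1 (hs' x hx)
    exact hx' (Commute.zpow_right h4 i).eq
  have hzH : z ∈ H := leH h hzR
  obtain ⟨θ, hθ, hk⟩ := exists_irr_not_mem_charKer (G := H) (g := ⟨z, hzH⟩) fun e => hz1 (congrArg Subtype.val e)
  have hzZ : (⟨z, hzH⟩ : H) ∈ center H := mem_center_iff.2 fun x => Subtype.ext (by
    obtain ⟨c, hc, m, hm, e⟩ := dec h x.2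
    show (x : Y) * z = z * x
    rw [← e, mul_assoc, ← (commRM h hzR hm).eq, ← mul_assoc, hzc c hc, mul_assoc])
  obtain ⟨ω, hω, hω'⟩ := hθ.center_le_charCenter hzZ
  have hI : inertia H θ ≤ H := fun g hg => hcen g (by
    by_contra hne
    have hu : z⁻¹ * (g * z * g⁻¹) ∈ zpowers z := mul_mem (inv_mem (mem_zpowers z)) (hn g)
    have huH : z⁻¹ * (g * z * g⁻¹) ∈ H := zpowers_le.2 hzH hu
    have e1 := mem_inertia.1 hg ⟨z, hzH⟩
    have e2 := hω' ⟨_, huH⟩
    have e3 := hω' 1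
    rw [mul_one, ← e1] at e3
    have e4 : (⟨z, hzH⟩ : H) * ⟨_, huH⟩ = ⟨g * z * g⁻¹, Normal.conj_mem inferInstance _ hzH g⟩ :=
      Subtype.ext (mul_inv_cancel_left _ _)
    rw [e4, e3] at e2
    have e5 := hθ.mem_charKer.2 (mul_left_cancel₀ (by rintro rfl; simp at hω) e2).symm
    obtain ⟨k, hk'⟩ := hgen _ hu fun e => hne (mul_inv_eq_iff_eq_mul.1 (inv_mul_eq_one.1 e).symm)
    exact hk (by
      have := zpow_mem e5 k
      rwa [show (⟨_, huH⟩ : H) ^ k = ⟨z, hzH⟩ from Subtype.ext hk'] at this))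
  have h1 := h.nd.lin h.mem h.one hθ hI
  exact hk (hθ.one_eq_one_iff.1 (hθ.isCharacter.charDegree_eq_one_iff.1 h1)
    (mem_comm.2 (commutator_mono (leH h) (leH h) hz)))

end CL.ND4
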