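/-
Project ND4 (S4780): the module situation with an abelian normal subgroup.
-/
import Cfsg.Agent.ND4.Defs

set_option autoImplicit false

namespace CL.ND4

open Cfsg Subgroup CL.Grp CL.Char CL.Char.NDiv CL.Char.RelDeg CL.Char.Palfy CL.Grp.Homog
open scoped commutatorElement

universe u

namespace M2Ax

variable {Y : Type u} [Group Y] {H : Subgroup Y} [hH : H.Normal] (ab : ∀ a ∈ H, ∀ b ∈ H, a * b = b * a) {a c g x : Y}

theorem cm (hx : x ∈ H) (g : Y) : ⁅x, g⁆ ∈ H := by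
  rw [commutatorElement_def, mul_assoc, mul_assoc, ← mul_assoc g]
  exact mul_mem hx (hH.conj_mem _ (inv_mem hx) g)

/-- the endomorphism `h ↦ ⁅h, a⁆` -/
def φ (a : Y) : H →* Y := MonoidHom.mk' (fun h => ⁅h.1, a⁆) fun h k => by
  rw [ab _ (cm h.2 a) _ (cm k.2 a), ← mul_inv_cancel_right ⁅k.1, a⁆ h, ← ab _ h.2 _ (cm k.2 a)]
  simp only [coe_mul, commutatorElement_def]
  group

omit hH in
theorem cen_of (ab : ∀ a ∈ H, ∀ b ∈ H, a * b = b * a) (hc : ∀ g : Y, ∃ k : ℤ, (c ^ k)⁻¹ * g ∈ H) (hx : x ∈ H)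
    (e : c * x = x * c) : x ∈ center Y := mem_center_iff.2 fun g => by
  obtain ⟨k, hk⟩ := hc g
  rw [← mul_inv_cancel_left (c ^ k) g]
  exact ((Commute.zpow_left e k).mul_left (ab _ hk _ hx)).eq

variable [Finite Y]

omit hH in
include ab in
theorem pow_idx (h1 : x ∈ center Y) (h2 : x ∈ commutator Y) : x ^ H.index = 1 := by
  let _ : CommGroup H := { (inferInstance : Group H) with mul_comm := fun a b => Subtype.ext (ab _ a.2 _ b.2) }
  have := MonoidHom.transfer_eq_pow (MonoidHom.id H) x fun k g _ => by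
    rw [mul_assoc, ← mem_center_iff.1 (pow_mem h1 k) g, inv_mul_cancel_left]
  exact congrArg Subtype.val (this.symm.trans (Abelianization.commutator_subset_ker _ h2))

variable (nd : ND Y) (hm : H.index ∈ cdSet Y)
include nd hm

theorem key (ha : a ∉ H) (hx : x ∈ H) (g : Y) : ⁅x, g⁆ ∈ (φ ab a).range := by
  by_contra n
  have := Fintype.ofFinite H
  obtain ⟨l, h1, h2⟩ := exists_trv (X := H) (commutator_le.2 fun u hu v hv =>
    commutatorElement_eq_one_iff_mul_comm.2 (ab u hu v hv) ▸ one_mem _) (cm hx g) n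
  have e : a⁻¹ • l = l := div_eq_one.1 (lin_one fun w hw => by
    rw [ev_ldiv, ev_smul, show a⁻¹⁻¹ * w * a⁻¹ = w * ⁅w⁻¹, a⁆ by simp only [commutatorElement_def]; group,
      ev_mul l hw (cm (inv_mem hw) a), h1 ⁅w⁻¹, a⁆ ⟨⟨_, inv_mem hw⟩, rfl⟩, mul_one, div_self'])
  have t := (nd.reg hm (irr_lin l) (charDegree_eq_of_eq (χ := tw l 1) (n := 1) (by simp [tw]))).resolve_right
    fun k => ha (inv_mem_iff.1 (k ((inertia_lin l).ge e)))
  refine h2 ?_
  rw [commutatorElement_def, mul_assoc, mul_assoc, ← mul_assoc g, ev_mul l hx (hH.conj_mem _ (inv_mem hx) g),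
    ev_conj ((inertia_lin l).le (t.ge (mem_top g))), ev_inv l hx, mul_inv_cancel]

include ab in
theorem cz (hc : ∀ g : Y, ∃ k : ℤ, (c ^ k)⁻¹ * g ∈ H) (cH : c ∉ H) (ha : a ∉ H) (hx : x ∈ H) (e : a * x = x * a) :
    x ∈ center Y := by
  have r : (φ ab a).range = (φ ab c).range := le_antisymm (by rintro _ ⟨h, rfl⟩; exact key ab nd hm cH h.2 a)
    (by rintro _ ⟨h, rfl⟩; exact key ab nd hm ha h.2 c)
  have e1 := (φ ab a).ker.index_mul_card
  rw [index_ker, r, ← index_ker, ← (φ ab c).ker.index_mul_card] at e1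
  have k : (φ ab c).ker = (φ ab a).ker := eq_of_le_of_card_ge (fun h hh => commutatorElement_eq_one_iff_mul_comm.2
    (mem_center_iff.1 (cen_of ab hc h.2 (commutatorElement_eq_one_iff_mul_comm.1 hh).symm) a).symm)
    (Nat.eq_of_mul_eq_mul_left (Nat.pos_of_ne_zero index_ne_zero_of_finite) e1).le
  exact cen_of ab hc hx (commutatorElement_eq_one_iff_mul_comm.1
    (k.ge (show (⟨x, hx⟩ : H) ∈ (φ ab a).ker from commutatorElement_eq_one_iff_mul_comm.2 e.symm))).symm

include ab in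
theorem gen (hc : ∀ g : Y, ∃ k : ℤ, (c ^ k)⁻¹ * g ∈ H) (ha : a ∉ H) :
    ∃ c : Y, c * a = a * c ∧ ∀ g : Y, ∃ k : ℤ, (c ^ k)⁻¹ * g ∈ H := by
  obtain ⟨k, hk⟩ := hc a
  obtain ⟨h, e⟩ := inv_mem (key ab nd hm ha (hH.conj_mem _ hk (c ^ k)) c⁻¹)
  refine ⟨c * h, ?_, fun g => (hc g).imp fun j hj => ?_⟩
  · have e1 : ⁅h.1, a⁆ = c⁻¹ * a * c * a⁻¹ := e.trans (by simp only [commutatorElement_def]; group)
    calc c * h * a = c * ⁅h.1, a⁆ * a * h := by simp only [commutatorElement_def]; group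
      _ = a * (c * h) := by rw [e1]; group
  · rw [← QuotientGroup.eq, QuotientGroup.mk_zpow] at hj ⊢
    rwa [QuotientGroup.mk_mul_of_mem c h.2]

end M2Ax

open M2Ax in
theorem m2a : M2A.{u} := by
  intro hF Y _ _ W _ _ _ H R M r q n h aR
  have := h.nH
  have := h.nR
  have := Fact.mk h.hr
  have RM : ∀ x ∈ R, ∀ y ∈ M, x * y = y * x := fun x hx y hy => by
    obtain ⟨k, hk⟩ := h.pR.exists_card_eq
    exact commute_of_normal_of_disjoint R M h.nR h.nM
      (disjoint_of_coprime_natCard (hk ▸ (h.cM.symm.pow_left k))) x y hx hy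
  have ab : ∀ a ∈ H, ∀ b ∈ H, a * b = b * a := fun a ha b hb => by
    have : H ≤ centralizer (H : Set Y) := h.sup.le.trans (sup_le
      (le_centralizer_iff.1 (h.sup.le.trans (sup_le (fun x hx y hy => aR y hy x hx) fun x hx y hy => RM y hy x hx)))
      (le_centralizer_iff.1 (h.sup.le.trans (sup_le (fun x hx y hy => (RM x hx y hy).symm)
        fun x hx y hy => h.aM y hy x hx))))
    exact this hb a ha
  obtain ⟨c, hc⟩ := h.cyc
  have cH : c ∉ H := fun k => h.one (index_eq_one.2 ((eq_top_iff' H).2 fun g =>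
    let ⟨j, hj⟩ := hc g; (mul_mem_cancel_left (inv_mem (zpow_mem k j))).1 hj))
  have st : ∀ w : W, w ≠ 1 → ¬ H.index ∣ (MulAction.stabilizer Y w).index := fun w hw k =>
    h.ndvd (h.o1 w hw _ h.mem h.one k ▸ h.fr w hw)
  have z : ∀ a ∉ H, ∀ x ∈ H, a * x = x * a → x ∈ center Y := fun a ha x hx => cz ab h.nd h.mem hc cH ha hx
  have UR : (⁅R, ⊤⁆ : Subgroup Y) ≤ R := commutator_le_left _ _
  have UH : (⁅R, ⊤⁆ : Subgroup Y) ≤ H := UR.trans (le_sup_left.trans h.sup.ge)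
  refine ⟨h, ab, st, z, fun b hb v e => or_iff_not_imp_right.2 fun v1 => ?_, fun a => gen ab h.nd h.mem hc,
    fun a ha x y hx hy => ?_, fun b hb => hF Y W q n ⁅R, ⊤⁆ b h.md (fun e => ?_) (fun a ha d hd => ab a (UH ha) d (UH hd))
      (fun e he x hx k => ?_) (eq_bot_iff.2 ((inf_le_inf_left _ UH).trans hb.le))⟩
  · obtain ⟨a, ha, aH⟩ := SetLike.not_le_iff_exists.1 fun k => st v v1 (index_dvd_of_le k)
    have bz := zpowers_le.2 (z a aH b hb (h.ab v v1 a b ha e))
    refine h.md.faith b fun w => (((h.md.irr (Fx W (zpowers b)) fun g u hu k hk => ?_).resolve_left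
      fun o => v1 (mem_bot.1 (o.le fun k hk => (zpowers_le (H := MulAction.stabilizer Y v)).2 e hk))).ge
        (mem_top w) b (mem_zpowers b))
    rw [smul_smul, ← mem_center_iff.1 (bz hk) g, mul_smul, hu k hk]
  · obtain ⟨d, hd, k⟩ := gen ab h.nd h.mem hc ha
    obtain ⟨i, hi⟩ := k x
    obtain ⟨j, hj⟩ := k y
    have zx := mem_center_iff.1 (z a ha _ hi ((Commute.zpow_left hd i).inv_left.mul_left hx).symm)
    have zy := mem_center_iff.1 (z a ha _ hj ((Commute.zpow_left hd j).inv_left.mul_left hy).symm)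
    rw [← mul_inv_cancel_left (d ^ i) x, ← mul_inv_cancel_left (d ^ j) y]
    exact (((Commute.zpow_zpow_self d i j).mul_right (zy _)).mul_left (Commute.symm (zx _))).eq
  · obtain ⟨x, hx, k⟩ := h.nc c cH
    rw [mem_bot.1 (e.le hx), mul_one, one_mul] at k
    exact k rfl
  · refine or_iff_not_imp_left.2 fun e1 => ?_
    obtain ⟨j, hj⟩ := h.pR ⟨x, UR hx⟩
    exact (pow_eq_one_iff_of_coprime (((Nat.Prime.coprime_iff_not_dvd h.hr).2 h.ndvd).pow_left j)).1
      ⟨congrArg Subtype.val hj, pow_idx ab (z e (fun m => e1 (mem_bot.1 (hb.le ⟨he, m⟩))) x (UH hx) k)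
        (commutator_mono le_top le_rfl hx)⟩

end CL.ND4
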