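/-
Project ND4: the stabilisers of non-trivial vectors have prime order.
-/
import Cfsg.Agent.ND4.Defs
import Cfsg.Agent.Grp.FrobCompl

set_option autoImplicit false

namespace CL.ND4

open Cfsg Subgroup CL.Grp CL.Char CL.Char.NDiv CL.Char.RelDeg CL.Char.Palfy CL.Grp.Homog
open scoped commutatorElement

universe u

namespace M2Bx
open MulAction Classical

variable {Y : Type u} [Group Y] {W : Type u} [CommGroup W] [MulDistribMulAction Y W]

theorem mem_fx {x : Y} {v : W} : v ∈ Fx W (zpowers x) ↔ x • v = v :=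
  ⟨fun h => h x (mem_zpowers x), fun h _ hk => (zpowers_le (H := stabilizer Y v)).2 h hk⟩

/-- the non-trivial fixed vectors -/
noncomputable def S (W : Type u) [CommGroup W] [MulDistribMulAction Y W] [Fintype W] (x : Y) : Finset W :=
  Finset.univ.filter fun v => v ≠ 1 ∧ x • v = v

theorem mem_S [Fintype W] {x : Y} {v : W} : v ∈ S W x ↔ v ≠ 1 ∧ x • v = v := by simp [S]

theorem card_S [Fintype W] (x : Y) : (S W x).card + 1 = Nat.card (Fx W (zpowers x)) := by
  rw [← Finset.card_insert_of_notMem (a := (1 : W)) (by simp [mem_S]), ← Nat.card_eq_finsetCard]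
  refine Nat.card_congr (Equiv.subtypeEquivRight fun v => ?_)
  rw [mem_fx, Finset.mem_insert, mem_S]
  by_cases h : v = 1 <;> simp [h]

/-- an element whose order is the least common multiple -/
theorem exists_lcm [Finite Y] {H : Subgroup Y} [H.Normal] {a b : Y} (hc : Commute a b) (ha : zpowers a ⊓ H = ⊥)
    (hb : zpowers b ⊓ H = ⊥) : ∃ β : Y, zpowers β ⊓ H = ⊥ ∧ orderOf β = (orderOf a).lcm (orderOf b) := by
  refine ⟨_, ?_, hc.orderOf_mul_pow_eq_lcm (orderOf_pos a).ne' (orderOf_pos b).ne'⟩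
  set u := Nat.factorizationLCMLeft (orderOf a) (orderOf b)
  set v := Nat.factorizationLCMRight (orderOf a) (orderOf b)
  have huv : u.Coprime v := Nat.coprime_factorizationLCMLeft_factorizationLCMRight _ _
  have hu : (a ^ (orderOf a / u)) ^ u = 1 := by
    rw [← pow_mul, Nat.div_mul_cancel (Nat.factorizationLCMLeft_dvd_left _ _), pow_orderOf_eq_one]
  have hv : (b ^ (orderOf b / v)) ^ v = 1 := by
    rw [← pow_mul, Nat.div_mul_cancel (Nat.factorizationLCMRight_dvd_right _ _), pow_orderOf_eq_one]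
  have hxa : a ^ (orderOf a / u) ∈ zpowers a := pow_mem (mem_zpowers a) _
  have hyb : b ^ (orderOf b / v) ∈ zpowers b := pow_mem (mem_zpowers b) _
  have hxy : Commute (a ^ (orderOf a / u)) (b ^ (orderOf b / v)) := hc.pow_pow _ _
  generalize a ^ (orderOf a / u) = x at *
  generalize b ^ (orderOf b / v) = y at *
  refine eq_bot_iff.2 fun g hg => ?_
  obtain ⟨hg1, hg2⟩ := mem_inf.1 hg
  obtain ⟨k, rfl⟩ := (Submonoid.mem_powers_iff _ _).1 (mem_powers_iff_mem_zpowers.2 hg1)
  rw [hxy.mul_pow] at hg2 ⊢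
  let π := QuotientGroup.mk' H
  have h1 : π (x ^ k) * π (y ^ k) = 1 := by rw [← map_mul]; exact (QuotientGroup.eq_one_iff _).2 hg2
  have h2 : π (x ^ k) ^ u = 1 := by rw [← map_pow, ← pow_mul, mul_comm, pow_mul, hu, one_pow, map_one]
  have h3 : π (x ^ k) ^ v = 1 := by
    rw [eq_inv_of_mul_eq_one_left h1, inv_pow, ← map_pow, ← pow_mul, mul_comm, pow_mul, hv, one_pow, map_one, inv_one]
  have h4 : π (x ^ k) = 1 := by
    have := pow_gcd_eq_one.2 ⟨h2, h3⟩
    rwa [huv, pow_one] at this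
  rw [h4, one_mul] at h1
  have h5 : x ^ k ∈ zpowers a ⊓ H := ⟨pow_mem hxa k, (QuotientGroup.eq_one_iff _).1 h4⟩
  have h6 : y ^ k ∈ zpowers b ⊓ H := ⟨pow_mem hyb k, (QuotientGroup.eq_one_iff _).1 h1⟩
  rw [ha, mem_bot] at h5
  rw [hb, mem_bot] at h6
  rw [h5, h6, mul_one]
  exact one_mem _

theorem ord_mk {H : Subgroup Y} [H.Normal] {a : Y} (ha : zpowers a ⊓ H = ⊥) :
    orderOf (QuotientGroup.mk' H a) = orderOf a :=
  orderOf_eq_orderOf_iff.2 fun n => by
    rw [← map_pow, QuotientGroup.mk'_apply, QuotientGroup.eq_one_iff]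
    exact ⟨fun h => mem_bot.1 (ha ▸ mem_inf.2 ⟨pow_mem (mem_zpowers a) n, h⟩), fun h => h ▸ one_mem H⟩

end M2Bx

open M2Bx MulAction Classical in
theorem m2b : M2B.{u} := by
  intro Y _ _ W _ _ _ H R M r q n h w hw
  have := h.nH
  have := Fintype.ofFinite W
  have := Fintype.ofFinite Y
  let π := QuotientGroup.mk' H
  have hC : IsCyclic (Y ⧸ H) := by
    obtain ⟨c, hc⟩ := h.cyc
    refine ⟨π c, fun x => ?_⟩
    obtain ⟨g, rfl⟩ := QuotientGroup.mk'_surjective H x
    obtain ⟨k, hk⟩ := hc g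
    exact ⟨k, (map_zpow π c k).symm.trans (QuotientGroup.eq.2 hk)⟩
  have sH : ∀ v : W, v ≠ 1 → ∀ a : Y, a • v = v → zpowers a ⊓ H = ⊥ := fun v hv a ha =>
    eq_bot_iff.2 fun g hg => (h.sr g hg.2 v (mem_fx.2 ha g hg.1)).resolve_right hv
  have gen : ∀ v : W, v ≠ 1 → ∃ b : Y, zpowers b = stabilizer Y v := fun v hv => by
    refine (Subgroup.isCyclic_iff_exists_zpowers_eq_top _).1 (isCyclic_of_injective (π.comp (stabilizer Y v).subtype) ?_)
    refine (injective_iff_map_eq_one _).2 fun a ha => Subtype.ext ?_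
    exact (h.sr a ((QuotientGroup.eq_one_iff _).1 ha) v a.2).resolve_right hv
  have W1 : 1 < Nat.card W := Finite.one_lt_card_iff_nontrivial.2 ⟨w, 1, hw⟩
  -- commuting generators have the same order
  have same : ∀ v v' : W, v ≠ 1 → v' ≠ 1 → ∀ a a' : Y, zpowers a = stabilizer Y v → zpowers a' = stabilizer Y v' →
      Commute a a' → orderOf a = orderOf a' := by
    intro v v' hv hv' a a' e e' hc
    obtain ⟨β, h1, h2⟩ := exists_lcm hc (sH v hv a (e.le (mem_zpowers a))) (sH v' hv' a' (e'.le (mem_zpowers a')))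
    have h3 := h.free β h1
    obtain ⟨x, hx⟩ : (S W β).Nonempty := by
      rw [← Finset.card_pos, Nat.pos_iff_ne_zero]
      intro h0
      rw [← card_S, h0, zero_add, one_pow] at h3
      omega
    obtain ⟨hx1, hx2⟩ := mem_S.1 hx
    have h4 : orderOf β ∣ Nat.card (stabilizer Y x) := Subgroup.orderOf_dvd_natCard _ hx2
    have key : ∀ (v : W) (a : Y), v ≠ 1 → zpowers a = stabilizer Y v → orderOf a ∣ orderOf β →
        orderOf a = Nat.card (stabilizer Y x) := by
      intro v a hv e hd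
      have h5 := (stabilizer Y v).card_mul_index
      have h6 := (stabilizer Y x).card_mul_index
      obtain ⟨c, hc⟩ := hd.trans h4
      rw [← e, Nat.card_zpowers, e] at h5
      have h7 : (stabilizer Y v).index = c * (stabilizer Y x).index :=
        Nat.eq_of_mul_eq_mul_left (orderOf_pos a) (by rw [h5, ← h6, hc, mul_assoc])
      have h8 := h.o2 x v hx1 hv ⟨c, by rw [h7, mul_comm]⟩
      rw [← h8, ← h6] at h5
      exact Nat.eq_of_mul_eq_mul_right (Nat.pos_of_ne_zero index_ne_zero_of_finite) h5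
    rw [key v a hv e (h2 ▸ Nat.dvd_lcm_left _ _), key v' a' hv' e' (h2 ▸ Nat.dvd_lcm_right _ _)]
  obtain ⟨b, hb⟩ := gen w hw
  have bw : b • w = w := hb.le (mem_zpowers b)
  rw [← hb, Nat.card_zpowers]
  have s1 : orderOf b ≠ 1 := fun e => h.st w hw (by
    rw [← hb, orderOf_eq_one_iff.1 e, zpowers_one_eq_bot, index_bot]
    exact H.index_dvd_card)
  by_contra hp
  obtain ⟨t, ht, j, hj⟩ := Nat.exists_prime_and_dvd s1
  have j0 : j ≠ 0 := fun e => (orderOf_pos b).ne' (by rw [hj, e, mul_zero])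
  have j1 : j ≠ 1 := fun e => hp (by rw [hj, e, mul_one]; exact ht)
  have o1 : orderOf (b ^ j) = t := by
    rw [orderOf_pow_of_dvd j0 ⟨t, by rw [hj, mul_comm]⟩, hj, Nat.mul_div_cancel _ (Nat.pos_of_ne_zero j0)]
  have b1w : b ^ j • w = w := hb.le (pow_mem (mem_zpowers b) j)
  have b1H : b ^ j ∉ H := fun e => by
    rw [(h.sr _ e w b1w).resolve_right hw, orderOf_one] at o1
    exact ht.one_lt.ne o1
  have hQ := h.free b (sH w hw b bw)
  have hy := h.free _ (sH w hw _ b1w)
  rw [o1, ← hQ, hj, mul_comm t, pow_mul] at hy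
  have hy' := Nat.pow_left_injective ht.ne_zero hy
  rw [← card_S, ← card_S] at hy'
  set Z : Finset Y := Finset.univ.filter fun z => z ∈ H ∧ z * b = b * z ∧ (S W (b * z)).card = (S W b).card with hZ
  have c1 : Z.card ≤ (S W b).card := by
    refine Finset.card_le_card_of_injOn (fun z => z • w) (fun z hz => ?_) fun z hz z' hz' e => ?_
    · obtain ⟨-, h2, -⟩ := (Finset.mem_filter.1 hz).2
      refine mem_S.2 ⟨fun e => hw ?_, by rw [smul_smul, ← h2, mul_smul, bw]⟩
      rw [← inv_smul_smul z w, show z • w = 1 from e, smul_one]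
    · have h1 := (Finset.mem_filter.1 hz).2.1
      have h2 := (Finset.mem_filter.1 hz').2.1
      have h3 : (z⁻¹ * z') • w = w := by rw [mul_smul, ← show z • w = z' • w from e, inv_smul_smul]
      exact inv_mul_eq_one.1 ((h.sr _ (mul_mem (inv_mem h1) h2) w h3).resolve_right hw)
  have c2 : S W (b ^ j) ⊆ Z.biUnion fun z => S W (b * z) := by
    intro v hv
    obtain ⟨hv1, hv2⟩ := mem_S.1 hv
    obtain ⟨a, ha⟩ := gen v hv1
    have av : a • v = v := ha.le (mem_zpowers a)
    have hc : Commute b a := h.dab _ b1H b a (Commute.self_pow b j) (h.ab v hv1 _ _ av hv2)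
    have e1 := same w v hw hv1 b a hb ha hc
    have e2 : π b ∈ zpowers (π a) := mem_zpowers_of_isCyclic_of_pow_orderOf (by
      rw [ord_mk (sH v hv1 a av), ← e1, ← map_pow, pow_orderOf_eq_one, map_one])
    obtain ⟨k, hk⟩ := mem_zpowers_iff.1 e2
    have akv : a ^ k • v = v := ha.le (zpow_mem (mem_zpowers a) k)
    have e3 : orderOf (a ^ k) = orderOf b := by
      rw [← ord_mk (sH v hv1 _ akv), ← ord_mk (sH w hw b bw), map_zpow, hk]
    have e4 := h.free _ (sH v hv1 _ akv)
    rw [e3, ← hQ] at e4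
    have e5 := Nat.pow_left_injective (orderOf_pos b).ne' e4
    rw [← card_S, ← card_S] at e5
    refine Finset.mem_biUnion.2 ⟨b⁻¹ * a ^ k, Finset.mem_filter.2 ⟨Finset.mem_univ _, ?_, ?_, ?_⟩, ?_⟩
    · exact QuotientGroup.eq.1 (hk.symm.trans (map_zpow π a k).symm)
    · exact ((Commute.refl b).inv_left.mul_left (hc.zpow_right k).symm).eq
    · rw [mul_inv_cancel_left]; omega
    · rw [mul_inv_cancel_left]; exact mem_S.2 ⟨hv1, akv⟩
  have c3 := (Finset.card_le_card c2).trans (Finset.card_biUnion_le_card_mul Z _ (S W b).card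
    fun z hz => (Finset.mem_filter.1 hz).2.2.2.le)
  have c4 : 0 < (S W b).card := Finset.card_pos.2 ⟨w, mem_S.2 ⟨hw, bw⟩⟩
  have c5 : ((S W b).card + 1) ^ 2 ≤ ((S W b).card + 1) ^ j := Nat.pow_le_pow_right (by omega) (by omega)
  have c6 := Nat.mul_le_mul_right (S W b).card c1
  nlinarith

end CL.ND4
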