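/-
Project ND4 (S4780): if all vector stabilisers have prime order then the index of `H` is prime.
-/
import Cfsg.Agent.ND4.Defs
import Cfsg.Agent.Grp.FrobPartition

set_option autoImplicit false

namespace CL.ND4

open Cfsg Subgroup CL.Grp CL.Char CL.Char.NDiv CL.Char.RelDeg CL.Char.Palfy CL.Grp.Homog

universe u

namespace M2Cx

theorem arith1 {Q s u m k N : ℕ} (hQ : 2 ≤ Q) (hs : 2 ≤ s) (hu : u * (Q - 1) = Q ^ s - 1) (hN : u ≤ N)
    (e : m * k = Q ^ s) (h1 : N ≤ m - 1) (h2 : N ≤ k - 1) : False := by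
  obtain ⟨s, rfl⟩ : ∃ s', s = s' + 1 + 1 := ⟨s - 2, by omega⟩
  have hP : Q ≤ Q ^ (s + 1) := Nat.le_self_pow (by omega) Q
  rw [pow_succ Q (s + 1)] at hu e
  generalize Q ^ (s + 1) = P at *
  obtain ⟨a, rfl⟩ : ∃ a, Q = a + 1 := ⟨Q - 1, by omega⟩
  rw [Nat.add_sub_cancel, mul_add, mul_one] at hu
  have h3 : P < u := by
    by_contra! h
    have := Nat.mul_le_mul_right a h
    omega
  have h4 : (P + 1) * (P + 1) ≤ m * k := Nat.mul_le_mul (by omega) (by omega)
  nlinarith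

theorem arith2 {y s t u : ℕ} (hy : 2 ≤ y) (hs : 2 ≤ s) (c : s.Coprime t) (hu : u * (y ^ t - 1) = (y ^ t) ^ s - 1) :
    ∃ c0, c0 ∣ u ∧ c0 ∣ y ^ s - 1 ∧ ¬ c0 ∣ y ^ t - 1 := by
  obtain ⟨c0, h0⟩ := Nat.sub_one_dvd_pow_sub_one y s
  obtain ⟨c1, h1⟩ := Nat.sub_one_dvd_pow_sub_one y t
  have y0 : 0 < y - 1 := by omega
  have g := Nat.pow_sub_one_gcd_pow_sub_one y s t
  rw [c.gcd_eq_one, pow_one, h0, h1, Nat.gcd_mul_left, Nat.mul_eq_left y0.ne'] at g
  have g' : c0.Coprime c1 := g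
  refine ⟨c0, g'.dvd_of_dvd_mul_right (Nat.dvd_of_mul_dvd_mul_left y0 ?_), h0 ▸ dvd_mul_left _ _, fun h => ?_⟩
  · rw [← h0, mul_left_comm, ← h1, hu, ← pow_mul, mul_comm t, pow_mul]
    exact Nat.sub_one_dvd_pow_sub_one _ _
  · have h2 := Nat.le_of_dvd y0 (g'.dvd_of_dvd_mul_right (h1 ▸ h))
    have h3 : y ^ 2 ≤ y ^ s := Nat.pow_le_pow_right (by omega) hs
    have h4 := Nat.mul_le_mul_left (y - 1) h2
    obtain ⟨a, rfl⟩ : ∃ a, y = a + 1 := ⟨y - 1, by omega⟩
    rw [Nat.add_sub_cancel] at *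
    have : (a + 1) ^ 2 = a * a + 2 * a + 1 := by ring
    omega

variable {Y : Type u} [Group Y] [Finite Y] {W : Type u} [CommGroup W] [Finite W] [MulDistribMulAction Y W]

theorem gen_of_prime {B : Subgroup Y} (h : (Nat.card B).Prime) : ∃ β, zpowers β = B ∧ orderOf β = Nat.card B := by
  have := Fact.mk h
  obtain ⟨β, e⟩ := exists_prime_orderOf_dvd_card' (G := B) _ dvd_rfl
  rw [← orderOf_coe] at e
  exact ⟨β, eq_of_le_of_card_ge (zpowers_le.2 β.2) (by rw [Nat.card_zpowers, e]), e⟩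

theorem sr_dvd {H : Subgroup Y} (h : SR W H) {g : Y} (hg : g ∈ H) {U : Subgroup W} (hU : ∀ v ∈ U, g • v ∈ U) :
    orderOf g ∣ Nat.card U - 1 := by
  let _ := subAction (A := zpowers g) U fun a v hv => by
    obtain ⟨k, hk⟩ := mem_powers_iff_mem_zpowers.2 a.2
    change (a : Y) • v ∈ U
    rw [← hk]
    clear hk
    induction k with
    | zero => simpa using hv
    | succ k ih => simpa only [pow_succ', mul_smul] using hU _ ih
  rw [← Nat.card_zpowers]
  exact card_dvd_card_sub_one_of_fpf_action fun a ha v e => Subtype.ext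
    ((h a (zpowers_le.2 hg a.2) v (congrArg Subtype.val e)).resolve_left fun e => ha (Subtype.ext e))

end M2Cx

open M2Cx

theorem m2c : M2C.{u} := fun fld Y _ _ W _ _ _ H R M r q n h hp => by
  have := h.nH
  have W1 : 1 < Nat.card W := h.md.card ▸ Nat.one_lt_pow h.md.pos.ne' h.md.prime.one_lt
  have : Nontrivial W := Finite.one_lt_card_iff_nontrivial.1 W1
  have cY := H.card_mul_index
  have nd : ∀ w : W, w ≠ 1 → (Nat.card (MulAction.stabilizer Y w)).Coprime (Nat.card H) := fun w hw =>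
    (hp w hw).coprime_iff_not_dvd.2 fun ⟨m, e⟩ => h.st w hw ⟨m, Nat.eq_of_mul_eq_mul_left (hp w hw).pos (by
      rw [card_mul_index, ← cY, e]; ring)⟩
  have df : ∀ w : W, w ≠ 1 → Nat.card (MulAction.stabilizer Y w) ∣ H.index := fun w hw =>
    (nd w hw).dvd_of_dvd_mul_left (cY ▸ card_subgroup_dvd_card _)
  have fr : ∀ β : Y, (orderOf β).Coprime (Nat.card H) → Nat.card (Fx W (zpowers β)) ^ orderOf β = Nat.card W :=
    fun β c => h.free β (disjoint_of_coprime_natCard (by rwa [Nat.card_zpowers])).eq_bot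
  obtain ⟨w0, hw0⟩ := exists_ne (1 : W)
  obtain ⟨b, hb, ob⟩ := gen_of_prime (hp w0 hw0)
  have c0 := nd w0 hw0
  have f0 := df w0 hw0
  have sp := hp w0 hw0
  generalize hs : Nat.card (MulAction.stabilizer Y w0) = s at ob c0 f0 sp
  have := Fact.mk sp
  have bH : b ∉ H := fun e => sp.one_lt.ne' (c0.eq_one_of_dvd (ob ▸ orderOf_dvd_natCard H e))
  obtain ⟨c, cb, hc⟩ := h.gen b bH
  have oc : orderOf (c : Y ⧸ H) = H.index := orderOf_eq_card_of_forall_mem_zpowers fun x => by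
    obtain ⟨g, rfl⟩ := QuotientGroup.mk_surjective x
    obtain ⟨k, e⟩ := hc g
    exact ⟨k, QuotientGroup.eq.2 e⟩
  have pr : ∀ m, m ∣ H.index → m.Coprime (Nat.card H) → m ≠ 1 → m.Prime := fun m hm cm m1 => by
    have o := orderOf_pow_orderOf_div (orderOf_pos c).ne'
      (hm.trans (oc ▸ orderOf_map_dvd (QuotientGroup.mk' H) c))
    generalize c ^ (orderOf c / m) = β at o
    obtain ⟨⟨w, hw⟩, w1⟩ := ne_bot_iff_exists_ne_one.1 (show Fx W (zpowers β) ≠ ⊥ from fun e => by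
      have := fr β (o ▸ cm)
      rw [e, card_bot, one_pow] at this
      omega)
    have p := hp w fun e => w1 (Subtype.ext e)
    have := orderOf_dvd_natCard (MulAction.stabilizer Y w) (mem_Fx_zpowers.1 hw)
    rwa [← ((Nat.dvd_prime p).1 this).resolve_left (o ▸ m1), o] at p
  have ss : ¬ s * s ∣ H.index := fun e => Nat.not_prime_mul sp.one_lt.ne' sp.one_lt.ne'
    (pr _ e (c0.mul_left c0) (mul_ne_one.2 (.inl sp.one_lt.ne')))
  have sa : ∀ w : W, w ≠ 1 → Nat.card (MulAction.stabilizer Y w) = s := fun w hw => by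
    by_contra e
    exact Nat.not_prime_mul sp.one_lt.ne' (hp w hw).one_lt.ne' (pr _ (((Nat.coprime_primes sp (hp w hw)).2
      (Ne.symm e)).mul_dvd_of_dvd_of_dvd f0 (df w hw)) (c0.mul_left (nd w hw)) (mul_ne_one.2 (.inl sp.one_lt.ne')))
  have sy : ∀ w : W, w ≠ 1 → ∃ P : Sylow s Y, (P : Subgroup Y) = MulAction.stabilizer Y w := fun w hw => by
    have k := sa w hw
    generalize MulAction.stabilizer Y w = B at k
    exact ⟨(IsPGroup.of_card (n := 1) (by rw [k, pow_one])).toSylow fun ⟨m, e⟩ => ss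
      ((c0.mul_left c0).dvd_of_dvd_mul_left ⟨m, by rw [cY, ← B.card_mul_index, k, e, mul_assoc]⟩), rfl⟩
  obtain ⟨A, hA⟩ := sy w0 hw0
  have cP : ∀ P : Sylow s Y, Nat.card P = s := fun P =>
    (Nat.card_congr (Sylow.equiv P A).toEquiv).trans ((congrArg (fun B : Subgroup Y => Nat.card B) hA).trans hs)
  have fP : ∀ P : Sylow s Y, Nat.card (Fx W (P : Subgroup Y)) ^ s = Nat.card W := fun P => by
    obtain ⟨β, e, o⟩ := gen_of_prime (B := (P : Subgroup Y)) (by rw [cP P]; exact sp)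
    have o' : orderOf β = s := o.trans (cP P)
    rw [← e, ← o']
    exact fr β (o' ▸ c0)
  have cnt := count (fun P : Sylow s Y => Fx W (P : Subgroup Y)) (fun v hv => by
      obtain ⟨P, hP⟩ := sy v hv
      exact ⟨P, fun k hk => hP.le hk, fun P' hP' => Sylow.ext (P'.3 P.2 fun k hk => hP.ge (hP' k hk)).symm⟩)
    fun P => Nat.pow_left_injective sp.ne_zero ((fP P).trans (fP A).symm)
  have hQ := fP A
  have fA : ∀ g : Y, g * b = b * g → ∀ v ∈ Fx W (A : Subgroup Y), g • v ∈ Fx W (A : Subgroup Y) := fun g e v hv => by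
    rw [hA, ← hb, mem_Fx_zpowers] at hv ⊢
    rw [← mul_smul, ← e, mul_smul, hv]
  have nA : ∀ g : Y, g * b = b * g → g • A = A := fun g e => Sylow.smul_eq_iff_mem_normalizer.2 (by
    refine centralizer_le_normalizer _ fun x hx => ?_
    obtain ⟨k, rfl⟩ := (hA.trans hb.symm).le hx
    exact ((show Commute g b from e).zpow_right k).symm)
  have tr : ∀ P : Sylow s Y, ∃ x : H, x • A = P := fun P => by
    obtain ⟨g, rfl⟩ := MulAction.exists_smul_eq Y A P
    obtain ⟨k, e⟩ := hc g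
    refine ⟨⟨_, h.nH.conj_mem _ e (c ^ k)⟩, ?_⟩
    change (c ^ k * ((c ^ k)⁻¹ * g) * (c ^ k)⁻¹) • A = _
    rw [mul_inv_cancel_left, mul_smul, nA _ ((show Commute c b from cb).zpow_left k).inv_left]
  have uH : Nat.card (Sylow s Y) ∣ Nat.card H := by
    have : MulAction.orbit H A = Set.univ := Set.eq_univ_of_forall fun P => tr P
    rw [← Set.ncard_univ, ← this, ← MulAction.index_stabilizer]
    exact index_dvd_card _
  generalize hq : Nat.card (Fx W (A : Subgroup Y)) = Q at cnt hQ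
  have Q2 : 2 ≤ Q := by
    by_contra! e
    have : Q ^ s ≤ 1 ^ s := Nat.pow_le_pow_left (by omega) s
    rw [one_pow] at this
    omega
  obtain ⟨⟨x, xH⟩, hx⟩ := (h.sr.isCyclic h.aH).exists_generator
  have zx : zpowers x = H := le_antisymm (zpowers_le.2 xH) fun y hy =>
    (hx ⟨y, hy⟩).imp fun _ e => congrArg Subtype.val e
  have ox : orderOf x = Nat.card H := by rw [← Nat.card_zpowers, zx]
  by_contra hf
  obtain ⟨m, em⟩ := f0
  obtain ⟨t, tp, m', rfl⟩ := Nat.exists_prime_and_dvd (n := m) fun e => hf (by rwa [em, e, mul_one])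
  have st : s.Coprime t := (Nat.coprime_primes sp tp).2 fun e => ss ⟨m', by rw [em, ← e, mul_assoc]⟩
  have mem : ∀ k, c ^ k ∈ H ↔ H.index ∣ k := fun k => by
    rw [← QuotientGroup.eq_one_iff, QuotientGroup.mk_pow, ← orderOf_dvd_iff_pow_eq_one, oc]
  have f0 : 0 < s * m' := Nat.pos_of_ne_zero fun e => H.index_ne_zero_of_finite (by
    rw [em, mul_left_comm, e, mul_zero])
  have dH : c ^ (s * m') ∉ H := fun e => by
    have := Nat.le_of_dvd f0 ((mem _).1 e)
    rw [em, mul_left_comm] at this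
    have := tp.two_le
    nlinarith
  obtain ⟨X, hX, hX'⟩ := fld Y W q n t x (c ^ (s * m')) h.md tp (fun U hU => by
      by_contra! e
      have a1 := sr_dvd h.sr xH hU
      have a2 := sr_dvd h.sr xH (U := ⊤) fun _ _ => mem_top _
      have a3 := U.card_mul_index
      have a4 : 1 < Nat.card U := (one_lt_card_iff_ne_bot U).2 e.1
      have a5 : 1 < U.index := one_lt_index_of_ne_top e.2
      rw [card_top, ← a3, show Nat.card U * U.index - 1 = (Nat.card U - 1) * U.index + (U.index - 1) by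
        rw [Nat.sub_one_mul]; have := Nat.le_mul_of_pos_left U.index (show 0 < Nat.card U by omega); omega] at a2
      exact arith1 Q2 sp.two_le (hQ ▸ cnt) (ox ▸ Nat.le_of_dvd Nat.card_pos uH) (a3.trans hQ.symm)
        (Nat.le_of_dvd (by omega) a1) (Nat.le_of_dvd (by omega) ((Nat.dvd_add_right (a1.mul_right _)).1 a2)))
    (zx ▸ h.nH.conj_mem _ xH _)
    (h.aH _ (by rw [← pow_mul, mem, em]; exact ⟨1, by ring⟩) _ xH) fun e => by
      have z := mem_center_iff.1 (h.cz _ dH x xH e) b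
      have : ∀ P : Sylow s Y, P = A := fun P => by
        obtain ⟨⟨y, hy⟩, rfl⟩ := tr P
        obtain ⟨k, rfl⟩ := zx.ge hy
        exact nA _ ((show Commute b x from z).zpow_right k).symm
      rw [Nat.card_eq_one_iff_exists.2 ⟨A, this⟩, ← hQ] at cnt
      have := Nat.pow_lt_pow_right (show 1 < Q by omega) sp.one_lt
      rw [pow_one] at this
      omega
  obtain ⟨y, rfl, rfl⟩ := Nat.exists_eq_pow_of_exponent_coprime_of_pow_eq_pow st (hQ.trans hX.symm)
  obtain ⟨c0, d1, d2, d3⟩ := arith2 (y := y) (by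
    by_contra! e
    have : y ^ t ≤ 1 ^ t := Nat.pow_le_pow_left (by omega) t
    rw [one_pow] at this
    omega) sp.two_le st (hQ ▸ cnt)
  have o := orderOf_pow_orderOf_div (orderOf_pos x).ne' (ox ▸ d1.trans uH)
  have gH : x ^ (orderOf x / c0) ∈ H := pow_mem xH _
  have z := h.cz _ dH _ gH (hX' _ (npow_mem_zpowers _ _) (orderOf_dvd_iff_pow_eq_one.1 (o.symm ▸ d2)))
  exact d3 (o ▸ hq ▸ sr_dvd h.sr gH (fA _ (mem_center_iff.1 z b).symm))

end CL.ND4
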