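/-
Project ND4 (S4780), job NRM: the norm of a linear character.
-/
import Cfsg.Agent.ND4.Defs

set_option autoImplicit false

namespace CL.ND4

open Cfsg Subgroup CL.Grp CL.Char CL.Char.NDiv CL.Char.RelDeg CL.Char.Palfy CL.Grp.Homog
open scoped commutatorElement

universe u

theorem nrm : NRM.{u} := by
  intro G _ _ R _ H r h X _ hX A hA B hB l hl x hx h1
  classical
  haveI := Fintype.ofFinite B
  refine ⟨∏ b : B, (b : G) • l, prod_mem fun b _ => hA _ l hl, fun c hc => ?_, fun e => h1 ?_⟩
  · rw [Finset.smul_prod']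
    exact Fintype.prod_equiv (Equiv.mulLeft (⟨c, hc⟩ : B)) _ _ fun b => (mul_smul c (b : G) l).symm
  · by_cases hx' : x ∈ X
    swap
    · exact dif_neg hx'
    have e1 : ev l x ^ Nat.card B = 1 := by
      rw [← e]
      change _ = evh X x _
      rw [map_prod, Nat.card_eq_fintype_card, ← Finset.card_univ, ← Finset.prod_const]
      exact Finset.prod_congr rfl fun b _ => (hx b b.2).symm
    obtain ⟨k, hk⟩ := h.pR ⟨x, hX hx'⟩
    have e2 : ev l x ^ r ^ k = 1 := by
      rw [← zpow_natCast, ← ev_zpow l hx', zpow_natCast, show x ^ r ^ k = 1 from congrArg Subtype.val hk, ev_one]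
    rw [← pow_one (ev l x), ← ((h.cop.coprime_dvd_left (card_dvd_of_le hB)).pow_right k).gcd_eq_one]
    exact pow_gcd_eq_one.2 ⟨e1, e2⟩

end CL.ND4
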