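/-
Project ND4 (S4780): a nonsingular space of alternating matrices over `ZMod p` has dimension at most half the size.
-/
import Cfsg.Agent.ND4.Defs

set_option autoImplicit false

namespace CL.ND4

namespace PFx

open Matrix MvPolynomial

/-- two distinct points split off from a finite type -/
noncomputable def split2 {ι : Type} [DecidableEq ι] (i j : ι) (h : i ≠ j) :
    Fin 2 ⊕ {x : ι // x ≠ i ∧ x ≠ j} ≃ ι :=
  Equiv.ofBijective (Sum.elim ![i, j] Subtype.val) <| by
    constructor
    · rintro (a | a) (b | b) hab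
      · fin_cases a <;> fin_cases b <;> simp_all [eq_comm]
      · have := b.2
        fin_cases a <;> simp_all [eq_comm]
      · have := a.2
        fin_cases b <;> simp_all
      · simp only [Sum.elim_inr] at hab
        rw [Subtype.ext hab]
    · intro x
      by_cases h1 : x = i
      · exact ⟨Sum.inl 0, by simp [h1]⟩
      by_cases h2 : x = j
      · exact ⟨Sum.inl 1, by simp [h2]⟩
      exact ⟨Sum.inr ⟨x, h1, h2⟩, rfl⟩

/-- the determinant of an alternating matrix over a field is a square -/
theorem alt_sq (K : Type) [Field K] (n : ℕ) : ∀ (ι : Type) [Fintype ι] [DecidableEq ι], Fintype.card ι = n →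
    ∀ A : Matrix ι ι K, (∀ j k, A j k = - A k j) → (∀ j, A j j = 0) → IsSquare A.det := by
  induction n using Nat.strong_induction_on with
  | _ n ih =>
  intro ι _ _ hn A ha h0
  by_cases hA : A = 0
  · subst hA
    rcases isEmpty_or_nonempty ι with h | h
    · rw [Matrix.det_isEmpty]; exact IsSquare.one
    · rw [Matrix.det_zero]; exact IsSquare.zero
  obtain ⟨i, j, hij⟩ : ∃ i j, A i j ≠ 0 := by
    by_contra hc
    push Not at hc
    exact hA (Matrix.ext hc)
  have hne : i ≠ j := by
    rintro rfl
    exact hij (h0 i)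
  let e := split2 i j hne
  let B : Matrix (Fin 2) (Fin 2) K := !![0, A i j; -A i j, 0]
  let B' : Matrix (Fin 2) (Fin 2) K := !![0, -(A i j)⁻¹; (A i j)⁻¹, 0]
  let C : Matrix (Fin 2) {x : ι // x ≠ i ∧ x ≠ j} K := Matrix.of fun s k => A (![i, j] s) k
  let D : Matrix {x : ι // x ≠ i ∧ x ≠ j} (Fin 2) K := Matrix.of fun k s => A k (![i, j] s)
  let E : Matrix {x : ι // x ≠ i ∧ x ≠ j} {x : ι // x ≠ i ∧ x ≠ j} K := Matrix.of fun k l => A k l
  have hM : A.submatrix e e = fromBlocks B C D E := by
    ext (a | a) (b | b)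
    · change A (![i, j] a) (![i, j] b) = B a b
      fin_cases a <;> fin_cases b
      · exact h0 i
      · rfl
      · exact ha j i
      · exact h0 j
    · rfl
    · rfl
    · rfl
  let _ : Invertible B := ⟨B', by
    ext a b
    fin_cases a <;> fin_cases b <;> simp [B, B', Matrix.mul_apply, Fin.sum_univ_two, hij], by
    ext a b
    fin_cases a <;> fin_cases b <;> simp [B, B', Matrix.mul_apply, Fin.sum_univ_two, hij]⟩
  have hB : ⅟B = B' := rfl
  have hS : ∀ k l, (E - D * B' * C) k l = A k l + (A i j)⁻¹ * (A k i * A j l - A k j * A i l) := by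
    intro k l
    simp [E, D, B', C, Matrix.mul_apply, Fin.sum_univ_two]
    ring
  have hc : Fintype.card {x : ι // x ≠ i ∧ x ≠ j} < n := by
    rw [← hn]
    exact Fintype.card_subtype_lt (x := i) (by simp)
  have hsq := ih _ hc _ rfl (E - D * B' * C) (fun k l => by
    rw [hS, hS, ha k l, ha k i, ha k j, ha l i, ha l j]; ring) (fun k => by
    rw [hS, h0, ha k i, ha k j]; ring)
  rw [← Matrix.det_submatrix_equiv_self e, hM, det_fromBlocks₁₁, hB]
  refine IsSquare.mul ⟨A i j, ?_⟩ hsq
  simp [B, Matrix.det_fin_two]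

/-- the same over an integrally closed domain -/
theorem alt_sq' (R : Type) [CommRing R] [IsDomain R] [IsIntegrallyClosed R] (m : ℕ) (A : Matrix (Fin m) (Fin m) R)
    (ha : ∀ j k, A j k = - A k j) (h0 : ∀ j, A j j = 0) : ∃ g, A.det = g * g := by
  obtain ⟨r, hr⟩ := alt_sq (FractionRing R) _ (Fin m) rfl (A.map (algebraMap R (FractionRing R)))
    (fun j k => by rw [Matrix.map_apply, Matrix.map_apply, ha j k, map_neg])
    (fun j => by rw [Matrix.map_apply, h0, map_zero])
  have hd : algebraMap R (FractionRing R) A.det = r * r := by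
    rw [← hr, RingHom.map_det]; rfl
  obtain ⟨g, rfl⟩ := IsIntegrallyClosed.exists_algebraMap_eq_of_isIntegral_pow (R := R) (x := r) (n := 2) two_pos
    (by rw [sq, ← hd]; exact isIntegral_algebraMap)
  exact ⟨g, IsFractionRing.injective R (FractionRing R) (by rw [hd, map_mul])⟩

theorem deg_det {σ K : Type} [CommRing K] (m : ℕ) (M : Matrix (Fin m) (Fin m) (MvPolynomial σ K))
    (h : ∀ j k, (M j k).totalDegree ≤ 1) : M.det.totalDegree ≤ m := by
  rw [Matrix.det_apply]
  refine totalDegree_finsetSum_le fun s _ => (totalDegree_smul_le _ _).trans ((totalDegree_finsetProd _ _).trans ?_)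
  calc ∑ i, (M (s i) i).totalDegree ≤ ∑ _i : Fin m, 1 := Finset.sum_le_sum fun i _ => h _ _
    _ = m := by simp

end PFx

open PFx MvPolynomial in
theorem pf : PF := by
  intro p _ n m A hm ha h0 hdet
  classical
  by_contra hlt
  let M : Matrix (Fin m) (Fin m) (MvPolynomial (Fin n) (ZMod p)) := Matrix.of fun j k => ∑ i, A i j k • X i
  have hev : ∀ c : Fin n → ZMod p, eval c M.det = (∑ i, c i • A i).det := by
    intro c
    rw [RingHom.map_det]
    congr 1
    ext j k
    simp [M, Matrix.sum_apply, mul_comm]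
  obtain ⟨g, hg⟩ := alt_sq' _ m M (fun j k => by
    simp only [M, Matrix.of_apply, ← Finset.sum_neg_distrib]
    exact Finset.sum_congr rfl fun i _ => by rw [ha i j k, neg_smul]) (fun j => by simp [M, h0])
  have hdeg : M.det.totalDegree ≤ m := deg_det m M fun j k => by
    simp only [M, Matrix.of_apply]
    exact totalDegree_finsetSum_le fun i _ => (totalDegree_smul_le _ _).trans (totalDegree_X i).le
  have hz : ∀ c : Fin n → ZMod p, eval c g = 0 ↔ c = 0 := by
    intro c
    rw [← mul_self_eq_zero, ← map_mul, ← hg, hev]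
    constructor
    · intro h
      by_contra hc
      exact hdet c hc h
    · rintro rfl
      have : Nonempty (Fin m) := ⟨⟨0, hm⟩⟩
      simp
  have hn : 0 < n := by omega
  have hg0 : g ≠ 0 := by
    rintro rfl
    have := congrFun ((hz 1).1 (map_zero _)) ⟨0, hn⟩
    simp at this
  rw [hg, totalDegree_mul_of_isDomain hg0 hg0] at hdeg
  have hd := char_dvd_card_solutions p (f := g) (by rw [Fintype.card_fin]; omega)
  have h1 : Fintype.card {x : Fin n → ZMod p // eval x g = 0} = 1 := by
    rw [Fintype.card_eq_one_iff]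
    exact ⟨⟨0, (hz 0).2 rfl⟩, fun y => Subtype.ext ((hz _).1 y.2)⟩
  rw [h1] at hd
  exact (Fact.out : p.Prime).one_lt.ne' (Nat.dvd_one.1 hd)

end CL.ND4
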