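/-
Project ND4: an irreducible character of `R` over a given character of the normal subgroup `X` (job ND4-PL).
-/
import Cfsg.Agent.ND4.Defs
import Cfsg.Agent.Char.Deg4a
import Cfsg.Agent.Char.Clifford2

set_option autoImplicit false

namespace CL.ND4

open Cfsg Subgroup CL.Grp CL.Char

universe u

theorem pl : PL.{u} := by
  intro G _ _ R _ X _ hX θ hθ
  classical
  let _ := Fintype.ofFinite G
  have hθ' := isIrrCharacter_subgroupOf hX hθ
  obtain ⟨ψ, hψ, hc⟩ := exists_irr_over (X.subgroupOf R) hθ'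
  have hc' : classInner (fun n : X => ψ ⟨n, hX n.2⟩) θ ≠ 0 := by
    rw [← classInner_subgroupOf hX]; exact hc
  refine ⟨ψ, hψ, fun g hg => ?_, fun K _ h x hx => ?_, fun K _ hK h => ?_,
    fun _ hR => ⟨_, hc', congrFun (res_eq_smul_of_le_inertia hX hθ hR hψ hc')⟩⟩
  · have e : conjChar X g (fun n : X => ψ ⟨n, hX n.2⟩) = fun n : X => ψ ⟨n, hX n.2⟩ :=
      funext fun n => mem_inertia.1 hg ⟨n, hX n.2⟩
    have h2 : classInner (fun n : X => ψ ⟨n, hX n.2⟩) (conjChar X g θ) ≠ 0 := by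
      rw [← e, classInner_conjChar]; exact hc'
    rw [← classInner_subgroupOf hX] at h2
    obtain ⟨y, hy⟩ := exists_conjChar_eq_of_classInner_ne_zero hψ hθ'
      (isIrrCharacter_subgroupOf hX (isIrrCharacter_conjChar hθ g)) hc h2
    have e2 : conjChar X g θ = conjChar X (y : G) θ := funext fun n => (congrFun hy ⟨⟨n, hX n.2⟩, n.2⟩).symm
    have := mul_mem (mem_sup_right (S := R) (conjChar_eq_conjChar_iff.1 e2)) (mem_sup_left y.2)
    rwa [inv_mul_cancel_right] at this
  · have := apply_eq_one_of_mem_charKer (D4.mem_ker_of_under hθ' hψ hc (x := ⟨⟨x, hX x.2⟩, x.2⟩) (h hx))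
    exact hθ.isCharacter.mem_charKer.2 this
  · exact D4.le_ker_of_under (K := K.subgroupOf R) (fun x hx => hK hx) hθ' hψ hc fun x hx =>
      apply_eq_one_of_mem_charKer (h (x := ⟨x, hK hx⟩) hx)

end CL.ND4
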