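/-
Project ND4 (S4780): index facts in a group of Camina type of class four.
-/
import Cfsg.Agent.ND4.Defs

set_option autoImplicit false
set_option linter.unusedSectionVars false

namespace CL.ND4

open Cfsg Subgroup CL.Grp CL.Char CL.Char.NDiv CL.Char.RelDeg CL.Char.Palfy CL.Grp.Homog
open scoped commutatorElement

universe u

namespace PUAx

theorem card_hom_le (Q : Type*) [Group Q] [Finite Q] : Finite (Q →* ℂˣ) ∧ Nat.card (Q →* ℂˣ) ≤ Nat.card Q := by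
  have hi : Function.Injective fun l : Q →* ℂˣ => (Units.coeHom ℂ).comp l := fun l m e =>
    MonoidHom.ext fun x => Units.ext (DFunLike.congr_fun e x)
  have h := (linearIndependent_monoidHom Q ℂ).comp _ hi
  have hf : Finite (Q →* ℂˣ) := h.finite
  refine ⟨hf, ?_⟩
  have := Fintype.ofFinite (Q →* ℂˣ)
  have := Fintype.ofFinite Q
  have k := h.fintype_card_le_finrank
  rwa [Module.finrank_fintype_fun_eq_card, ← Nat.card_eq_fintype_card, ← Nat.card_eq_fintype_card] at k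

theorem ker_le {A P : Type*} [Group A] [Group P] [Finite A] (F : P →* A →* ℂˣ) : F.ker.index ≤ F.flip.ker.index := by
  obtain ⟨h1, h2⟩ := card_hom_le (A ⧸ F.flip.ker)
  rw [index_ker]
  refine le_trans (Nat.card_le_card_of_injective (fun l : F.range => QuotientGroup.lift F.flip.ker l.1 fun a ha => ?_)
    fun l m e => Subtype.ext (MonoidHom.ext fun a => DFunLike.congr_fun e (a : A ⧸ F.flip.ker))) h2
  obtain ⟨y, hy⟩ := l.2
  rw [MonoidHom.mem_ker, ← hy]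
  exact DFunLike.congr_fun (MonoidHom.mem_ker.1 ha) y

variable {P : Type u} [Group P]

theorem comm_inv {a b : P} {B : Subgroup P} (h : ⁅a, b⁆ ∈ B) : ⁅b, a⁆ ∈ B := commutatorElement_inv a b ▸ inv_mem h

theorem comm_iff {a b : P} {B : Subgroup P} [B.Normal] : ⁅a, b⁆ ∈ B ↔ Commute (a : P ⧸ B) (b : P ⧸ B) := by
  rw [← QuotientGroup.eq_one_iff, ← QuotientGroup.mk'_apply, map_commutatorElement,
    commutatorElement_eq_one_iff_commute]
  rfl

theorem mem_cz {x y : P} {B : Subgroup P} [B.Normal] : y ∈ cen (zpowers x) B ↔ ⁅x, y⁆ ∈ B :=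
  ⟨fun h => h x (mem_zpowers x), fun h _ ⟨k, hk⟩ => hk ▸ comm_iff.2 ((comm_iff.1 h).zpow_left k)⟩

/-- the fibres of `y ↦ ⁅x, y⁆ B` -/
theorem idx {x : P} {A B : Subgroup P} [hB : B.Normal] (h1 : ∀ y, ⁅x, y⁆ ∈ A) (h2 : ∀ w ∈ A, ∃ y, ⁅x, y⁆ = w) :
    (cen (zpowers x) B).index = B.relIndex A := by
  have key : ∀ y y' : P, y⁻¹ * y' ∈ cen (zpowers x) B ↔
      (⟨_, h1 y⟩ : A)⁻¹ * ⟨_, h1 y'⟩ ∈ B.subgroupOf A := fun y y' => by
    rw [mem_cz, mem_subgroupOf]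
    change _ ↔ ⁅x, y⁆⁻¹ * ⁅x, y'⁆ ∈ B
    rw [show ⁅x, y⁆⁻¹ * ⁅x, y'⁆ = y * (⁅x, y⁻¹ * y'⁆ * y⁻¹) by simp only [commutatorElement_def]; group,
      hB.mem_comm_iff, inv_mul_cancel_right]
  refine Nat.card_eq_of_bijective (Quotient.map' (fun y => ⟨_, h1 y⟩) fun y y' h =>
    QuotientGroup.leftRel_apply.2 ((key y y').1 (QuotientGroup.leftRel_apply.1 h))) ⟨?_, ?_⟩
  · rintro ⟨y⟩ ⟨y'⟩ e
    exact QuotientGroup.eq.2 ((key y y').2 (QuotientGroup.eq.1 e))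
  · rintro ⟨w, hw⟩
    obtain ⟨y, rfl⟩ := h2 w hw
    exact ⟨(y : P ⧸ cen (zpowers x) B), rfl⟩

theorem eq_of_index [Finite P] {H K : Subgroup P} (h : H ≤ K) (e : K.index = H.index) : K = H := by
  have h1 := relIndex_mul_index h
  rw [e, mul_eq_right₀ index_ne_zero_of_finite, relIndex_eq_one] at h1
  exact le_antisymm h1 h

/-- the two kernels of a commutator pairing -/
theorem pair [Finite P] {A D J B : Subgroup P} [J.Normal] (l : D →* ℂˣ) (hl : ∀ a : D, l a = 1 ↔ (a : P) ∈ J)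
    (hJ : J ≤ D) (h1 : ∀ a ∈ A, ∀ y, ⁅a, y⁆ ∈ D) (h2 : ∀ d ∈ D, ∀ y, ⁅d, y⁆ ∈ J)
    (h3 : ∀ a ∈ A, a ∈ B ↔ ∀ y, ⁅a, y⁆ ∈ J) : (cen A J).index = B.relIndex A := by
  have k1 : ∀ d ∈ D, ev (D := D) l d = 1 ↔ d ∈ J := fun d hd => by rw [ev_of (D := D) l hd]; exact hl _
  have k2 : ∀ d ∈ D, ∀ z, z * d * z⁻¹ ∈ D ∧ ev (D := D) l (z * d * z⁻¹) = ev (D := D) l d := fun d hd z => by
    have e : z * d * z⁻¹ = ⁅z, d⁆ * d := by simp only [commutatorElement_def]; group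
    have hz := comm_inv (h2 d hd z)
    rw [e, ev_mul (D := D) l (hJ hz) hd, (k1 _ (hJ hz)).2 hz, one_mul]
    exact ⟨mul_mem (hJ hz) hd, rfl⟩
  let F : P →* A →* ℂˣ := MonoidHom.mk' (fun y => MonoidHom.mk' (fun a => ev (D := D) l ⁅(a : P), y⁆) fun a b => by
      rw [coe_mul, show ⁅(a : P) * b, y⁆ = a * ⁅(b : P), y⁆ * (a : P)⁻¹ * ⁅(a : P), y⁆ by
        simp only [commutatorElement_def]; group, ev_mul (D := D) l (k2 _ (h1 b b.2 y) _).1 (h1 a a.2 y),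
        (k2 _ (h1 b b.2 y) _).2, mul_comm]) fun y y' => MonoidHom.ext fun a => by
    change ev (D := D) l ⁅(a : P), y * y'⁆ = ev (D := D) l ⁅(a : P), y⁆ * ev (D := D) l ⁅(a : P), y'⁆
    rw [show ⁅(a : P), y * y'⁆ = ⁅(a : P), y⁆ * (y * ⁅(a : P), y'⁆ * y⁻¹) by simp only [commutatorElement_def]; group,
      ev_mul (D := D) l (h1 a a.2 y) (k2 _ (h1 a a.2 y') _).1, (k2 _ (h1 a a.2 y') _).2]
  have e1 : F.ker = cen A J := Subgroup.ext fun y =>
    ⟨fun h w hw => (k1 _ (h1 w hw y)).1 (DFunLike.congr_fun (MonoidHom.mem_ker.1 h) ⟨w, hw⟩),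
      fun h => MonoidHom.ext fun a => (k1 _ (h1 a a.2 y)).2 (h a a.2)⟩
  have e2 : F.flip.ker = B.subgroupOf A := Subgroup.ext fun a =>
    ⟨fun h => (h3 a a.2).2 fun y => (k1 _ (h1 a a.2 y)).1 (DFunLike.congr_fun (MonoidHom.mem_ker.1 h) y),
      fun h => MonoidHom.ext fun y => (k1 _ (h1 a a.2 y)).2 ((h3 a a.2).1 h y)⟩
  rw [← e1, relIndex, ← e2]
  exact le_antisymm (ker_le F) (ker_le F.flip)

variable [Finite P] {R0 A2 A3 A4 L : Subgroup P} [A3.Normal] [A4.Normal] [L.Normal] {κ : A4 →* ℂˣ}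
  (h : C4 R0 A2 A3 A4 L κ)
include h

theorem iK {x : P} (hx : x ∉ R0) : (cen (zpowers x) A3).index = A3.relIndex A2 := idx (h.c2 x) (h.cam x hx)

theorem an {I : Subgroup P} (h2 : I ≤ A3) : (cen I L).index = A4.relIndex I :=
  pair κ h.kL h.l4 (fun a ha => h.c4 a (h2 ha)) h.c5 fun a ha => ⟨h.c5 a, h.nc a (h2 ha)⟩

theorem iU (J : Subgroup P) [J.Normal] (h1 : A4 ≤ J) (h2 : J < A3) (l : A3 →* ℂˣ) (hl : ∀ a : A3, l a = 1 ↔ (a : P) ∈ J) :
    (cen A2 J).index = A3.relIndex A2 ∧ R0 ≤ cen A2 J ∧ ∀ z ∈ cen A2 J, z ∉ R0 → cen (zpowers z) A3 = cen A2 J := by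
  have h3 : ∀ a ∈ A2, a ∈ A3 ↔ ∀ y, ⁅a, y⁆ ∈ J := fun a ha => ⟨fun k y => h1 (h.c4 a k y), fun k => by
    by_contra k'
    obtain ⟨z, z1, z2⟩ := SetLike.exists_of_lt h2
    obtain ⟨y, rfl⟩ := h.cam2 a ha k' z z1
    exact z2 (k y)⟩
  have h4 := pair l hl h2.le (fun a ha => h.c3 a (h.l0 ha)) (fun d hd y => h1 (h.c4 d hd y)) h3
  refine ⟨h4, fun x hx w hw => h1 (comm_inv (h.c4' x hx w hw)), fun z hz z0 => eq_of_index (fun y hy => ?_)
    ((iK h z0).trans h4.symm)⟩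
  have k : ∀ X Y : Subgroup P, ⁅⁅X, Y⁆, cen A2 J⁆ ≤ J := fun X Y =>
    (commutator_mono (commutator_le.2 fun a _ b _ => h.c2 a b) le_rfl).trans (commutator_le.2 fun a ha b hb => hb a ha)
  exact mem_cz.2 ((h3 _ (h.c2 _ _)).2 fun t => three_subgroups (k (cen A2 J) ⊤) (k ⊤ (cen A2 J))
    (commutator_mem_commutator (commutator_mem_commutator hz hy) (mem_top t)))

theorem sq_le : R0.index ≤ A3.relIndex A2 ^ 2 := by
  obtain ⟨z, z1, z2⟩ := h.ne3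
  obtain ⟨l, l1, l2⟩ := exists_trv (X := A3) (K := A4) (commutator_le.2 fun a ha b _ => h.c4 a ha b) z1 z2
  have hl : ∀ a : A3, l.h a = 1 ↔ (a : P) ∈ l.h.ker.map A3.subtype := fun a =>
    ⟨fun e => mem_map_of_mem _ e, fun ⟨b, hb, e⟩ => (Subtype.ext e : b = a) ▸ hb⟩
  have h1 : A4 ≤ l.h.ker.map A3.subtype := fun w hw =>
    (hl ⟨w, h.l3 hw⟩).1 ((ev_of l (h.l3 hw)).symm.trans (l1 w hw))
  have h2 : l.h.ker.map A3.subtype ≤ A3 := map_subtype_le _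
  have hn : (l.h.ker.map A3.subtype).Normal := ⟨fun a ha g => by
    rw [show g * a * g⁻¹ = ⁅g, a⁆ * a by simp only [commutatorElement_def]; group]
    exact mul_mem (h1 (comm_inv (h.c4 a (h2 ha) g))) ha⟩
  obtain ⟨a, b, c⟩ := iU h _ h1 (lt_of_le_of_ne h2 fun e => l2 ((ev_of l z1).trans ((hl ⟨z, z1⟩).2 (e.ge z1)))) l.h hl
  obtain ⟨x, hx⟩ : ∃ x, x ∉ cen A2 (l.h.ker.map A3.subtype) := by
    by_contra! k
    obtain ⟨w, w1, w2⟩ := h.ne2
    rw [(eq_top_iff' _).2 k, index_top, eq_comm, relIndex_eq_one] at a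
    exact w2 (a w1)
  have x0 : x ∉ R0 := fun k => hx (b k)
  have e : cen (zpowers x) A3 ⊓ cen A2 (l.h.ker.map A3.subtype) = R0 :=
    le_antisymm (fun y hy => by_contra fun y0 => hx ((c y (mem_inf.1 hy).2 y0).le
      (mem_cz.2 (comm_inv (mem_cz.1 (mem_inf.1 hy).1)))))
      (le_inf (fun y hy => mem_cz.2 (comm_inv (h.c3 y hy x))) b)
  rw [← e, pow_two]
  exact index_inf_le.trans (by rw [iK h x0, a])

theorem bd {x : P} (hx : x ∉ R0) :
    2 * (A3.relIndex (A2 ⊓ cen (zpowers x) A4)) * A4.relIndex A3 ≤ R0.index := by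
  have hn : A2.Normal := Normal.of_commutator_le _ (commutator_le.2 fun a _ b _ => h.c2 a b)
  have h1 : (cen (zpowers x) A4).index = A4.relIndex A2 := idx (h.c2 x) (h.cam x hx)
  have xC : x ∈ cen (zpowers x) A4 := mem_cz.2 (by simp)
  have h3 : A3 ≤ cen (zpowers x) A4 := fun z hz => mem_cz.2 (comm_inv (h.c4 z hz x))
  have h0 : R0 ⊓ cen (zpowers x) A4 ⊔ A2 = R0 := le_antisymm (sup_le inf_le_left h.l0) fun r hr => by
    obtain ⟨w, hw, k⟩ := h.cT r hr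
    rw [← mul_inv_cancel_right r w]
    exact mul_mem (mem_sup_left ⟨mul_mem hr (h.l0 hw), mem_cz.2 (comm_inv (k x))⟩) (mem_sup_right (inv_mem hw))
  generalize cen (zpowers x) A4 = C at *
  have e1 := relIndex_mul_relIndex A4 A3 A2 h.l3 h.l2
  have e2 := relIndex_mul_relIndex A3 (A2 ⊓ C) A2 (le_inf h.l2 h3) inf_le_left
  have e3 := relIndex_mul_index (H := A2 ⊓ C) (K := A2) inf_le_left
  have e4 := relIndex_mul_index h.l0
  have e5 := relIndex_mul_index (H := A2 ⊓ C) (K := R0 ⊓ C) (inf_le_inf_right C h.l0)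
  have e6 := relIndex_mul_index (H := R0 ⊓ C) (K := C) inf_le_right
  have e7 : (A2 ⊓ C).relIndex (R0 ⊓ C) = A2.relIndex R0 := by
    conv_rhs => rw [← h0, relIndex_sup_right, ← inf_relIndex_right]
    rw [← inf_assoc, inf_eq_left.2 h.l0]
  have n2 : 2 ≤ (R0 ⊓ C).relIndex C := one_lt_index_of_ne_top fun e => hx ((subgroupOf_eq_top.1 e) xC).1
  have p1 : (A2 ⊓ C).relIndex A2 ≠ 0 := index_ne_zero_of_finite
  have p2 : A2.relIndex R0 ≠ 0 := index_ne_zero_of_finite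
  have e : R0.index = (R0 ⊓ C).relIndex C * A3.relIndex (A2 ⊓ C) * A4.relIndex A3 :=
    mul_left_cancel₀ (mul_ne_zero p1 p2) (by rw [mul_assoc, e4, e3, ← e5, ← e6, e7, h1, ← e1, ← e2]; ring)
  rw [e]
  gcongr

end PUAx

open PUAx in
theorem pua : PUA.{u} := by
  intro beis P _ _ R0 A2 A3 A4 L _ _ _ κ h
  exact { h with
    iK := fun x hx => iK h hx
    iY := fun w hw w3 => idx (h.c3 w (h.l0 hw)) (h.cam2 w hw w3)
    iH := an h le_rfl
    iU := fun J _ h1 h2 ⟨l, hl⟩ => iU h J h1 h2 l hl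
    bd := fun x hx => bd h hx
    an := fun I _ h2 => an h h2
    sq := le_antisymm (sq_le h) (beis P R0 A2 A3 h.l2 h.c2 h.l0 h.c3 h.cam h.ne0) }

end CL.ND4
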