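/-
Project ND4 (S4780): the radical of the commutator form on the second layer of a group of Camina type.
-/
import Cfsg.Agent.ND4.Defs

set_option autoImplicit false
set_option linter.unusedSectionVars false

namespace CL.ND4

open Cfsg Subgroup CL.Grp CL.Char CL.Char.NDiv CL.Char.RelDeg CL.Char.Palfy CL.Grp.Homog
open scoped commutatorElement

universe u

namespace PUBx

variable {P : Type u} [Group P]

theorem csymm {B : Subgroup P} {x y : P} (h : ⁅x, y⁆ ∈ B) : ⁅y, x⁆ ∈ B := by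
  rw [← commutatorElement_inv]; exact inv_mem h

theorem mem_cen_zpowers {B : Subgroup P} [B.Normal] {w y : P} : y ∈ cen (zpowers w) B ↔ ⁅w, y⁆ ∈ B := by
  refine ⟨fun h => h w (mem_zpowers w), fun h v hv => csymm ?_⟩
  obtain ⟨k, rfl⟩ := hv
  have k1 : ∀ {a b : P}, ⁅a, b⁆ ∈ B ↔ Commute (QuotientGroup.mk' B a) (QuotientGroup.mk' B b) := fun {a b} => by
    rw [← commutatorElement_eq_one_iff_commute, ← map_commutatorElement, QuotientGroup.mk'_apply,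
      QuotientGroup.eq_one_iff]
  rw [k1, map_zpow]
  exact (k1.1 h).symm.zpow_right k

variable {R0 A2 A3 A4 L : Subgroup P} [A3.Normal] [A4.Normal] [L.Normal] {κ : A4 →* ℂˣ}

/-- the radical centralises `A3 / L`-centralising elements modulo `A4` -/
theorem rad (h : C4 R0 A2 A3 A4 L κ) {w g : P} (hw : w ∈ A2) (hr : ∀ w' ∈ A2, ⁅w, w'⁆ ∈ L) (hg : g ∈ cen A3 L) :
    ⁅w, g⁆ ∈ A4 := by
  have k1 : ⁅cen A3 L, ⊤⁆ ≤ A2 := commutator_le.2 fun a _ b _ => h.c2 a b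
  have k2 : ⁅A2, A2 ⊓ cen A2 L⁆ ≤ L := commutator_le.2 fun a ha b hb => mem_cen.1 (mem_inf.1 hb).2 a ha
  have k3 : ⁅⊤, A2 ⊓ cen A2 L⁆ ≤ A3 := commutator_le.2 fun a _ b hb => csymm (h.c3 b (h.l0 (mem_inf.1 hb).1) a)
  have k4 : ⁅A3, cen A3 L⁆ ≤ L := commutator_le.2 fun a ha b hb => mem_cen.1 hb a ha
  have k : ⁅⁅A2 ⊓ cen A2 L, cen A3 L⁆, ⊤⁆ ≤ L :=
    three_subgroups ((commutator_mono k1 le_rfl).trans k2) ((commutator_mono k3 le_rfl).trans k4)
  exact h.nc _ (h.c3 w (h.l0 hw) g) fun y => k (commutator_mem_commutator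
    (commutator_mem_commutator (show w ∈ A2 ⊓ cen A2 L from ⟨hw, fun a ha => csymm (hr a ha)⟩) hg) (mem_top y))

end PUBx

open PUBx in
theorem pub : PUB.{u} := by
  intro P _ _ R0 A2 A3 A4 L _ _ _ κ h w hw hr
  by_contra n3
  have hR : R0 ≤ cen A3 L := fun x hx z hz => csymm (h.c5' x hx z hz)
  have g0 : 0 < A4.relIndex A3 := h.iH ▸ Nat.pos_of_ne_zero index_ne_zero_of_finite
  rcases h.dd with dd | dd
  · have k : ∀ v ∈ A2, ∀ g ∈ cen A3 L, ⁅v, g⁆ ∈ A4 := fun v hv g hg => rad h.toC4 hv (dd v hv) hg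
    obtain ⟨z, hz, hz4⟩ := h.ne3
    obtain ⟨l, hl, lz⟩ := exists_trv (X := A3) (K := A4) (commutator_le.2 fun a ha b _ => h.c4 a ha b) hz hz4
    have mJ : ∀ {a}, a ∈ l.h.ker.map A3.subtype ↔ a ∈ A3 ∧ ev l a = 1 := fun {a} =>
      ⟨by rintro ⟨b, hb, rfl⟩; exact ⟨b.2, (ev_coe l b).trans hb⟩,
        fun ⟨ha, e⟩ => ⟨⟨a, ha⟩, (ev_of l ha).symm.trans e, rfl⟩⟩
    generalize l.h.ker.map A3.subtype = J at mJ
    have J4 : A4 ≤ J := fun a ha => mJ.2 ⟨h.l3 ha, hl a ha⟩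
    have : J.Normal := ⟨fun a ha g => by
      have := mul_mem (J4 (csymm (h.c4 a (mJ.1 ha).1 g))) ha
      rwa [commutatorElement_def, inv_mul_cancel_right] at this⟩
    have iJ := (h.iU J J4 (lt_of_le_of_ne (fun a ha => (mJ.1 ha).1) fun e => lz (mJ.1 (e ▸ hz)).2)
      ⟨l.h, fun a => by rw [mJ, ev_coe]; exact ⟨fun e => ⟨a.2, e⟩, fun e => e.2⟩⟩).1
    have wg : A3.relIndex A2 ≤ A4.relIndex A3 := by
      rw [← iJ, ← h.iH]
      exact Nat.le_of_dvd (h.iH ▸ g0) (index_dvd_of_le fun g hg v hv => J4 (k v hv g hg))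
    have hne : ¬ cen A3 L ≤ R0 := fun e => by
      obtain ⟨x, hx⟩ := h.ne0
      have b := h.bd x hx
      have p : 0 < A3.relIndex (A2 ⊓ cen (zpowers x) A4) := Nat.pos_of_ne_zero index_ne_zero_of_finite
      rw [← le_antisymm e hR, h.iH] at b
      nlinarith
    obtain ⟨u, hu, hu0⟩ := SetLike.not_le_iff_exists.1 hne
    have b := h.bd u hu0
    have p : 0 < A3.relIndex A2 := Nat.pos_of_ne_zero index_ne_zero_of_finite
    rw [inf_eq_left.2 (show A2 ≤ cen (zpowers u) A4 from fun v hv => mem_cen_zpowers.2 (csymm (k v hv u hu))),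
      h.sq] at b
    nlinarith
  · have k : ∀ g ∈ cen A3 L, ⁅w, g⁆ ∈ A4 := fun g hg => rad h.toC4 hw hr hg
    have k2 : ∀ g ∈ cen A3 L, ⁅w, g⁆ ∈ L := dd w hw hr k
    have le : cen A3 L ≤ cen (zpowers w) A4 := fun g hg => mem_cen_zpowers.2 (k g hg)
    have e : cen (zpowers w) A4 ≤ cen A3 L := by
      have := relIndex_mul_index le
      rw [h.iH, h.iY w hw n3] at this
      exact relIndex_eq_one.1 (Nat.eq_of_mul_eq_mul_right g0 (this.trans (one_mul _).symm))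
    obtain ⟨a, ha, haL⟩ := h.ne4
    obtain ⟨y, hy⟩ := h.cam2 w hw n3 a (h.l3 ha)
    exact haL (hy ▸ k2 y (e (mem_cen_zpowers.2 (hy ▸ ha))))

end CL.ND4
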