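/-
Project ND4 (S4780): the form on the second layer of a group of Camina type of class four is degenerate.
-/
import Cfsg.Agent.ND4.Defs

set_option autoImplicit false

namespace CL.ND4

open Cfsg Subgroup CL.Grp CL.Char CL.Char.NDiv CL.Char.RelDeg CL.Char.Palfy CL.Grp.Homog
open scoped commutatorElement

universe u

namespace PUCx

variable {P : Type u} [Group P]

theorem cm {B : Subgroup P} [B.Normal] {a b : P} : ⁅a, b⁆ ∈ B ↔ Commute (a : P ⧸ B) (b : P ⧸ B) := by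
  rw [← QuotientGroup.eq_one_iff, ← QuotientGroup.mk'_apply, map_commutatorElement,
    commutatorElement_eq_one_iff_commute]
  rfl

theorem sy {B : Subgroup P} {a b : P} (h : ⁅a, b⁆ ∈ B) : ⁅b, a⁆ ∈ B := by
  rw [← commutatorElement_inv]; exact inv_mem h

theorem mz {B : Subgroup P} [B.Normal] {x g : P} : g ∈ cen (zpowers x) B ↔ ⁅x, g⁆ ∈ B := by
  refine ⟨fun h => h x (mem_zpowers x), fun h w hw => ?_⟩
  obtain ⟨k, rfl⟩ := mem_zpowers_iff.1 hw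
  rw [cm] at h ⊢
  rw [QuotientGroup.mk_zpow]
  exact h.zpow_left k

theorem ml {B : Subgroup P} [B.Normal] {a b c : P} (h1 : ⁅a, c⁆ ∈ B) (h2 : ⁅b, c⁆ ∈ B) : ⁅a * b, c⁆ ∈ B := by
  rw [cm] at h1 h2 ⊢
  rw [QuotientGroup.mk_mul]
  exact h1.mul_left h2

/-- three subgroups, elementwise -/
theorem three {X Y Z B C L : Subgroup P} [L.Normal] (h1 : ∀ y ∈ Y, ∀ z ∈ Z, ⁅y, z⁆ ∈ B)
    (h2 : ∀ b ∈ B, ∀ x ∈ X, ⁅b, x⁆ ∈ L) (h3 : ∀ z ∈ Z, ∀ x ∈ X, ⁅z, x⁆ ∈ C) (h4 : ∀ c ∈ C, ∀ y ∈ Y, ⁅c, y⁆ ∈ L)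
    {x y z : P} (hx : x ∈ X) (hy : y ∈ Y) (hz : z ∈ Z) : ⁅⁅x, y⁆, z⁆ ∈ L := by
  have h : ⁅⁅X, Y⁆, Z⁆ ≤ L := three_subgroups
    ((commutator_mono (commutator_le.2 h1) le_rfl).trans (commutator_le.2 h2))
    ((commutator_mono (commutator_le.2 h3) le_rfl).trans (commutator_le.2 h4))
  exact h (commutator_mem_commutator (commutator_mem_commutator hx hy) hz)

theorem idx (K U : Subgroup P) [K.Normal] : (K ⊓ U).index * (U ⊔ K).index = K.index * U.index := by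
  rw [← relIndex_mul_index (H := K ⊓ U) (K := U) inf_le_right, inf_relIndex_right,
    ← relIndex_mul_index (H := K) (K := U ⊔ K) le_sup_right, relIndex_sup_right]
  ring

theorem idx_le [Finite P] {H K : Subgroup P} (h : H ≤ K) : K.index ≤ H.index :=
  Nat.le_of_dvd (Nat.pos_of_ne_zero index_ne_zero_of_finite) (index_dvd_of_le h)

variable {R0 A2 A3 A4 L : Subgroup P} [A3.Normal] [A4.Normal] [L.Normal] {κ : A4 →* ℂˣ}

theorem nrm (h : C4' R0 A2 A3 A4 L κ) {U : Subgroup P} (hU : R0 ≤ U) : U.Normal := ⟨fun a ha g => by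
  rw [show g * a * g⁻¹ = ⁅g, a⁆ * a by simp only [commutatorElement_def]; group]
  exact mul_mem (hU (h.l0 (h.c2 g a))) ha⟩

/-- the subgroup `U_y` -/
theorem exU (h : C4' R0 A2 A3 A4 L κ) {y : P} (hy : y ∉ cen A3 L) : ∃ U : Subgroup P, U.index = A3.relIndex A2 ∧
    R0 ≤ U ∧ (∀ z ∈ U, z ∉ R0 → cen (zpowers z) A3 = U) ∧ ∀ g, g ∈ U ↔ ∀ w ∈ A2, ⁅⁅w, g⁆, y⁆ ∈ L := by
  have h4 : A4 ≤ A3 ⊓ cen (zpowers y) L := fun a ha => ⟨h.l3 ha, mz.2 (sy (h.c5 a ha y))⟩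
  have hJ : (A3 ⊓ cen (zpowers y) L).Normal := ⟨fun a ha g => by
    rw [show g * a * g⁻¹ = ⁅g, a⁆ * a by simp only [commutatorElement_def]; group]
    exact mul_mem (h4 (sy (h.c4 a ha.1 g))) ha⟩
  have hlt : A3 ⊓ cen (zpowers y) L < A3 := by
    refine lt_of_le_of_ne inf_le_left fun e => hy fun a ha => ?_
    rw [← e] at ha
    exact sy (mz.1 ha.2)
  let l : A3 →* ℂˣ := MonoidHom.mk' (fun a => κ ⟨⁅(a : P), y⁆, h.c4 a a.2 y⟩) fun a b => by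
    have hb : ⁅(b : P), y⁆ ∈ A4 := h.c4 b b.2 y
    have hc : ⁅(a : P), ⁅(b : P), y⁆⁆ ∈ L := sy (h.c5 _ hb a)
    have e : (⟨⁅((a * b : A3) : P), y⁆, h.c4 _ (a * b).2 y⟩ : A4) =
        ⟨_, h.l4 hc⟩ * ⟨_, hb⟩ * ⟨⁅(a : P), y⁆, h.c4 a a.2 y⟩ := by
      apply Subtype.ext
      simp only [coe_mul, commutatorElement_def]
      group
    rw [e, map_mul, map_mul, (h.kL ⟨_, h.l4 hc⟩).2 hc, one_mul, mul_comm]
  obtain ⟨i1, i2, i3⟩ := h.iU (A3 ⊓ cen (zpowers y) L) h4 hlt ⟨l, fun a =>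
    (h.kL ⟨⁅(a : P), y⁆, h.c4 a a.2 y⟩).trans ⟨fun e => ⟨a.2, mz.2 (sy e)⟩, fun e => sy (mz.1 e.2)⟩⟩
  exact ⟨_, i1, i2, i3, fun g => ⟨fun e w hw => sy (mz.1 (e w hw).2),
    fun e w hw => ⟨h.c3 w (h.l0 hw) g, mz.2 (sy (e w hw))⟩⟩⟩

/-- the annihilator of `I_x` -/
theorem exN (h : C4' R0 A2 A3 A4 L κ) (x : P) : ∃ N : Subgroup P,
    A3.relIndex (A2 ⊓ cen (zpowers x) A4) * N.index = A3.relIndex A2 ∧ ∀ y, y ∈ N ↔ ∀ w ∈ A2, ⁅⁅w, x⁆, y⁆ ∈ L := by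
  let φ : A2 →* P ⧸ A4 := MonoidHom.mk' (fun a => ((⁅(a : P), x⁆ : P) : P ⧸ A4)) fun a b => by
    have hb : ⁅(b : P), x⁆ ∈ A3 := h.c3 b (h.l0 b.2) x
    have e : ⁅((a * b : A2) : P), x⁆ = (a : P) * ⁅(b : P), x⁆ * (a : P)⁻¹ * ⁅(a : P), x⁆ := by
      simp only [coe_mul, commutatorElement_def]
      group
    rw [e, QuotientGroup.mk_mul, QuotientGroup.mk_mul, QuotientGroup.mk_mul, ← (cm.1 (h.c4 _ hb a)).eq,
      QuotientGroup.mk_inv, mul_inv_cancel_right, (cm.1 (h.c4 _ hb ⁅(a : P), x⁆)).eq]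
  have hφ : ∀ a : A2, φ a = ((⁅(a : P), x⁆ : P) : P ⧸ A4) := fun _ => rfl
  have hI : ∀ c, c ∈ φ.range.comap (QuotientGroup.mk' A4) → ∃ w ∈ A2, ∃ a ∈ A4, c = ⁅w, x⁆ * a := fun c hc => by
    obtain ⟨w, e⟩ := hc
    rw [hφ, QuotientGroup.mk'_apply, QuotientGroup.eq] at e
    exact ⟨w, w.2, _, e, by group⟩
  have h4 : A4 ≤ φ.range.comap (QuotientGroup.mk' A4) := fun a ha => by
    rw [mem_comap, QuotientGroup.mk'_apply, (QuotientGroup.eq_one_iff a).2 ha]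
    exact one_mem _
  have h3 : φ.range.comap (QuotientGroup.mk' A4) ≤ A3 := fun c hc => by
    obtain ⟨w, hw, a, ha, rfl⟩ := hI c hc
    exact mul_mem (h.c3 w (h.l0 hw) x) (h.l3 ha)
  have hk : φ.ker = (A2 ⊓ cen (zpowers x) A4).subgroupOf A2 := by
    ext a
    rw [MonoidHom.mem_ker, hφ, QuotientGroup.eq_one_iff, mem_subgroupOf]
    exact ⟨fun e => ⟨a.2, mz.2 (sy e)⟩, fun e => sy (mz.1 e.2)⟩
  have hr : A4.relIndex (φ.range.comap (QuotientGroup.mk' A4)) = (A2 ⊓ cen (zpowers x) A4).relIndex A2 := by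
    have := relIndex_ker (φ.range.comap (QuotientGroup.mk' A4)) (QuotientGroup.mk' A4)
    rw [QuotientGroup.ker_mk', map_comap_eq_self_of_surjective (QuotientGroup.mk'_surjective A4), ← index_ker,
      hk] at this
    exact this
  refine ⟨cen (φ.range.comap (QuotientGroup.mk' A4)) L, ?_, fun y => ⟨fun e w hw => e _ ⟨⟨w, hw⟩, rfl⟩,
    fun e c hc => ?_⟩⟩
  · rw [h.an _ h4 h3, hr]
    exact relIndex_mul_relIndex _ _ _ (fun a ha => ⟨h.l2 ha, mz.2 (sy (h.c4 a ha x))⟩) inf_le_left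
  · obtain ⟨w, hw, a, ha, rfl⟩ := hI c hc
    exact ml (e w hw) (h.c5 a ha y)

/-- step (a) -/
theorem stepa (h : C4' R0 A2 A3 A4 L κ) (nd : ∀ w ∈ A2, (∀ w' ∈ A2, ⁅w, w'⁆ ∈ L) → w ∈ A3) {u w : P}
    (hu : u ∈ cen A3 L) (hu0 : u ∉ R0) (hw : w ∈ A2) (hwu : ⁅w, u⁆ ∈ A4) : w ∈ A3 := by
  refine nd w hw fun w' hw' => ?_
  obtain ⟨y, rfl⟩ := h.cam u hu0 w' hw'
  refine sy (three (X := zpowers u) (Y := ⊤) (Z := zpowers w) (B := A3) (C := A4) ?_ ?_ ?_ ?_ (mem_zpowers u)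
    (mem_top y) (mem_zpowers w))
  · exact fun y _ z hz => sy (h.c3 z (h.l0 (zpowers_le.2 hw hz)) y)
  · exact fun b hb x hx => (zpowers_le.2 hu hx) b hb
  · exact fun z hz x hx => (zpowers_le.2 (mz.2 hwu) hx) z hz
  · exact fun c hc y _ => h.c5 c hc y

end PUCx

open PUCx in
theorem puc : PUC.{u} := by
  intro P _ _ R0 A2 A3 A4 L _ _ _ κ h nd
  have hg : A4.relIndex A3 ≠ 0 := index_ne_zero_of_finite
  have hw0 : A3.relIndex A2 ≠ 0 := index_ne_zero_of_finite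
  have hk : ∀ x, A3.relIndex (A2 ⊓ cen (zpowers x) A4) ≠ 0 := fun _ => index_ne_zero_of_finite
  obtain ⟨w, hw, hw3⟩ := h.ne2
  obtain ⟨z, hz, hz0⟩ : ∃ z ∈ cen (zpowers w) A4, z ∉ R0 := by
    by_contra hc
    push Not at hc
    obtain ⟨x, hx⟩ := h.ne0
    have h1 := idx_le (H := cen (zpowers w) A4) (K := R0) hc
    rw [h.iY w hw hw3] at h1
    have h2 := h.bd x hx
    have h3 := Nat.pos_of_ne_zero (hk x)
    have h4 := Nat.pos_of_ne_zero hg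
    nlinarith
  have hzH : z ∉ cen A3 L := fun e => hw3 (stepa h nd e hz0 hw (mz.1 hz))
  obtain ⟨U, iU, rU, kU, mU⟩ := exU h hzH
  have hB : ∀ u ∈ U, ∀ w' ∈ A2, ⁅u, w'⁆ ∈ cen (zpowers z) L := fun u hu w' hw' =>
    sy (mz.2 (sy ((mU u).1 hu w' hw')))
  have hB' : ∀ b ∈ cen (zpowers z) L, ∀ x ∈ zpowers z, ⁅b, x⁆ ∈ L := fun b hb x hx => sy (hb x hx)
  by_cases hzU : z ∈ U
  · have hK := kU z hzU hz0
    obtain ⟨N, iN, mN⟩ := exN h z
    have hk2 : A3.relIndex (A2 ⊓ cen (zpowers z) A4) ≠ 1 := fun e =>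
      hw3 (relIndex_eq_one.1 e ⟨hw, mz.2 (sy (mz.1 hz))⟩)
    have hHN : ∀ x, ∀ y ∈ cen A3 L, ∀ w' ∈ A2, ⁅⁅w', x⁆, y⁆ ∈ L := fun x y hy w' hw' => hy _ (h.c3 w' (h.l0 hw') x)
    by_cases hu : ∃ u ∈ U, u ∈ cen A3 L ∧ u ∉ R0
    · obtain ⟨u, huU, huH, hu0⟩ := hu
      obtain ⟨N', iN', mN'⟩ := exN h u
      have k1 : A3.relIndex (A2 ⊓ cen (zpowers u) A4) = 1 :=
        relIndex_eq_one.2 fun a ha => stepa h nd huH hu0 ha.1 (sy (mz.1 ha.2))
      have hle : N ≤ N' := fun y hy => by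
        rw [mN']
        by_cases hyH : y ∈ cen A3 L
        · exact hHN u y hyH
        · obtain ⟨V, -, -, kV, mV⟩ := exU h hyH
          have hzV : z ∈ V := (mV z).2 ((mN y).1 hy)
          rw [← mV, ← kV z hzV hz0, hK]
          exact huU
      have h1 := idx_le hle
      rw [k1, one_mul] at iN'
      have h2 : 2 ≤ A3.relIndex (A2 ⊓ cen (zpowers z) A4) := by have := hk z; omega
      have h3 := Nat.pos_of_ne_zero hw0
      nlinarith
    · push Not at hu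
      have := nrm h rU
      have hUN : U ≤ N := fun u hu => (mN u).2 fun w' hw' => by
        refine three (X := A2) (Y := zpowers z) (Z := U) (B := A3) (C := cen (zpowers z) L) ?_ ?_ hB hB' hw'
          (mem_zpowers z) hu
        · exact fun y hy v hv => (hK ▸ hv : v ∈ cen (zpowers z) A3) y hy
        · exact fun b hb x hx => sy (h.c5' x (h.l0 hx) b hb)
      have h1 := idx U (cen A3 L)
      have h2 : R0.index ≤ (U ⊓ cen A3 L).index := idx_le fun a ha => hu a ha.1 ha.2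
      have h3 : N.index ≤ (cen A3 L ⊔ U).index := idx_le (sup_le (fun y hy => (mN y).2 (hHN z y hy)) hUN)
      have h4 := h.bd z hz0
      rw [iU, h.iH, ← iN] at h1
      have h5 := Nat.mul_le_mul (h4.trans h2) h3
      rw [h1] at h5
      have h6 : 0 < A3.relIndex (A2 ⊓ cen (zpowers z) A4) * N.index * A4.relIndex A3 :=
        Nat.mul_pos (Nat.mul_pos (Nat.pos_of_ne_zero (hk z)) (Nat.pos_of_ne_zero index_ne_zero_of_finite))
          (Nat.pos_of_ne_zero hg)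
      nlinarith
  · have : (cen (zpowers z) A3).Normal := nrm h fun x hx => mz.2 (sy (h.c3 x hx z))
    have h1 := idx (cen (zpowers z) A3) U
    have h2 : R0.index ≤ (cen (zpowers z) A3 ⊓ U).index := idx_le fun v hv => by
      by_contra hv0
      exact hzU (kU v hv.2 hv0 ▸ mz.2 (sy (mz.1 hv.1)))
    rw [h.iK z hz0, iU] at h1
    rw [h.sq] at h2
    have h3 : (U ⊔ cen (zpowers z) A3).index = 1 := by
      have h4 : (U ⊔ cen (zpowers z) A3).index ≠ 0 := index_ne_zero_of_finite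
      have h5 := Nat.pos_of_ne_zero hw0
      by_contra h6
      have h7 : 2 ≤ (U ⊔ cen (zpowers z) A3).index := by omega
      have h8 := Nat.mul_le_mul h2 h7
      rw [h1] at h8
      nlinarith
    refine hw3 (nd w hw fun w' hw' => ?_)
    obtain ⟨y, rfl⟩ := h.cam z hz0 w' hw'
    obtain ⟨u, hu, k, hkK, rfl⟩ := mem_sup_of_normal_right.1 (index_eq_one.1 h3 ▸ mem_top y)
    rw [show ⁅z, u * k⁆ = ⁅z, u⁆ * (u * ⁅z, k⁆ * u⁻¹) by simp only [commutatorElement_def]; group]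
    refine sy (ml ?_ (sy (h.c5' w (h.l0 hw) _ (‹A3.Normal›.conj_mem _ (mz.1 hkK) u))))
    refine three (X := zpowers z) (Y := U) (Z := zpowers w) (B := cen (zpowers z) L) (C := A4) ?_ hB' ?_ ?_
      (mem_zpowers z) hu (mem_zpowers w)
    · exact fun v hv x hx => hB v hv x (zpowers_le.2 hw hx)
    · exact fun x hx v hv => (zpowers_le.2 hz hv) x hx
    · exact fun c hc v _ => h.c5 c hc v

end CL.ND4
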