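/-
Project ND4 (S4780): the group theoretic part of the reduction (job ND4-RED1, helper27).
-/
import Cfsg.Agent.ND4.Defs
import Cfsg.Agent.Even.Amb

set_option autoImplicit false

namespace CL.ND4

open Cfsg Subgroup CL.Grp CL.Char CL.Char.NDiv CL.Even
open scoped commutatorElement

universe u

namespace RED1x

variable {G : Type u} [Group G] [Finite G] {N R : Subgroup G} {r : ℕ}

theorem compl [hN : N.Normal] [Fact r.Prime] (h : HasNormalPComplement r N) :
    ∃ M : Subgroup G, M.Normal ∧ M ≤ N ∧ (Nat.card M).Coprime r ∧ ∃ k, M.relIndex N = r ^ k := by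
  obtain ⟨P, M, hM, hc⟩ := h
  obtain ⟨k, hk⟩ := IsPGroup.iff_card.1 P.2
  have h1 : M.index = r ^ k := by rw [← hk, hc.symm.index_eq_card]
  have h2 : (Nat.card M).Coprime r := by
    rw [← hc.index_eq_card]
    exact ((Nat.Prime.coprime_iff_not_dvd Fact.out).2 P.not_dvd_index).symm
  refine ⟨M.map N.subtype, ⟨?_⟩, map_subtype_le _, by rwa [card_map_of_injective N.subtype_injective], k, ?_⟩
  · rintro _ ⟨x, hx, rfl⟩ g
    refine ⟨⟨g * x * g⁻¹, hN.conj_mem _ x.2 g⟩, mem_of_pow_mem_of_coprime ?_ (M.pow_index_mem _), rfl⟩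
    rw [h1, ← orderOf_coe]
    change (orderOf (MulAut.conj g (x : G))).Coprime _
    rw [MulEquiv.orderOf_eq, orderOf_coe]
    exact ((h2.coprime_dvd_left (M.orderOf_dvd_natCard hx))).pow_right k
  · rw [relIndex, subgroupOf, comap_map_eq_self_of_injective N.subtype_injective, h1]

theorem frat [Fact r.Prime] {X M : Subgroup G} [X.Normal] (hR : IsSylowIn r R X)
    (h : ∀ x ∈ X, ∃ m ∈ M, ∃ s ∈ R, x = m * s) (g : G) : ∃ m ∈ M, ∃ u ∈ 𝒩(R), g = m * u := by
  obtain ⟨n, hn, h1⟩ := hR.frattini (H := ⊤) le_normalizer_of_normal (mem_top g)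
  obtain ⟨m, hm, s, hs, e⟩ := h _ (inv_mem hn)
  exact ⟨m, hm, s * (n * g), mul_mem (le_normalizer hs) h1, by rw [← mul_assoc, ← e, inv_mul_cancel_left]⟩

end RED1x

open RED1x in
theorem red1 : RED1.{u} := by
  intro G _ _ N K R hN r _ nd F hR hn
  haveI : Fact r.Prime := ⟨F.hq⟩
  have h1 : ∀ e ∈ cdSet N, e ≠ 1 → r ∣ e := fun e he e1 => (F.deg e he).resolve_left fun h2 =>
    e1 (Nat.eq_of_mul_eq_mul_left (Nat.pos_of_ne_zero index_ne_zero_of_finite)
      ((mul_one _).trans (nd _ F.mem _ h2 F.one (dvd_mul_right _ _)))).symm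
  obtain ⟨M, hM, hMN, cM, k, hk⟩ := compl (thompson_of_cdSet h1)
  have dec := fun x (hx : x ∈ N) => hR.exists_mul_eq_of_relIndex_pow hk hx
  have f1 := frat hR dec
  have nrm : ∀ {X : Subgroup G}, M ≤ 𝒩(X) → 𝒩(R) ≤ 𝒩(X) → X.Normal := fun a b =>
    normalizer_eq_top_iff.1 (eq_top_iff.2 fun g _ => by
      obtain ⟨m, hm, u, hu, rfl⟩ := f1 g
      exact mul_mem (a hm) (b hu))
  haveI n1 : (⁅M, R⁆ : Subgroup G).Normal :=
    nrm (normalizer_commutator_ge_left M R) (le_norm_commutator le_normalizer_of_normal le_rfl)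
  haveI n2 : (⁅M, R⁆ ⊔ R : Subgroup G).Normal := nrm (le_norm_of_cj_le fun m hm => by
    rw [cj_sup]
    refine sup_le ((cj_eq (le_normalizer_of_normal (mem_top m))).le.trans le_sup_left) ?_
    rintro _ ⟨x, hx, rfl⟩
    simpa [commutatorElement_def] using mul_mem_sup (commutator_mem_commutator hm hx) hx)
    (le_norm_sup le_normalizer_of_normal le_rfl)
  have l1 : ⁅M, R⁆ ≤ M := commutator_le_left M R
  have l2 : ⁅M, R⁆ ⊔ R ≤ N := sup_le (l1.trans hMN) hR.le
  have d2 : ∀ x ∈ ⁅M, R⁆ ⊔ R, ∃ m ∈ ⁅M, R⁆, ∃ s ∈ R, x = m * s := fun x hx => by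
    obtain ⟨a, ha, b, hb, e⟩ := (mem_sup_nl le_normalizer_of_normal).1 hx
    exact ⟨a, ha, b, hb, e.symm⟩
  refine ⟨M, F.hq, hR.isPGroup, hM, cM, le_antisymm (fun x hx => ?_) (sup_le hR.le hMN), n1,
    fun e => hn (nrm ((commutator_eq_bot_iff'.1 (by rwa [commutator_comm])).trans (cent_le_norm R)) le_rfl),
    commutator_le.2 fun a ha b hb => ?_, frat (hR.of_le le_sup_right l2) d2⟩
  · obtain ⟨m, hm, s, hs, rfl⟩ := dec x hx
    exact mul_mem (mem_sup_right hm) (mem_sup_left hs)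
  · have cm := (comm_iff_cdSet_subset (G := N ⧸ (⁅M, R⁆ ⊔ R).subgroupOf N)).2 fun d hd => by_contra fun d1 =>
      hR.not_dvd_relIndex_of_le le_sup_right l2
        ((h1 d (cdSet_quotient_subset _ hd) d1).trans (dvd_card_of_mem_cdSet hd))
    have h2 : ⁅(⟨a, hMN ha⟩ : N), ⟨b, hMN hb⟩⁆ ∈ (⁅M, R⁆ ⊔ R).subgroupOf N := by
      rw [← QuotientGroup.eq_one_iff, ← QuotientGroup.mk'_apply, map_commutatorElement,
        commutatorElement_eq_one_iff_mul_comm]
      exact cm _ _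
    obtain ⟨m, hm, s, hs, e⟩ := d2 ⁅a, b⁆ h2
    have h3 : s ∈ M := by
      rw [← inv_mul_eq_iff_eq_mul.2 e]
      exact mul_mem (inv_mem (l1 hm)) (commutator_le_left M M (commutator_mem_commutator ha hb))
    rw [e, eq_one_of_coprime_of_mem hR.isPGroup (cM.coprime_dvd_left (M.orderOf_dvd_natCard h3)) hs, mul_one]
    exact hm

end CL.ND4
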