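/-
Project ND4 (S4780): the module of linear characters of `⁅M, R⁆`.
-/
import Cfsg.Agent.ND4.Defs
import Cfsg.Agent.Grp.Coprime

set_option autoImplicit false
set_option linter.unusedSectionVars false

namespace CL.ND4

open Cfsg Subgroup CL.Grp CL.Char CL.Char.NDiv CL.Char.RelDeg CL.Char.Palfy CL.Grp.Homog
open scoped commutatorElement

universe u

namespace RED2x

variable {G : Type u} [Group G] [Finite G] {D R : Subgroup G} [hD : D.Normal] {r : ℕ}

theorem fixR (h : ⁅D, R⁆ = D) {l : Lin D} (hl : ∀ x ∈ R, x • l = l) : l = 1 := by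
  have k : ⁅D, R⁆ ≤ l.h.ker.map D.subtype := commutator_le.2 fun d hd x hx => by
    have m : ⁅d, x⁆ ∈ D := h.le (commutator_mem_commutator hd hx)
    have m' : ⁅x, d⁆ ∈ D := by rw [← commutatorElement_inv]; exact inv_mem m
    refine ⟨⟨_, m⟩, MonoidHom.mem_ker.2 ?_, rfl⟩
    rw [← ev_of l m, b_symm m', b_D (hl x hx) hd, inv_one]
  refine lin_one fun w hw => ?_
  obtain ⟨y, hy, rfl⟩ := k (h.ge hw)
  exact (ev_coe l y).trans hy

theorem dvd (hr : r.Prime) (pR : IsPGroup r R) (h : ⁅D, R⁆ = D) {l : Lin D} (hl : l ≠ 1) :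
    r ∣ (MulAction.stabilizer G l).index := by
  have := Fact.mk hr
  by_contra hn
  obtain ⟨q, hq⟩ := pR.nonempty_fixed_point_of_prime_not_dvd_card (G ⧸ MulAction.stabilizer G l) hn
  obtain ⟨g, rfl⟩ := QuotientGroup.mk_surjective q
  have k : g • l = 1 := fixR h fun x hx => by
    have e : ((x * g : G) : G ⧸ MulAction.stabilizer G l) = g := hq ⟨x, hx⟩
    have e' : (g⁻¹ * (x * g)) • l = l := QuotientGroup.eq.1 e.symm
    rwa [mul_smul, inv_smul_eq_iff, mul_smul] at e'
  exact hl (by rw [← inv_smul_smul g l, k, smul_one])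

theorem cent (h : ⁅D, R⁆ = D) (hc : (Nat.card R).Coprime (Nat.card D)) (l : Lin D) {c : G} (h1 : c ∈ D)
    (h2 : c ∈ centralizer (R : Set G)) : ev l c = 1 := by
  have := Fintype.ofFinite R
  have k : ∏ x : R, (x : G) • l = 1 := fixR h fun y hy => by
    rw [Finset.smul_prod']
    exact Fintype.prod_equiv (Equiv.mulLeft (⟨y, hy⟩ : R)) _ _ fun x => (mul_smul y (x : G) l).symm
  have k1 : ev l c ^ Nat.card R = 1 := by
    have e := congrArg (evh D c) k
    rw [map_prod, map_one, Finset.prod_congr rfl (g := fun _ => ev l c) fun x _ => by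
      show ev ((x : G) • l) c = _
      rw [ev_smul, mul_assoc, ← h2 x x.2, inv_mul_cancel_left], Finset.prod_const, Finset.card_univ] at e
    rwa [Nat.card_eq_fintype_card]
  have k2 : ev l c ^ Nat.card D = 1 := by rw [ev_of l h1, ← map_pow, pow_card_eq_one', map_one]
  exact (pow_eq_one_iff_of_coprime hc).1 ⟨k1, k2⟩

theorem ext (h : ⁅D, R⁆ = D) (hc : (Nat.card R).Coprime (Nat.card D))
    (fr : ∀ g : G, ∃ m ∈ D, ∃ v ∈ normalizer (R : Set G), g = m * v) (l : Lin D) :
    ∃ μ : MulAction.stabilizer G l →* ℂˣ, ∀ (n : D) (hn : (n : G) ∈ MulAction.stabilizer G l), μ ⟨n, hn⟩ = l.h n := by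
  choose f hf v hv e using fr
  have wd : ∀ g, ∀ m ∈ D, ∀ w ∈ normalizer (R : Set G), g = m * w → ev l (f g) = ev l m := fun g m hm w hw e' => by
    have k : m⁻¹ * f g = w * (v g)⁻¹ := by
      rw [inv_mul_eq_iff_eq_mul, ← mul_assoc, ← e', eq_mul_inv_iff_mul_eq, ← e]
    have k' := cent h hc l (mul_mem (inv_mem hm) (hf g)) (mem_centralizer_of_mem_normalizer_of_disjoint
      (le_normalizer_of_normal) (disjoint_of_coprime_natCard hc) (mul_mem (inv_mem hm) (hf g))
      (k ▸ mul_mem hw (inv_mem (hv g))))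
    rwa [ev_mul l (inv_mem hm) (hf g), ev_inv l hm, inv_mul_eq_one, eq_comm] at k'
  refine ⟨MonoidHom.mk' (fun t => ev l (f t)) fun a b => ?_, fun n hn => ?_⟩
  · have k : v a ∈ MulAction.stabilizer G l := by
      rw [show v a = (f a)⁻¹ * a by rw [eq_inv_mul_iff_mul_eq, ← e]]
      exact mul_mem (inv_mem (smul_of_mem (hf a) l)) a.2
    have m := hD.conj_mem _ (hf b) (v a)
    rw [wd _ _ (mul_mem (hf a) m) _ (mul_mem (hv a) (hv b)) (by
      rw [Subgroup.coe_mul]
      calc (a : G) * b = f a * v a * (f b * v b) := by rw [← e, ← e]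
        _ = _ := by group), ev_mul l (hf a) m, ev_conj k]
  · exact (wd n n n.2 1 (one_mem _) (mul_one _).symm).trans (ev_coe l n)

theorem key {l : Lin D} (μ : MulAction.stabilizer G l →* ℂˣ)
    (hμ : ∀ (n : D) (hn : (n : G) ∈ MulAction.stabilizer G l), μ ⟨n, hn⟩ = l.h n)
    {β : MulAction.stabilizer G l → ℂ} (hβ : IsIrrCharacter _ β) (h3 : D.subgroupOf _ ≤ charKer β) :
    (MulAction.stabilizer G l).index * charDegree β ∈ cdSet G := by
  have := Fintype.ofFinite G
  have := Fintype.ofFinite D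
  have hT : D ≤ MulAction.stabilizer G l := fun n hn => smul_of_mem hn l
  have h6 := isIrrCharacter_monoidHom ((Units.coeHom ℂ).comp μ)
  have h9 := gallagher_irr h6.isCharacter (isIrrCharacter_monoidHom (((Units.coeHom ℂ).comp μ).comp
    (D.subgroupOf (MulAction.stabilizer G l)).subtype)) hβ h3
  have h10 := (clifford_corr_inertia (irr_lin l) (inertia_lin l).symm hT h9 (by
    rw [show (fun n : D => (β * ⇑((Units.coeHom ℂ).comp μ)) ⟨n, hT n.2⟩) = β 1 • tw l 1 from funext fun n => by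
      rw [Pi.mul_apply, apply_eq_one_of_mem_charKer (h3 (mem_subgroupOf.2 n.2)), MonoidHom.comp_apply, hμ]
      simp [tw], classInner_smul_left, (irr_lin l).classInner_self, mul_one]
    exact hβ.one_ne_zero)).1.charDegree_mem_cdSet
  rwa [charDegree_indFun h9.isCharacter, charDegree_mul hβ.isCharacter h6.isCharacter,
    show charDegree ⇑((Units.coeHom ℂ).comp μ) = 1 from charDegree_eq_of_eq (by simp), mul_one] at h10

end RED2x

open RED2x in
theorem red2 : RED2.{u} := by
  intro G _ _ N R M r hs nd h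
  have := Fact.mk h.hr
  have := h.nM
  have := h.n1
  obtain ⟨k, hk⟩ := IsPGroup.iff_card.1 h.pR
  have cM : (Nat.card R).Coprime (Nat.card M) := hk ▸ h.cM.symm.pow_left k
  have hDM : (⁅M, R⁆ : Subgroup G) ≤ M := commutator_le_left M R
  have hc := cM.coprime_dvd_right (card_dvd_of_le hDM)
  have hD := commutator_commutator_eq (A := R) (K := M) le_normalizer_of_normal cM (.inl inferInstance)
  have ne : (⊤ : Subgroup (Lin (⁅M, R⁆ : Subgroup G))) ≠ ⊥ := fun e => by
    obtain ⟨x, hx, hx'⟩ := SetLike.exists_of_lt (Group.IsSolvable.commutator_lt_of_ne_bot h.ne)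
    obtain ⟨l, -, hl⟩ := exists_trv le_rfl hx hx'
    exact hl (by rw [mem_bot.1 (e.le (mem_top l)), ev_lone])
  obtain ⟨V, ⟨hV, V0⟩, hm⟩ := wellFounded_lt.has_min {V : Subgroup (Lin (⁅M, R⁆ : Subgroup G)) | RelDeg.Inv V ∧ V ≠ ⊥}
    ⟨⊤, fun _ _ _ => trivial, ne⟩
  letI := actV hV
  have st : ∀ w : V, MulAction.stabilizer G w = MulAction.stabilizer G w.1 := fun w =>
    Subgroup.ext fun g => Subtype.ext_iff
  have n1 : ∀ {w : V}, w ≠ 1 → w.1 ≠ 1 := fun hw e => hw (Subtype.ext e)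
  have mem : ∀ l : Lin (⁅M, R⁆ : Subgroup G), (MulAction.stabilizer G l).index ∈ cdSet G := fun l => by
    obtain ⟨μ, hμ⟩ := ext hD hc h.fr l
    have := key μ hμ isIrrCharacter_one fun _ _ _ => rfl
    rwa [show charDegree (fun _ : MulAction.stabilizer G l => (1 : ℂ)) = 1 from charDegree_eq_of_eq (by simp),
      mul_one] at this
  refine ⟨V, inferInstance, inferInstance, actV hV, (nontrivial_iff_ne_bot V).2 V0, fun U hU => ?_,
    fun m hm w => Subtype.ext (smul_of_mem hm w.1), fun w hw a b ha hb => ?_, fun w _ => st w ▸ mem w.1,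
    fun w hw => st w ▸ dvd h.hr h.pR hD (n1 hw)⟩
  · refine or_iff_not_imp_left.2 fun U0 => ?_
    have k : U.map V.subtype = V := (map_subtype_le U).eq_of_not_lt (hm _ ⟨?_, fun e =>
      U0 ((map_eq_bot_iff_of_injective _ V.subtype_injective).1 e)⟩)
    · exact map_injective V.subtype_injective (by rw [k, ← MonoidHom.range_eq_map, range_subtype])
    · rintro g _ ⟨v, hv, rfl⟩
      exact ⟨_, hU g v hv, rfl⟩
  · by_contra hn
    obtain ⟨μ, hμ⟩ := ext hD hc h.fr w.1
    have ha' : a ∈ MulAction.stabilizer G w.1 := congrArg Subtype.val ha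
    have hb' : b ∈ MulAction.stabilizer G w.1 := congrArg Subtype.val hb
    obtain ⟨β, hβ, h1, h2⟩ := exists_irr_le_charKer_not_mem
      ((⁅M, R⁆ : Subgroup G).subgroupOf (MulAction.stabilizer G w.1)) 
      (g := ⁅(⟨a, ha'⟩ : MulAction.stabilizer G w.1), (⟨b, hb'⟩ : MulAction.stabilizer G w.1)⁆) hn
    have e := nd _ (mem w.1) _ (key μ hμ hβ h1)
      (fun e => h.hr.one_lt.ne' (Nat.dvd_one.1 (e ▸ dvd h.hr h.pR hD (n1 hw)))) (dvd_mul_right _ _)
    have e1 : charDegree β = 1 := (Nat.eq_of_mul_eq_mul_left (Nat.pos_of_ne_zero index_ne_zero_of_finite)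
      ((mul_one _).trans e)).symm
    exact h2 (commutator_le_charKer_of_one_eq_one hβ.isCharacter (hβ.isCharacter.charDegree_eq_one_iff.1 e1)
      (commutator_mem_commutator (mem_top _) (mem_top _)))

end CL.ND4
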