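/-
Project ND4 (S4780): passage to the group induced on the module.
-/
import Cfsg.Agent.ND4.Defs

set_option autoImplicit false

namespace CL.ND4

open Cfsg Subgroup CL.Grp CL.Char CL.Char.NDiv CL.Char.RelDeg CL.Char.Palfy CL.Grp.Homog
open scoped commutatorElement

universe u

namespace RED3x

theorem card_pow {G W : Type u} [Group G] [CommGroup W] [Finite W] [MulDistribMulAction G W] [Nontrivial W]
    (irr : ∀ U : Subgroup W, (∀ a : G, ∀ v ∈ U, a • v ∈ U) → U = ⊥ ∨ U = ⊤) :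
    ∃ q n : ℕ, q.Prime ∧ Nat.card W = q ^ n ∧ 0 < n := by
  have h1 : Nat.card W ≠ 1 := Finite.one_lt_card.ne'
  obtain ⟨q, hq, hd⟩ := Nat.exists_prime_and_dvd h1
  have := Fact.mk hq
  obtain ⟨x, hx⟩ := exists_prime_orderOf_dvd_card' q hd
  have hx1 : x ≠ 1 := fun e => hq.one_lt.ne (by rw [← hx, e, orderOf_one])
  have h2 := (irr (powMonoidHom q : W →* W).ker fun a v hv => by
    rw [MonoidHom.mem_ker, powMonoidHom_apply] at hv ⊢
    rw [← smul_pow', hv, smul_one]).resolve_left fun e => hx1 ((eq_bot_iff_forall _).1 e x (by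
      rw [MonoidHom.mem_ker, powMonoidHom_apply, ← hx, pow_orderOf_eq_one]))
  have h3 : IsPGroup q W := fun v => ⟨1, by rw [pow_one]; exact (h2.ge (mem_top v) : v ∈ (powMonoidHom q : W →* W).ker)⟩
  obtain ⟨n, hn⟩ := IsPGroup.iff_card.1 h3
  exact ⟨q, n, hq, hn, Nat.pos_of_ne_zero fun e => h1 (by rw [hn, e, pow_zero])⟩

end RED3x

theorem red3 : RED3.{u} := by
  intro G _ _ N K R M hN r W _ _ _ hs nd F ⟨c, hc⟩ g k
  have hf : Function.Surjective (im W : G → Im G W) := im_surj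
  obtain ⟨φ, hφ, hK, hd⟩ := F.ch
  have nK : K.Normal := hK ▸ hφ.charKer_normal
  have RN : R ≤ N := g.sup ▸ le_sup_left
  have MN : M ≤ N := g.sup ▸ le_sup_right
  have M1K : ⁅M, R⁆ ≤ K := commutator_le.2 fun a ha b hb => F.nk a (MN ha) b (RN hb)
  have kC : ∀ x : G, im W x = 1 ↔ ∀ w : W, x • w = w :=
    fun x => ⟨fun e w => by rw [← im_smul, e, one_smul], fun e => im_faith _ e⟩
  have M1C : ∀ m ∈ (⁅M, R⁆ : Subgroup G), im W m = 1 := fun m hm => (kC m).2 (k.triv m hm)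
  have := k.ntr
  obtain ⟨w0, hw0⟩ := exists_ne (1 : W)
  obtain ⟨y, y1, y2⟩ : ∃ y, y • w0 = w0 ∧ y ∉ N := by
    by_contra! h
    exact F.nd (nd _ F.mem _ (k.mem w0 hw0) F.one (index_dvd_of_le fun y hy => h y hy) ▸ k.fr w0 hw0)
  have CK0 : ∀ x ∈ N, im W x = 1 → x ∈ K := fun x hx e => F.fp y y2 x hx (M1K (k.ab w0 hw0 y x y1 ((kC x).1 e w0)))
  have cN : ∀ a : G, ∀ x ∈ N, ⁅a, x⁆ ∈ N := fun a x hx => mul_mem (hN.conj_mem x hx a) (inv_mem hx)
  have CK : (im W : G →* Im G W).ker ≤ K := fun x e => by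
    by_cases hx : x ∈ N
    · exact CK0 x hx e
    · obtain ⟨z, z1, z2⟩ := F.ex
      refine absurd (F.fp x hx z z1 (CK0 _ (cN x z z1) ?_)) z2
      rw [map_commutatorElement, MonoidHom.mem_ker.1 e, commutatorElement_one_left]
  have KN : K ≤ N := F.eq ▸ le_sup_right
  have hi : (N.map (im W)).index = N.index := index_map_eq N hf (CK.trans KN)
  have sub := cdSet_subset_of_surjective (im W : G →* Im G W) hf
  obtain ⟨q, n, hq, hn, h0⟩ := RED3x.card_pow k.irr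
  refine ⟨hi, q, n, ⟨Group.isSolvable_of_surjective hf, im_faith, fun U hU => k.irr U fun a => hU (im W a), hq, hn, h0⟩,
    fun a ha b hb => nd a (sub ha) b (sub hb), g.hr, hN.map _ hf, ⟨?_⟩, g.nM.map _ hf, g.pR.map _,
    g.cM.coprime_dvd_left (card_map_dvd _ _), ?_, by rw [g.sup, Subgroup.map_sup], ⟨im W c, fun a => ?_⟩, hi ▸ F.one, ?_,
    hi ▸ F.nd, fun a ha => ?_, fun w hw a b ha hb => ?_, fun w hw d d1 d2 d3 => ?_, fun w w' hw hw' => ?_,
    fun w hw => index_im (H := G) w ▸ k.fr w hw⟩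
  · rintro _ ⟨x, hx, rfl⟩ a
    obtain ⟨a, rfl⟩ := hf a
    obtain ⟨m, hm, v, hv, rfl⟩ := g.fr a
    exact ⟨v * x * v⁻¹, (mem_normalizer_iff.1 hv x).1 hx, by rw [map_mul, map_mul, map_mul, map_inv, M1C m hm, one_mul]⟩
  · rintro _ ⟨a, ha, rfl⟩ _ ⟨b, hb, rfl⟩
    rw [← commutatorElement_eq_one_iff_mul_comm, ← map_commutatorElement]
    exact M1C _ (g.mm (commutator_mem_commutator ha hb))
  · obtain ⟨a, rfl⟩ := hf a
    obtain ⟨j, hj⟩ := hc a
    exact ⟨j, _, hj, by rw [map_mul, map_inv, map_zpow]⟩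
  · obtain ⟨ψ, hψ, e⟩ := hφ.exists_comp_eq (im W) hf (hK ▸ CK)
    rw [hi, ← hd, e, charDegree_comp]
    exact hψ.charDegree_mem_cdSet
  · obtain ⟨a, rfl⟩ := hf a
    have ha' : a ∉ N := fun e => ha ⟨a, e, rfl⟩
    obtain ⟨x, x1, x2⟩ : ∃ x ∈ R, x ∉ K := by
      by_contra! h
      obtain ⟨z, z1, z2⟩ := F.ex
      refine z2 ((g.sup ▸ sup_le h fun m hm => mem_of_cop g.cM ?_ (F.pw m (MN hm)) : N ≤ K) z1)
      rw [show m ^ Nat.card M = 1 from congrArg Subtype.val (pow_card_eq_one' (x := (⟨m, hm⟩ : M)))]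
      exact one_mem K
    have h1 : ⁅x, a⁆ ∈ N := by rw [← commutatorElement_inv]; exact inv_mem (cN a x (RN x1))
    refine ⟨im W ⁅x, a⁆, map_commutatorElement (im W) x a ▸ commutator_mem_commutator ⟨x, x1, rfl⟩ (mem_top _),
      fun e => x2 (F.fp a ha' x (RN x1) ?_)⟩
    rw [← commutatorElement_inv]
    refine inv_mem (F.fp a ha' _ h1 (CK ?_))
    rw [MonoidHom.mem_ker, map_commutatorElement, commutatorElement_eq_one_iff_mul_comm, e]
  · obtain ⟨a, rfl⟩ := hf a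
    obtain ⟨b, rfl⟩ := hf b
    rw [← commutatorElement_eq_one_iff_mul_comm, ← map_commutatorElement]
    exact M1C _ (k.ab w hw a b ha hb)
  · rw [← index_im] at d3 ⊢
    exact nd d (sub d1) _ (k.mem w hw) d2 d3
  · rw [← index_im, ← index_im]
    exact nd _ (k.mem w hw) _ (k.mem w' hw') fun e => g.hr.one_lt.ne' (Nat.dvd_one.1 (e ▸ k.fr w hw))

end CL.ND4
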