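/-
Project ND4: the case of a normal Sylow subgroup of the Frobenius kernel.
-/
import Cfsg.Agent.ND4.Defs

set_option autoImplicit false

namespace CL.ND4

open Cfsg Subgroup CL.Grp CL.Char CL.Char.NDiv CL.Char.RelDeg
open scoped commutatorElement

universe u

namespace SPLx

variable {X : Type u} [Group X] [Finite X]

/-- a non-abelian factor group has a nonlinear character -/
theorem exists_infl (A : Subgroup X) [A.Normal] (h : ¬ ∀ a b : X, ⁅a, b⁆ ∈ A) :
    ∃ ψ : X → ℂ, IsIrrCharacter X ψ ∧ charDegree ψ ≠ 1 ∧ charDegree ψ ∣ A.index ∧ ∀ a ∈ A, ψ a = ψ 1 := by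
  obtain ⟨χ, hχ, h1⟩ := exists_irr_charDegree_ne_one (G := X ⧸ A) fun e => h fun a b => by
    rw [← QuotientGroup.eq_one_iff, ← QuotientGroup.mk'_apply, map_commutatorElement,
      commutatorElement_eq_one_iff_mul_comm]
    exact e _ _
  have e : charDegree (fun x : X => χ (QuotientGroup.mk' A x)) = charDegree χ := charDegree_congr (by simp)
  refine ⟨_, hχ.comp_of_surjective _ (QuotientGroup.mk'_surjective A), e ▸ h1, e ▸ hχ.charDegree_dvd_card,
    fun a ha => ?_⟩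
  simp only [QuotientGroup.mk'_apply, (QuotientGroup.eq_one_iff a).2 ha, QuotientGroup.mk_one]

omit [Finite X] in
theorem cyc {N R : Subgroup X} [R.Normal] {c : X} (hc : ∀ g : X, ∃ k : ℤ, (c ^ k)⁻¹ * g ∈ N)
    (h : ∀ g : X, ∀ n ∈ N, ⁅g, n⁆ ∈ R) : commutator X ≤ R := by
  refine (commutator_le (H₃ := R)).2 fun a _ b _ => ?_
  have k : ∀ g : X, ∀ n ∈ N, Commute (QuotientGroup.mk' R g) (QuotientGroup.mk' R n) := fun g n hn => by
    rw [← commutatorElement_eq_one_iff_commute, ← map_commutatorElement, QuotientGroup.mk'_apply,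
      QuotientGroup.eq_one_iff]
    exact h g n hn
  obtain ⟨i, hi⟩ := hc a
  obtain ⟨j, hj⟩ := hc b
  rw [← QuotientGroup.eq_one_iff, ← QuotientGroup.mk'_apply, map_commutatorElement,
    commutatorElement_eq_one_iff_commute, ← mul_inv_cancel_left (c ^ j) b, map_mul]
  refine Commute.mul_right ?_ (k _ _ hj)
  rw [← mul_inv_cancel_left (c ^ i) a, map_mul]
  refine Commute.mul_left ?_ (k _ _ hi).symm
  rw [map_zpow, map_zpow]
  exact (Commute.refl _).zpow_zpow i j

end SPLx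

theorem spl : SPL.{u} := by
  intro G _ _ N K R hN hR r nd F ⟨c, hc⟩ hS
  haveI := Fact.mk F.hq
  haveI := Fintype.ofFinite G
  haveI := Fintype.ofFinite N
  have h1 : ∀ e ∈ cdSet N, e ≠ 1 → r ∣ e := fun e he e1 => (F.deg e he).resolve_left fun h2 =>
    e1 (Nat.eq_of_mul_eq_mul_left (Nat.pos_of_ne_zero index_ne_zero_of_finite)
      ((mul_one _).trans (nd _ F.mem _ h2 F.one (dvd_mul_right _ _)))).symm
  have h2 : ∀ a b : N, ⁅a, b⁆ ∈ R.subgroupOf N := by
    by_contra e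
    obtain ⟨ψ, hψ, d1, d2, -⟩ := SPLx.exists_infl _ e
    exact hS.not_dvd ((h1 _ hψ.charDegree_mem_cdSet d1).trans d2)
  have h3 : ⁅N, N⁆ ≤ R := commutator_le.2 fun a ha b hb => h2 ⟨a, ha⟩ ⟨b, hb⟩
  obtain ⟨P, M, hM, hMP⟩ := thompson_of_cdSet h1
  have hP : (P : Subgroup N) = R.subgroupOf N := by
    haveI : (hS.toSylow : Subgroup N).Normal := by rw [hS.coe_toSylow]; infer_instance
    haveI := Sylow.unique_of_normal hS.toSylow this
    rw [Subsingleton.elim P hS.toSylow, hS.coe_toSylow]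
  have hcop : (Nat.card M).Coprime M.index := by
    obtain ⟨k, hk⟩ := P.isPGroup'.exists_card_eq
    rw [hMP.symm.index_eq_card, hk, ← hMP.index_eq_card]
    exact ((Nat.Prime.coprime_iff_not_dvd F.hq).2 P.not_dvd_index).symm.pow_right k
  have hMc : ∀ g : G, ∀ m ∈ M, (⟨g * m * g⁻¹, hN.conj_mem m m.2 g⟩ : N) ∈ M := fun g m hm => by
    refine mem_of_cop hcop ?_ (M.pow_index_mem _)
    have e : m ^ Nat.card M = 1 := congrArg Subtype.val (pow_card_eq_one' (x := (⟨m, hm⟩ : M)))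
    have : (⟨g * m * g⁻¹, hN.conj_mem m m.2 g⟩ : N) ^ Nat.card M = 1 := by
      apply Subtype.ext
      have e' : (m : G) ^ Nat.card M = 1 := congrArg Subtype.val e
      simp [e']
    rw [this]
    exact one_mem _
  by_cases hab : ∀ a b : N, ⁅a, b⁆ ∈ M
  · refine Or.inl fun a ha b hb => ?_
    have e : ⁅(⟨a, ha⟩ : N), (⟨b, hb⟩ : N)⁆ = 1 :=
      (disjoint_def.1 hMP.disjoint) (hab _ _) (hP ▸ h2 _ _)
    exact congrArg Subtype.val (commutatorElement_eq_one_iff_mul_comm.1 e)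
  right
  obtain ⟨ψ, hψ, d1, -, hk⟩ := SPLx.exists_infl M hab
  have h4 : ∀ l ∈ trv N R, ∀ g : G, g • l = l := fun l hl g => by
    rcases nd.reg F.mem (irr_lin l) (charDegree_eq_of_eq ((tw_apply_one l 1).trans Nat.cast_one.symm)) with e | e
    · rw [inertia_lin] at e
      exact MulAction.mem_stabilizer_iff.1 (e ▸ mem_top g)
    refine absurd ((charDegree_congr (tw_apply_one l ψ)).symm.trans
      (nd.lin F.mem F.one (irr_tw hψ l) (le_trans (b := inertia N (tw l 1)) (fun g hg n => ?_) e))) d1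
    obtain ⟨⟨m, x⟩, rfl⟩ := hMP.2 n
    have hx : ((x : N) : G) ∈ R := mem_subgroupOf.1 (hP ▸ x.2)
    have e1 := hg m
    simp only [tw, hk _ (hMc g m m.2), hk _ m.2] at e1
    have e2 := mul_right_cancel₀ hψ.one_ne_zero e1
    have e3 : l.h x = 1 := (ev_coe l x).symm.trans (hl _ hx)
    have e4 : l.h ⟨g * x * g⁻¹, hN.conj_mem _ (x : N).2 g⟩ = 1 :=
      (ev_of l (hN.conj_mem _ (x : N).2 g)).symm.trans (hl _ (hR.conj_mem _ hx g))
    have e5 : (⟨g * ((m : N) * (x : N) : N) * g⁻¹, hN.conj_mem _ ((m : N) * (x : N) : N).2 g⟩ : N) =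
        ⟨g * (m : N) * g⁻¹, hN.conj_mem _ (m : N).2 g⟩ * ⟨g * (x : N) * g⁻¹, hN.conj_mem _ (x : N).2 g⟩ :=
      Subtype.ext (by simp [mul_assoc])
    simp only [tw, e5, map_mul, e3, e4, mul_one, Pi.one_apply, e2]
  refine SPLx.cyc hc fun g n hn => ?_
  by_contra e
  have k : ⁅g, n⁆ ∈ N := by
    rw [commutatorElement_def]
    exact mul_mem (hN.conj_mem n hn g) (inv_mem hn)
  obtain ⟨l, l1, l2⟩ := exists_trv h3 k e
  apply l2
  rw [commutatorElement_def, ev_mul l (hN.conj_mem n hn g) (inv_mem hn), ev_conj (h4 l l1 g), ev_inv l hn,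
    mul_inv_cancel]

end CL.ND4
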