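/-
Project ND4: the case of a Frobenius layer of prime index.
-/
import Cfsg.Agent.ND4.Defs
import Cfsg.Agent.Char.DegTaketa

set_option autoImplicit false

namespace CL.ND4

open Cfsg Subgroup CL.Grp CL.Char CL.Char.NDiv CL.Char.RelDeg CL.Char.D4
open scoped commutatorElement

universe u

theorem tp3 : TP3.{u} := by
  intro G _ _ N K hN q hs nd F hf
  have h1 : ∀ e ∈ cdSet N, e ≠ 1 → q ∣ e := fun e he e1 => (F.deg e he).resolve_left fun h2 =>
    e1 (Nat.eq_of_mul_eq_mul_left (Nat.pos_of_ne_zero index_ne_zero_of_finite)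
      ((mul_one _).trans (nd _ F.mem _ h2 F.one (dvd_mul_right _ _)))).symm
  have h2 : ∀ d ∈ cdSet G, q ∣ d → d.Coprime N.index := fun d hd hq =>
    (hf.coprime_iff_not_dvd.2 fun e => F.nd (nd _ F.mem _ hd F.one e ▸ hq)).symm
  have h3 : ∀ k e, k ∣ N.index → e ∈ cdSet N → e ≠ 1 → k * e ∈ cdSet G → k = 1 := fun k e hk he e1 h =>
    Nat.eq_one_of_dvd_coprimes (h2 _ h ((h1 e he e1).mul_left k)) (dvd_mul_right k e) hk
  have h4 : ∀ e ∈ cdSet N, e ≠ 1 → e ∈ cdSet G := fun e he e1 => by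
    obtain ⟨k, hk, h⟩ := exists_dvd_of_mem_cdSet_normal he
    rwa [h3 k e hk he e1 h, one_mul] at h
  have h5 : ∀ d ∈ cdSet G, d ≠ 1 → d = N.index ∨ d ∈ cdSet N := fun d hd d1 => by
    obtain ⟨k, e, hk, he, rfl⟩ := exists_mem_cdSet_normal N hd
    by_cases e1 : e = 1
    · exact Or.inl (nd _ hd _ F.mem d1 (by rwa [e1, mul_one]))
    · exact Or.inr (by rwa [h3 k e hk he e1 hd, one_mul])
  have T : Tp N := fun χ hχ => by
    have := Fintype.ofFinite G
    have := Fintype.ofFinite N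
    obtain ⟨θ, hθ, hc⟩ := exists_irr_constituent_restrict N hχ
    by_cases e : charDegree θ = 1
    · exact Or.inl (comm_le_of_one hθ hχ hc (hθ.isCharacter.charDegree_eq_one_iff.1 e))
    have := h2 _ hχ.charDegree_mem_cdSet ((h1 _ hθ.charDegree_mem_cdSet e).trans (deg_dvd hχ hθ hc))
    exact Or.inr ⟨isIrrCharacter_restrict_of_coprime hχ hχ.cast_charDegree.symm this, this⟩
  have h6 := second hs F T fun a ha b hb a1 hab => nd a (h4 a ha a1) b (h4 b hb fun e =>
    a1 (Nat.dvd_one.1 (e ▸ hab))) a1 hab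
  obtain ⟨m, hm⟩ : ∃ m, ∀ d ∈ cdSet N, d = 1 ∨ d = m := by
    by_cases h : ∃ m ∈ cdSet N, m ≠ 1
    · obtain ⟨m, m1, m2⟩ := h
      exact ⟨m, fun d hd => or_iff_not_imp_left.2 fun d1 => h6 d hd m m1 d1 m2⟩
    · push Not at h
      exact ⟨1, fun d hd => Or.inl (h d hd)⟩
  refine ⟨(Finset.card_le_card (t := {1, N.index, m}) fun d hd => ?_).trans (Finset.card_le_three.trans (by norm_num)), ?_⟩
  · simp only [Finset.mem_insert, Finset.mem_singleton]
    exact or_iff_not_imp_left.2 fun d1 => (h5 d hd d1).imp_right fun e => (hm d e).resolve_left d1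
  · have e1 : derivedSeries G 1 ≤ N := by rw [derivedSeries_one, F.eq]; exact le_sup_left
    have e2 : (derivedSeries N 2).map N.subtype = ⁅⁅N, N⁆, ⁅N, N⁆⁆ := by
      rw [derivedSeries_succ, derivedSeries_one, map_commutator, map_subtype_commutator]
    rw [derivedSeries_two_eq_bot_of_cdSet hm, Subgroup.map_bot] at e2
    rw [eq_bot_iff, e2, derivedSeries_succ, derivedSeries_succ]
    exact commutator_mono (commutator_mono e1 e1) (commutator_mono e1 e1)

end CL.ND4
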