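/-
Project ND4: vanishing of characters by twisting with invariant linear characters.
-/
import Cfsg.Agent.ND4.Defs

set_option autoImplicit false

namespace CL.ND4

open Cfsg Subgroup CL.Grp CL.Char CL.Char.NDiv CL.Char.RelDeg CL.Char.Palfy CL.Grp.Homog
open scoped commutatorElement

universe u

namespace TWx

variable {G : Type u} [Group G]

theorem mem_of_div {V : Type*} [CommGroup V] [Finite V] [MulDistribMulAction G V] {A S : Subgroup V} (hS : S ≤ A)
    {g : G} (hg : ∀ s ∈ S, g • s ∈ S) (hf : ∀ l ∈ A, g • l = l → l = 1) {d : V} (hd : d ∈ A) (h : g • d / d ∈ S) :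
    d ∈ S := by
  have key : ∀ a ∈ A, ∀ b ∈ A, g • a / a = g • b / b → a = b := fun a ha b hb e => by
    refine div_eq_one.1 (hf _ (div_mem ha hb) ?_)
    rw [smul_div', div_eq_div_iff_mul_eq_mul, mul_comm a]
    exact div_eq_div_iff_mul_eq_mul.1 e
  have inj : Function.Injective fun s : S => (⟨g • s.1 / s.1, div_mem (hg _ s.2) s.2⟩ : S) := fun a b e =>
    Subtype.ext (key _ (hS a.2) _ (hS b.2) (congrArg Subtype.val e))
  obtain ⟨s, hs⟩ := Finite.injective_iff_surjective.1 inj ⟨_, h⟩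
  exact key _ (hS s.2) _ hd (congrArg Subtype.val hs) ▸ s.2

variable {X : Subgroup G}

theorem tw_cancel {l m : Lin X} {f : X → ℂ} (h : RelDeg.tw (l * m) f = RelDeg.tw m f) : RelDeg.tw l f = f := by
  have := congrArg (RelDeg.tw m⁻¹) h
  rwa [tw_tw, tw_tw, inv_mul_cancel, tw_one, mul_comm l, inv_mul_cancel_left] at this

/-- the members of `A` fixing `F` -/
def sig (A : Subgroup (Lin X)) (F : X → ℂ) : Subgroup (Lin X) where
  carrier := {m | m ∈ A ∧ RelDeg.tw m F = F}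
  one_mem' := ⟨one_mem _, tw_one F⟩
  mul_mem' := fun {a b} ha hb => ⟨mul_mem ha.1 hb.1, by rw [← tw_tw, hb.2, ha.2]⟩
  inv_mem' := fun {a} ha => ⟨inv_mem ha.1, tw_cancel (m := a) (by rw [inv_mul_cancel, tw_one, ha.2])⟩

variable [hX : X.Normal]

theorem sig_inv {A : Subgroup (Lin X)} (hA : RelDeg.Inv A) {F : X → ℂ} {g : G} {k : Lin X}
    (h : conjChar X g⁻¹ F = RelDeg.tw k F) : ∀ s ∈ sig A F, g • s ∈ sig A F := fun s hs => ⟨hA g s hs.1, by
  have := congrArg (conjChar X g⁻¹) hs.2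
  rw [conj_tw, h, tw_tw] at this
  exact tw_cancel this⟩

theorem core [Finite G] {A : Subgroup (Lin X)} (hA : RelDeg.Inv A) {F : X → ℂ} {n : Lin X} (hn : n ∈ A) {c c' : G}
    (hc : ∀ l ∈ A, c • l = l → l = 1) (hc' : ∀ l ∈ A, c' • l = l → l = 1) (h1 : c ∈ inertia X F)
    (h2 : c' ∈ inertia X (RelDeg.tw n F)) (h3 : (inertia X (RelDeg.tw n F)).Normal) : RelDeg.tw n F = F := by
  have h4 := mem_inertia_iff.1 (inv_mem (h3.conj_mem' _ h2 c))
  rw [mem_inertia'] at h1 h2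
  have h5 : conjChar X c'⁻¹ F = RelDeg.tw (n / c' • n) F := by
    rw [conj_tw] at h2
    have := congrArg (RelDeg.tw (c' • n)⁻¹) h2
    rwa [tw_tw, tw_tw, inv_mul_cancel, tw_one, mul_comm, ← div_eq_mul_inv] at this
  have h6 := congrArg (conjChar X c⁻¹) h4
  rw [← conjChar_mul, show (c⁻¹ * c' * c)⁻¹ * c⁻¹ = c⁻¹ * c'⁻¹ by group, conjChar_mul, conj_tw, h1, conj_tw, h5,
    tw_tw] at h6
  have hS : sig A F ≤ A := fun _ h => h.1
  have hd : c • n / n ∈ A := div_mem (hA c n hn) hn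
  have h7 : c • n / n ∈ sig A F := mem_of_div hS (sig_inv hA h5) hc' hd ⟨div_mem (hA _ _ hd) hd, tw_cancel (m := c • n) (by
    rw [← h6, smul_div']
    congr 1
    simp only [div_eq_mul_inv, mul_inv_rev, inv_inv, mul_assoc, mul_comm n, inv_mul_cancel_left])⟩
  exact (mem_of_div hS (sig_inv (k := 1) hA (by rw [h1, tw_one])) hc hn h7).2

variable (R : Subgroup G) [Fintype R]

/-- the sum of the conjugates under `R` -/
noncomputable def orb (f : X → ℂ) : X → ℂ := ∑ y : R, conjChar X (y : G) f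

variable {R}

theorem le_orb (f : X → ℂ) : R ≤ inertia X (orb R f) := fun r hr => by
  rw [mem_inertia_iff, orb, conjChar_sum]
  simp only [← conjChar_mul]
  exact Equiv.sum_comp (Equiv.mulRight (⟨r, hr⟩ : R)) fun y : R => conjChar X (y : G) f

theorem inertia_le_orb [R.Normal] (f : X → ℂ) : inertia X f ≤ inertia X (orb R f) := fun c hc => by
  rw [mem_inertia_iff, orb, conjChar_sum, ← Equiv.sum_comp (MulAut.conjNormal (H := R) c⁻¹).toEquiv
    fun y : R => conjChar X (y : G) f]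
  refine Finset.sum_congr rfl fun y _ => ?_
  conv_rhs => rw [← mem_inertia_iff.1 hc]
  rw [← conjChar_mul, ← conjChar_mul]
  congr 1
  simp [mul_assoc]

theorem orb_tw {l : Lin X} (hl : ∀ x ∈ R, x • l = l) (f : X → ℂ) :
    orb R (RelDeg.tw l f) = RelDeg.tw l (orb R f) := by
  have : ∀ y : R, conjChar X (y : G) (RelDeg.tw l f) = RelDeg.tw l (conjChar X (y : G) f) := fun y => by
    have := conj_tw (y : G)⁻¹ l f
    rwa [inv_inv, hl _ (inv_mem y.2)] at this
  ext n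
  simp only [orb, this, RelDeg.tw, Finset.sum_apply, Finset.mul_sum]

theorem under (hXR : X ≤ R) {ψ : R → ℂ} (hψ : IsIrrCharacter R ψ) : ∃ θ : X → ℂ, IsIrrCharacter X θ ∧
    (∃ a : ℂ, ∀ x : X, ψ ⟨x, hXR x.2⟩ = a * orb R θ x) ∧ ∀ x : X, ψ ⟨x, hXR x.2⟩ = ψ 1 → θ x = θ 1 := by
  have := Fintype.ofFinite (X.subgroupOf R)
  obtain ⟨θ, hθ, h⟩ := exists_irr_constituent_restrict (X.subgroupOf R) hψ
  refine ⟨fun x => θ ((subgroupOfEquivOfLe hXR).symm x), hθ.comp_mulEquiv _,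
    ⟨classInner (fun n : X.subgroupOf R => ψ n) θ * (Nat.card (inertia (X.subgroupOf R) θ) : ℂ)⁻¹, fun x => ?_⟩,
    fun x hx => ?_⟩
  · have h1 := congrFun (clifford hψ hθ h) ⟨⟨x, hXR x.2⟩, x.2⟩
    have h2 := congrFun (sum_conjChar θ fun φ => φ) ⟨⟨x, hXR x.2⟩, x.2⟩
    have h3 : orb R (fun x => θ ((subgroupOfEquivOfLe hXR).symm x)) x =
        (∑ g : R, conjChar (X.subgroupOf R) g θ) ⟨⟨x, hXR x.2⟩, x.2⟩ := by
      simp only [orb, Finset.sum_apply]
      exact Finset.sum_congr rfl fun y _ => rfl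
    rw [h3, h2, Pi.smul_apply, nsmul_eq_mul, mul_assoc, inv_mul_cancel_left₀ (Nat.cast_ne_zero.2 Nat.card_pos.ne')]
    exact h1
  · have := hθ.mem_charKer.1 ((hψ.isCharacter.restrict (X.subgroupOf R)).charKer_le_of_classInner_ne_zero hθ h
      (((hψ.isCharacter.restrict (X.subgroupOf R)).mem_charKer (g := ⟨⟨x, hXR x.2⟩, x.2⟩)).2 hx))
    show θ _ = θ _
    rw [map_one]
    exact this

end TWx

open TWx in
theorem tw : TW.{u} := by
  intro G _ _ R _ hG X K K' _ hK _ hXR hKX hK' A hA hR hT Y hY H ψ hψ n1 n2 x hx l hl h0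
  have := Fintype.ofFinite R
  have := Fintype.ofFinite X
  obtain ⟨θ, hθ, ⟨a, ha⟩, hb⟩ := under hXR hψ
  have k1 : ¬ Kr θ K := fun e => n1 fun k hk => hψ.mem_charKer.2 (by
    have hk : (k : G) ∈ K := hk
    refine (ha ⟨k, hKX hk⟩).trans (Eq.trans ?_ (ha 1).symm)
    simp only [orb, Finset.sum_apply, conjChar_apply_one]
    exact congrArg _ (Finset.sum_congr rfl fun y _ => hθ.mem_charKer.1 (e (hK.conj_mem _ hk y))))
  have k2 : Kr θ K' := fun k hk => hθ.mem_charKer.2 (hb k (hψ.mem_charKer.1 (n2 hk)))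
  have k3 : ∀ k : X, (k : G) ∈ K → RelDeg.tw l θ k = θ k := fun k hk => by
    rw [RelDeg.tw, ← ev_coe, hT l hl _ hk, Units.val_one, one_mul]
  have hθ' := irr_tw hθ l
  obtain ⟨c, c1, c2⟩ := SetLike.not_le_iff_exists.1 (H θ hθ k1 k2)
  obtain ⟨c', d1, d2⟩ := SetLike.not_le_iff_exists.1 (H _ hθ'
    (fun e => k1 fun k hk => hθ.mem_charKer.2 (by rw [← k3 k hk, hθ'.mem_charKer.1 (e hk), tw_apply_one]))
    fun k hk => hθ'.mem_charKer.2 (by rw [k3 k (hK' hk), hθ.mem_charKer.1 (k2 hk), tw_apply_one]))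
  have e := orb_tw (fun x hx => hR x hx l hl) θ
  have := congrFun (core hA hl (hY c c2) (hY c' d2) (inertia_le_orb (R := R) θ c1) (e ▸ inertia_le_orb _ d1)
    (e ▸ Normal.of_commutator_le _ (hG.trans (le_orb _)))) ⟨x, hx⟩
  rw [RelDeg.tw, ← ev_coe, mul_left_eq_self₀] at this
  refine (ha ⟨x, hx⟩).trans ?_
  rw [this.resolve_left fun e => h0 (Units.val_eq_one.1 e), mul_zero]

end CL.ND4
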