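/-
Project ND4 (S4780): assembly of the named steps.
-/
import Cfsg.Agent.ND4.Defs

set_option autoImplicit false

namespace CL.ND4

open Cfsg Subgroup CL.Grp CL.Char CL.Char.NDiv CL.Char.RelDeg CL.Char.Palfy CL.Grp.Homog
open scoped commutatorElement

universe u

theorem nc4_of (a : PUA.{u}) (bs : BEIS.{u}) (b : PUB.{u}) (c : PUC.{u}) : NC4.{u} := by
  intro P _ _ R0 A2 A3 A4 L κ h
  have key : ∀ X : Subgroup P, (∀ x ∈ X, ∀ y : P, ⁅x, y⁆ ∈ X) → X.Normal := fun X hX =>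
    ⟨fun x hx y => by
      rw [show y * x * y⁻¹ = ⁅x, y⁆⁻¹ * x by simp only [commutatorElement_def]; group]
      exact mul_mem (inv_mem (hX x hx y)) hx⟩
  have := key A3 fun x hx y => h.l3 (h.c4 x hx y)
  have := key A4 fun x hx y => h.l4 (h.c5 x hx y)
  have := key L fun x hx y => h.c5 x (h.l4 hx) y
  have h' := a bs P R0 A2 A3 A4 L κ h
  exact c P R0 A2 A3 A4 L κ h' (b P R0 A2 A3 A4 L κ h')

theorem lay_of (gen : GEN.{u}) (nrm : NRM.{u}) (pl : PL.{u}) (tw : TW.{u}) (cz : CZ.{u}) (fr : FR.{u}) (nc : NC4.{u})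
    (j1 : J1.{u}) (j1' : J1'.{u}) (j2 : J2.{u}) (j2' : J2'.{u}) (j3 : J3.{u}) (j3' : J3'.{u}) (j4 : J4.{u})
    (j4' : J4'.{u}) (j5 : J5.{u}) (j5' : J5'.{u}) : LAY.{u} := by
  intro G _ _ R _ H r h
  have h1 := j1 gen nrm G R H r h
  have h2 : g2 R ≠ ⊥ → N2' R H r := fun e => j2' fr G R H r (j2 gen pl cz G R H r (j1' pl tw G R H r h1) e)
  refine ⟨h1, h2, fun e => ?_⟩
  have e2 : g2 R ≠ ⊥ := fun e' => e (by rw [g3, e', commutator_bot_left])
  have h4 := j4' nrm pl fr G R H r (j4 gen pl cz fr G R H r (j3' pl tw cz G R H r (j3 nrm G R H r (h2 e2) e)))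
  exact ⟨h4, j5' nc G R H r (j5 pl tw cz G R H r h4)⟩

theorem con_of_two {G : Type u} [Group G] [Finite G] {m : ℕ} (h : ∀ d ∈ cdSet G, d = 1 ∨ d = m) : Con G := by
  refine ⟨(Finset.card_le_card (t := {1, m}) fun d hd => by simpa using h d hd).trans
    (Finset.card_le_two.trans (by norm_num)), ?_⟩
  rw [derivedSeries_succ, derivedSeries_two_eq_bot_of_cdSet h, commutator_bot_left]

theorem top_of (ns : NSYL.{u}) (cyc : CYC.{u}) (spl : SPL.{u}) (r1 : RED1.{u}) (r2 : RED2.{u}) (r3 : RED3.{u})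
    (deg : DEG.{u}) (m1a : M1A.{u}) (m1b : M1B.{u}) (free : FREE.{u}) (m2a : M2A.{u}) (m2b : M2B.{u}) (fld : FLD.{u})
    (m2c : M2C.{u}) (tp : TP3.{u}) (G : Type u) [Group G] [Finite G] (hs : Group.IsSolvable G) (nd : ND G) : Con G := by
  by_cases hc : commutator G = ⊥
  · exact con_of_two (m := 1) fun d hd => Or.inl (comm_iff_cdSet_subset.1 (commutator_eq_bot_iff_comm.1 hc) d hd)
  rcases nd.layer hs hc with h | ⟨N, K, hN, r, F⟩
  · by_cases e : ∃ m ∈ cdSet G, m ≠ 1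
    · obtain ⟨m, hm, m1⟩ := e
      exact con_of_two (m := m) fun d hd => or_iff_not_imp_left.2 fun d1 => h d hd m hm d1 m1
    · exact con_of_two (m := 1) fun d hd => Or.inl (by_contra fun d1 => e ⟨d, hd, d1⟩)
  have := Fact.mk F.hq
  obtain ⟨R, hR⟩ := exists_isSylowIn (p := r) N
  have hy := cyc G N K r F
  by_cases hn : R.Normal
  · rcases spl G N K R r nd F hy hR with h | h
    · refine con_of_two (m := N.index) fun d hd => or_iff_not_imp_left.2 fun d1 => nd d hd _ F.mem d1 ?_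
      obtain ⟨χ, hχ, rfl⟩ := mem_cdSet.1 hd
      exact isIrr_degree_dvd_index_of_abelian_normal hχ hχ.cast_charDegree.symm N h
    · refine ns G R r F.hq hR.isPGroup (fun e => ?_) h nd
      rw [← relIndex_mul_index hR.le] at e
      exact (F.hq.dvd_mul.1 e).elim hR.not_dvd F.nd
  obtain ⟨M, hM⟩ := r1 G N K R r hs nd F hR hn
  obtain ⟨W, _, _, _, hW⟩ := r2 G N R M r hs nd hM
  obtain ⟨e, q, n, h⟩ := r3 G N K R M r W hs nd F hy hM hW
  have h2 := m2a free _ W _ _ _ r q n h (m1b deg _ W _ _ _ r q n h (m1a deg _ W _ _ _ r q n h))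
  exact tp G N K r hs nd F (e ▸ m2c fld _ W _ _ _ r q n h2 (m2b _ W _ _ _ r q n h2))

end CL.ND4
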